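import Cfsg.Agent.Lib.Spor.JFourType.Basic
import Cfsg.Agent.S5599
import Cfsg.Agent.Lib.Spor.Golay.CensusTools

/-! The stabiliser of a duad in the Mathieu group of degree 24 is the automorphism group of the group on 22 points. -/

set_option autoImplicit false

open scoped Pointwise

namespace Cfsg.Agent.Spor.JFour.Duads

open Cfsg Cfsg.Agent.Spor.Golay

/-- The pair of the two fixed points of the group on 22 points. -/
abbrev pair0 : Finset GolayPt := {none, some 0}

theorem exists_swap : ∃ g ∈ Cfsg.M24, g none = some 0 ∧ g (some 0) = none := by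
  haveI := M24_pretransitive (show 2 ≤ 5 by norm_num)
  let x : Fin 2 ↪ GolayPt := ⟨![none, some 0], fun i j e => by revert e; fin_cases i <;> fin_cases j <;> simp⟩
  let y : Fin 2 ↪ GolayPt := ⟨![some 0, none], fun i j e => by revert e; fin_cases i <;> fin_cases j <;> simp⟩
  obtain ⟨g, hg⟩ := MulAction.exists_smul_eq ↥Cfsg.M24 x y
  exact ⟨g, g.2, congrArg (fun z => z 0) hg, congrArg (fun z => z 1) hg⟩

/-- The stabiliser of the pair in the group of the code, inside the symmetric group. -/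
abbrev Pair0 : Subgroup (Equiv.Perm GolayPt) :=
  Cfsg.M24 ⊓ MulAction.stabilizer (Equiv.Perm GolayPt) pair0

theorem M22_le : Cfsg.Spor.M22 ≤ Pair0 := fun x hx => by
  obtain ⟨h1, h2, h3⟩ := Cfsg.Agent.S5599.mem22.1 hx
  refine Subgroup.mem_inf.2 ⟨h1, ?_⟩
  rw [MulAction.mem_stabilizer_iff, Finset.smul_finset_insert, Finset.smul_finset_singleton, Equiv.Perm.smul_def,
    Equiv.Perm.smul_def, h2, h3]

theorem pair0_cases {g : Equiv.Perm GolayPt} (hg : g ∈ Pair0) :
    g ∈ Cfsg.Spor.M22 ∨ g none = some 0 ∧ g (some 0) = none := by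
  obtain ⟨h1, h2⟩ := Subgroup.mem_inf.1 hg
  rw [MulAction.mem_stabilizer_iff] at h2
  have hmem : ∀ p, p = none ∨ p = some 0 → g p = none ∨ g p = some 0 := by
    intro p hp
    have : g p ∈ g • pair0 := Finset.smul_mem_smul_finset (by simpa using hp)
    rw [h2] at this
    simpa using this
  have hne : g none ≠ g (some 0) := fun e => by simpa using g.injective e
  rcases hmem none (Or.inl rfl) with e | e <;> rcases hmem (some 0) (Or.inr rfl) with e' | e'
  · exact absurd (e.trans e'.symm) hne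
  · exact Or.inl (Cfsg.Agent.S5599.mem22.2 ⟨h1, e, e'⟩)
  · exact Or.inr ⟨e, e'⟩
  · exact absurd (e.trans e'.symm) hne

theorem pair0_normal {g : Equiv.Perm GolayPt} (hg : g ∈ Pair0) :
    ∀ x ∈ Cfsg.Spor.M22, g * x * g⁻¹ ∈ Cfsg.Spor.M22 := by
  rcases pair0_cases hg with h | ⟨h1, h2⟩
  · exact fun x hx => mul_mem (mul_mem h hx) (inv_mem h)
  · exact (Cfsg.Agent.S5599.result g (Subgroup.mem_inf.1 hg).1 h1 h2).2.1

theorem conjAutOf_mul {g h : Equiv.Perm GolayPt} (hg : ∀ x ∈ Cfsg.Spor.M22, g * x * g⁻¹ ∈ Cfsg.Spor.M22)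
    (hh : ∀ x ∈ Cfsg.Spor.M22, h * x * h⁻¹ ∈ Cfsg.Spor.M22)
    (hgh : ∀ x ∈ Cfsg.Spor.M22, g * h * x * (g * h)⁻¹ ∈ Cfsg.Spor.M22) :
    Golay.Aut.conjAutOf _ (g * h) hgh = Golay.Aut.conjAutOf _ g hg * Golay.Aut.conjAutOf _ h hh := by
  refine MulEquiv.ext fun x => Subtype.ext ?_
  rw [Golay.Aut.conjAutOf_apply, MulAut.mul_apply, Golay.Aut.conjAutOf_apply, Golay.Aut.conjAutOf_apply]
  group

/-- Conjugation. -/
noncomputable def toAut : ↥Pair0 →* MulAut ↥Cfsg.Spor.M22 where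
  toFun g := Golay.Aut.conjAutOf _ g (pair0_normal g.2)
  map_one' := MulEquiv.ext fun x => Subtype.ext (by rw [Golay.Aut.conjAutOf_apply]; simp)
  map_mul' g h := conjAutOf_mul (pair0_normal g.2) (pair0_normal h.2) (pair0_normal (mul_mem g.2 h.2))

theorem toAut_bijective : Function.Bijective toAut := by
  classical
  obtain ⟨s, hs, hs1, hs2⟩ := exists_swap
  have hinj : Function.Injective toAut := (injective_iff_map_eq_one _).2 fun g hg => by
    have hc : ∀ x ∈ Cfsg.Spor.M22, (g : Equiv.Perm GolayPt) * x * (g : Equiv.Perm GolayPt)⁻¹ = x := fun x hx => by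
      have := congrArg (fun a : MulAut _ => ((a ⟨x, hx⟩ : ↥Cfsg.Spor.M22) : Equiv.Perm GolayPt)) hg
      exact this
    rcases pair0_cases g.2 with h | ⟨h1, h2⟩
    · exact Subtype.ext (JFour.Setting.M22_center h fun x hx => (mul_inv_eq_iff_eq_mul.1 (hc x hx)).symm)
    · exact absurd ⟨1, one_mem _, fun x hx => by rw [hc x hx]; simp⟩
        (Cfsg.Agent.S5599.result g (Subgroup.mem_inf.1 g.2).1 h1 h2).2.2
  refine hinj.bijective_of_nat_card_le (le_of_eq ?_)
  have hcard : Nat.card ↥Pair0 = 887040 := by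
    rw [← Subgroup.relIndex_bot_left, ← Subgroup.relIndex_mul_relIndex ⊥ Cfsg.Spor.M22 Pair0 bot_le M22_le,
      Subgroup.relIndex_bot_left, Fus.Mathieu.card22, (Cfsg.Agent.S5599.result s hs hs1 hs2).1]
  have hconj : Function.Injective (MulAut.conj : ↥Cfsg.Spor.M22 →* MulAut ↥Cfsg.Spor.M22) :=
    (injective_iff_map_eq_one _).2 fun a ha => Subtype.ext (JFour.Setting.M22_center a.2 fun x hx => by
      have := congrArg (fun b : MulAut _ => ((b ⟨x, hx⟩ : ↥Cfsg.Spor.M22) : Equiv.Perm GolayPt)) ha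
      exact (mul_inv_eq_iff_eq_mul.1 this).symm)
  have hI : (Inn ↥Cfsg.Spor.M22).index = 2 := S2062.result
  rw [hcard, ← (Inn ↥Cfsg.Spor.M22).card_mul_index, hI,
    show Nat.card ↥(Inn ↥Cfsg.Spor.M22) = Nat.card ↥Cfsg.Spor.M22 from
      (Nat.card_congr (Equiv.ofInjective _ hconj)).symm, Fus.Mathieu.card22]

/-- The stabiliser of any duad is isomorphic to the automorphism group. -/
theorem duad_stabilizer {s : Finset GolayPt} (hs : s.card = 2) :
    Nonempty (↥(MulAction.stabilizer ↥Cfsg.M24 s) ≃* MulAut ↥Cfsg.Spor.M22) := by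
  classical
  obtain ⟨a, ha, hae⟩ := Census.exists_pair hs
  obtain ⟨b, hb, hbe⟩ := Census.exists_pair (s := pair0) (by decide)
  let g : ↥Cfsg.M24 := ⟨a * b⁻¹, mul_mem ha (inv_mem hb)⟩
  have hg : g • pair0 = s := by
    show (a * b⁻¹) • pair0 = s
    rw [← hbe, smul_smul, inv_mul_cancel_right, hae]
  let e0 : ↥(MulAction.stabilizer ↥Cfsg.M24 pair0) ≃* ↥Pair0 :=
    { toFun := fun x => ⟨(x : ↥Cfsg.M24), Subgroup.mem_inf.2 ⟨(x : ↥Cfsg.M24).2, x.2⟩⟩
      invFun := fun x => ⟨⟨x, (Subgroup.mem_inf.1 x.2).1⟩, (Subgroup.mem_inf.1 x.2).2⟩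
      left_inv := fun x => rfl
      right_inv := fun x => rfl
      map_mul' := fun x y => rfl }
  refine ⟨(MulEquiv.subgroupCongr ?_).trans ((((MulAction.stabilizer ↥Cfsg.M24 pair0).equivMapOfInjective
    (MulAut.conj g).toMonoidHom (MulAut.conj g).injective).symm.trans e0).trans
      (MulEquiv.ofBijective toAut toAut_bijective))⟩
  rw [← hg]
  exact MulAction.stabilizer_smul_eq_stabilizer_map_conj g pair0

end Cfsg.Agent.Spor.JFour.Duads
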