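import Cfsg.Agent.Lib.Spor.JFourType.Mathieu.Fusion
import Cfsg.Agent.Lib.Spor.JFourType.Mathieu.DuadStab
import Cfsg.Prelude.Def_KGroupFacts

/-!
The normaliser of the elementary abelian group of order 2048 splits with complement the Mathieu group of degree 24,
and the centraliser of an involution of the second class splits with complement the automorphism group of the group
on 22 points.
-/

set_option autoImplicit false
set_option maxRecDepth 100000
set_option linter.style.haveILetI false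

open Cfsg Cfsg.Agent.Spor.Golay
open Cfsg.Agent.Spor.Cos.J4Sub (app mm)
open scoped Pointwise

namespace Cfsg.Agent.Spor.JFour.Frame

open Mathieu

variable {G : Type*} [Group G] {z : G} {P : Subgroup G} {S : Setting z P} (Fr : Frame S) [Finite G]

theorem A_core {x : G} (hx : x ∈ Fr.A) (hE : x ∈ twoCoreOfCentralizer z) :
    ∃ n < 64, S.rep x = Fr.F.Φ n := by
  obtain ⟨v, hv, rfl⟩ := hx
  have hk : v / 128 < 16 := by omega
  have hzl : zp z (v.testBit 0) * Fr.F.lh (v / 2 % 64) ∈ twoCoreOfCentralizer z :=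
    mul_mem (S.zp_mem_E _) (Fr.F.toCoord.lh_spec _).1
  have hb : Fr.X.b (v / 128) ∈ twoCoreOfCentralizer z := by
    have := mul_mem (inv_mem hzl) hE
    rwa [Av, inv_mul_cancel_left] at this
  have h0 : v / 128 = 0 := by
    refine Fr.X.b_inj hk (by norm_num) ?_
    rw [Fr.X.b_zero, one_mul]
    exact S.fix _ hb (S.mem_iff.1 (Fr.X.mem _ hk)).2.symm
  refine ⟨v / 2 % 64, Nat.mod_lt _ (by norm_num), ?_⟩
  rw [Av, h0, Fr.X.b_zero, mul_one, S.rep_mul _ (S.zp_mem_E _) _ (Fr.F.toCoord.lh_spec _).1,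
    (S.rep_zero _ (S.zp_mem_E _)).2 (by cases v.testBit 0 <;> simp [zp]), zero_add, (Fr.F.toCoord.lh_spec _).2.1]

theorem A_elem : IsElementaryAbelian 2 Fr.A :=
  ⟨⟨⟨fun a b => Subtype.ext (Fr.A_comm _ a.2 _ b.2)⟩⟩, fun a ha => by rw [pow_two]; exact Fr.A_sq a ha⟩

/-- The splitting. -/
theorem exists_M24 (D : Fr.Duadic) :
    ∃ (f : ↥(Subgroup.normalizer (Fr.A : Set G)) →* ↥Cfsg.M24) (K : Subgroup G),
      K ≤ Subgroup.normalizer (Fr.A : Set G) ∧ K ⊓ Fr.A = ⊥ ∧ K ⊔ Fr.A = Subgroup.normalizer (Fr.A : Set G) ∧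
        (∀ n a b, a ≠ b → Fr.actV n (cV a + cV b) =
          cV ((f n : Equiv.Perm GolayPt) a) + cV ((f n : Equiv.Perm GolayPt) b)) ∧
        ∃ e : ↥K ≃* ↥Cfsg.M24, ∀ x : ↥K, ∀ hx : (x : G) ∈ Subgroup.normalizer (Fr.A : Set G), e x = f ⟨x, hx⟩ := by
  obtain ⟨f, hker, hsurj, hf⟩ := Fr.exists_toM24 D
  obtain ⟨K0, hK0, hK0A, hK0c⟩ := Fr.F.exists_complement_two (A := Fr.A) Fr.A_comm
    (fun n hn => ⟨Fr.F.lh n, Fr.Av_low hn ▸ Fr.Av_mem (by omega), (Fr.F.toCoord.lh_spec n).1,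
      (Fr.F.toCoord.lh_spec n).2.1⟩)
    (fun x hx hE => Fr.A_core hx hE) Fr.core_mem_normalizer
    (fun i hi => Fr.mem_normalizer_of_act (Fr.act_fl hi)) (Fr.fl_sq_ne D)
  obtain ⟨K, h1, h2, h3, e, he⟩ := Mathieu.exists_complement Fr.A_comm (k := 11) Fr.card_A hK0 hK0A
    (d := 239085) (by decide) (by rw [D.card, Fr.card_A, hK0c]; norm_num) f hker
    (by rw [D.card, Fr.card_A])
  exact ⟨f, K, h1, h2, h3, hf, e, he⟩

/-- Conjugates of the splitting. -/
theorem split_conj {A K N : Subgroup G} (g : G) (hKN : K ≤ N) (hKA : K ⊓ A = ⊥) (hsup : K ⊔ A = N) :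
    K.map (MulAut.conj g).toMonoidHom ≤ N.map (MulAut.conj g).toMonoidHom ∧
      K.map (MulAut.conj g).toMonoidHom ⊓ A.map (MulAut.conj g).toMonoidHom = ⊥ ∧
      K.map (MulAut.conj g).toMonoidHom ⊔ A.map (MulAut.conj g).toMonoidHom = N.map (MulAut.conj g).toMonoidHom :=
  ⟨Subgroup.map_mono hKN, by rw [← Subgroup.map_inf _ _ _ (MulAut.conj g).injective, hKA, Subgroup.map_bot],
    by rw [← Subgroup.map_sup, hsup]⟩

omit [Finite G] in
theorem normalizer_conj (A : Subgroup G) (g : G) :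
    (Subgroup.normalizer (A : Set G)).map (MulAut.conj g).toMonoidHom =
      Subgroup.normalizer ((A.map (MulAut.conj g).toMonoidHom : Subgroup G) : Set G) :=
  Subgroup.map_equiv_normalizer_eq A (MulAut.conj g)

omit [Finite G] in
theorem centralizer_conj (A : Set G) (g x : G) :
    x ∈ Subgroup.centralizer ((MulAut.conj g) '' A) ↔ g⁻¹ * x * g ∈ Subgroup.centralizer A := by
  simp only [Subgroup.mem_centralizer_iff, Set.forall_mem_image, MulAut.conj_apply]
  refine forall₂_congr fun a _ => ⟨fun h => ?_, fun h => ?_⟩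
  · have := congrArg (fun y => g⁻¹ * y * g) h
    simpa [mul_assoc] using this
  · have := congrArg (fun y => g * y * g⁻¹) h
    simpa [mul_assoc] using this

/-- The statement on an elementary abelian group of order 2048. -/
theorem normalizer_split (D : Fr.Duadic) {V : Subgroup G} {g : G} (hV : V = Fr.A.map (MulAut.conj g).toMonoidHom) :
    Subgroup.centralizer (V : Set G) ≤ V ∧ ∃ K : Subgroup G, K ≤ Subgroup.normalizer (V : Set G) ∧ K ⊓ V = ⊥ ∧
      K ⊔ V = Subgroup.normalizer (V : Set G) ∧ Cfsg.Spor.IsoM24 ↥K := by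
  subst hV
  refine ⟨fun x hx => ?_, ?_⟩
  · rw [Subgroup.coe_map] at hx
    exact ⟨g⁻¹ * x * g, D.self ((centralizer_conj _ g x).1 hx), by simp [mul_assoc]⟩
  · obtain ⟨f, K, h1, h2, h3, -, e, -⟩ := Fr.exists_M24 D
    obtain ⟨k1, k2, k3⟩ := split_conj g h1 h2 h3
    rw [normalizer_conj] at k1 k3
    exact ⟨_, k1, k2, k3, ⟨(K.equivMapOfInjective _ (MulAut.conj g).injective).symm.trans e⟩⟩

/-- The centraliser of an element of the second class. -/
theorem centralizer_split (D : Fr.Duadic) {v : ℕ} (hv : v < 2048) (hT : tMask.testBit v = true)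
    (hC : Subgroup.centralizer ({Fr.Av v} : Set G) ≤ Subgroup.normalizer (Fr.A : Set G)) :
    ∃ K : Subgroup G, K ≤ Subgroup.centralizer ({Fr.Av v} : Set G) ∧
      Fr.A ≤ Subgroup.centralizer ({Fr.Av v} : Set G) ∧ K ⊓ Fr.A = ⊥ ∧
      K ⊔ Fr.A = Subgroup.centralizer ({Fr.Av v} : Set G) ∧ Nonempty (↥K ≃* MulAut ↥Cfsg.Spor.M22) := by
  classical
  obtain ⟨f, K, hKN, hKA, hsup, hf, e, he⟩ := Fr.exists_M24 D
  obtain ⟨a, b, hab, hval⟩ := mask_duad hv hT
  set C := Subgroup.centralizer ({Fr.Av v} : Set G) with hCdef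
  have hAC : Fr.A ≤ C := fun x hx => Subgroup.mem_centralizer_singleton_iff.2 (Fr.A_comm _ hx _ (Fr.Av_mem hv))
  refine ⟨K ⊓ C, inf_le_right, hAC, ?_, le_antisymm (sup_le inf_le_right hAC) fun x hx => ?_, ?_⟩
  · exact le_bot_iff.1 (hKA ▸ inf_le_inf_right _ inf_le_left)
  · have hxN := hC hx
    rw [← hsup, ← SetLike.mem_coe, Subgroup.coe_mul_of_left_le_normalizer_right _ _ hKN] at hxN
    obtain ⟨k, hk, α, hα, rfl⟩ := hxN
    refine Subgroup.mul_mem_sup (Subgroup.mem_inf.2 ⟨hk, ?_⟩) hα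
    have := mul_mem hx (inv_mem (hAC hα))
    simpa using this
  · have hiff : ∀ k : ↥K, (k : G) ∈ C ↔ e k ∈ MulAction.stabilizer ↥Cfsg.M24 ({a, b} : Finset GolayPt) := by
      intro k
      have hkN := hKN k.2
      rw [MulAction.mem_stabilizer_iff, he k hkN]
      set σ := (f ⟨k, hkN⟩ : Equiv.Perm GolayPt) with hσ
      have hsm : (f ⟨k, hkN⟩ • ({a, b} : Finset GolayPt)) = {σ a, σ b} := by
        show σ • ({a, b} : Finset GolayPt) = _
        rw [Finset.smul_finset_insert, Finset.smul_finset_singleton]; rfl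
      rw [hsm, hCdef, Subgroup.mem_centralizer_singleton_iff]
      have h1 : Fr.actV ⟨k, hkN⟩ (vb v) = cV (σ a) + cV (σ b) := by
        rw [← hval, duad_eq]; exact hf _ a b hab
      constructor
      · intro h
        refine cocode.pair_inj (Finset.card_pair fun e' => hab (σ.injective e')) (Finset.card_pair hab) ?_
        rw [Finset.sum_pair fun e' => hab (σ.injective e'), Finset.sum_pair hab, ← h1, ← duad_eq, hval]
        exact Fr.actV_vb _ hv hv (by rw [show (k : G) * Fr.Av v = Fr.Av v * k from h, mul_inv_cancel_right])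
      · intro h
        have h2 : cV (σ a) + cV (σ b) = vb v := by
          have := congrArg (fun s : Finset GolayPt => ∑ i ∈ s, cV i) h
          simp only [Finset.sum_pair fun e' => hab (σ.injective e'), Finset.sum_pair hab] at this
          rw [this, ← duad_eq, hval]
        obtain ⟨w, hw, ew⟩ := (Subgroup.mem_normalizer_iff.1 hkN _).1 (Fr.Av_mem hv)
        rw [Fr.actV_vb _ hv hw ew.symm] at h1
        have hwv : w = v := vb_inj hw hv (h1.trans h2)
        rw [hwv] at ew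
        exact mul_inv_eq_iff_eq_mul.1 ew.symm
    obtain ⟨i⟩ := Duads.duad_stabilizer (Finset.card_pair hab)
    let j : ↥(K ⊓ C) ≃* ↥(MulAction.stabilizer ↥Cfsg.M24 ({a, b} : Finset GolayPt)) :=
      { toFun := fun k => ⟨e ⟨k, k.2.1⟩, (hiff ⟨k, k.2.1⟩).1 k.2.2⟩
        invFun := fun s => ⟨(e.symm s : G), (e.symm s).2, (hiff _).2 (by rw [e.apply_symm_apply]; exact s.2)⟩
        left_inv := fun k => Subtype.ext (by simp)
        right_inv := fun s => Subtype.ext (by simp)
        map_mul' := fun x y => Subtype.ext (by simp [← map_mul]) }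
    exact ⟨j.trans i⟩

/-- The statement on an involution not conjugate to the central one. -/
theorem second_centralizer (D : Fr.Duadic) (T : Sylow 2 G) (hT : (T : Subgroup G) ≤ Subgroup.normalizer (Fr.A : Set G))
    (hz : ∀ v, v < 2048 → v ≠ 0 → tMask.testBit v = false → IsConj z (Fr.Av v))
    (hC : ∀ v, v < 2048 → tMask.testBit v = true →
      Subgroup.centralizer ({Fr.Av v} : Set G) ≤ Subgroup.normalizer (Fr.A : Set G))
    {t : G} (ht : orderOf t = 2) (hnc : ¬ IsConj z t) :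
    ∃ V K : Subgroup G, V ≤ Subgroup.centralizer ({t} : Set G) ∧ K ≤ Subgroup.centralizer ({t} : Set G) ∧
    Subgroup.centralizer ({t} : Set G) ≤ Subgroup.normalizer (V : Set G) ∧ Cfsg.IsElementaryAbelian 2 V ∧
    Nat.card ↥V = 2 ^ 11 ∧ K ⊓ V = ⊥ ∧ K ⊔ V = Subgroup.centralizer ({t} : Set G) ∧
    Nonempty (↥K ≃* MulAut ↥Cfsg.Spor.M22) := by
  haveI : Fact (Nat.Prime 2) := ⟨Nat.prime_two⟩
  have htt : t * t = 1 := by rw [← pow_two, ← ht, pow_orderOf_eq_one]
  obtain ⟨T', hT'⟩ := (IsPGroup.of_card (p := 2) (n := 1) (by rw [Nat.card_zpowers, ht, pow_one]) :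
    IsPGroup 2 ↥(Subgroup.zpowers t)).exists_le_sylow
  obtain ⟨h, hh⟩ := MulAction.exists_smul_eq G T' T
  have htN : h * t * h⁻¹ ∈ Subgroup.normalizer (Fr.A : Set G) := hT (by
    have := Subgroup.smul_mem_pointwise_smul _ (MulAut.conj h) _ (hT' (Subgroup.mem_zpowers t))
    change _ ∈ ((h • T' : Sylow 2 G) : Subgroup G) at this
    rw [hh] at this
    simpa [MulAut.smul_def] using this)
  obtain ⟨k, hk⟩ := Fr.invol_into D htN (by
    rw [show h * t * h⁻¹ * (h * t * h⁻¹) = h * (t * t) * h⁻¹ by group, htt]; group)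
  obtain ⟨v, hv, hve⟩ := hk
  set g := (k * h)⁻¹ with hg
  have hgt : g * Fr.Av v * g⁻¹ = t := by rw [hve, hg]; group
  have hne : v ≠ 0 := fun e => by
    rw [e, Fr.Av_zero, mul_one, mul_inv_cancel] at hgt
    rw [← hgt, orderOf_one] at ht
    omega
  have hTv : tMask.testBit v = true := by
    by_contra hc
    rw [Bool.not_eq_true] at hc
    exact hnc ((hz v hv hne hc).trans (isConj_iff.2 ⟨g, hgt⟩))
  obtain ⟨K, hKC, hAC, hKA, hsup, ⟨i⟩⟩ := Fr.centralizer_split D hv hTv (hC v hv hTv)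
  have himg : (MulAut.conj g) '' ({Fr.Av v} : Set G) = {t} := by
    rw [Set.image_singleton, MulAut.conj_apply, hgt]
  have hCmap : (Subgroup.centralizer ({Fr.Av v} : Set G)).map (MulAut.conj g).toMonoidHom =
      Subgroup.centralizer ({t} : Set G) := by
    ext x
    rw [← himg, centralizer_conj, Subgroup.mem_map]
    constructor
    · rintro ⟨y, hy, rfl⟩
      simpa [mul_assoc] using hy
    · intro hx
      exact ⟨_, hx, by simp [mul_assoc]⟩
  obtain ⟨k1, k2, k3⟩ := split_conj g hKC hKA hsup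
  refine ⟨Fr.A.map (MulAut.conj g).toMonoidHom, K.map (MulAut.conj g).toMonoidHom, ?_, ?_, ?_, ?_, ?_, k2, ?_, ?_⟩
  · rw [← hCmap]; exact Subgroup.map_mono hAC
  · rw [← hCmap]; exact k1
  · rw [← hCmap, ← normalizer_conj]; exact Subgroup.map_mono (hC v hv hTv)
  · refine ⟨⟨⟨fun a b => ?_⟩⟩, ?_⟩
    · obtain ⟨_, x, hx, rfl⟩ := a
      obtain ⟨_, y, hy, rfl⟩ := b
      refine Subtype.ext ?_
      show _ * _ = _ * _
      rw [← map_mul, ← map_mul, Fr.A_comm x hx y hy]
    · rintro _ ⟨x, hx, rfl⟩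
      rw [← map_pow, pow_two, Fr.A_sq x hx, map_one]
  · rw [Nat.card_congr (Fr.A.equivMapOfInjective _ (MulAut.conj g).injective).symm.toEquiv, Fr.card_A]
  · rw [← hCmap]; exact k3
  · exact ⟨(K.equivMapOfInjective _ (MulAut.conj g).injective).symm.trans i⟩

end Cfsg.Agent.Spor.JFour.Frame
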