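import Cfsg.Agent.Lib.Spor.JFourType.Mathieu.Duads

/-!
The even cocode in the coordinates of the elementary abelian group of order 2048: twenty-four vectors of eleven bits
and the 276 classes of duads.
-/

set_option autoImplicit false
set_option maxRecDepth 100000
set_option Elab.async false

namespace Cfsg.Agent.Spor.JFour.Mathieu

open Cfsg Cfsg.Agent.Spor.Golay

/-- Eleven bits as a vector. -/
abbrev V11 : Type := Fin 11 → ZMod 2

/-- The vector of a number. -/
def vb (v : ℕ) : V11 := fun i => if v.testBit i then 1 else 0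

/-- The twenty-four vectors. -/
def cN (i : ℕ) : ℕ :=
  [0, 2, 4, 7, 1158, 263, 1771, 1211, 723, 1670, 1269, 1757, 1225, 398, 294, 685, 761, 358, 391, 646, 414, 406, 1713, 326].getD i 0

/-- The vectors at the points. -/
def cV (p : GolayPt) : V11 := vb (cN (idx p))

/-- The classes of the duads. -/
def tMask : ℕ :=
  0x88010010480200108402001088020022020102004080808804080800101010200009a00a6000000006a00000000005680080110012080042001084004401001200480012008400110088001200880020804080880804080102020200101010200a6000000006a009a000000000000568001200408200140018008101004400140200801801008018020040180200802408080802010202008080408010101026a000000009a00000000a6000000005601082040080180102080010440100401000000000000000000000000565656a9000000560000005600000056000000a901010102010101020101010202020201c00c30030c30c00330c00c03030303fc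

/-- Sums of duads giving the unit vectors. -/
def unitDuads : ℕ → List ℕ
  | 0 => [1, 2, 3]
  | 1 => [1]
  | 2 => [2]
  | 3 => [2, 3, 4, 6, 7, 11]
  | 4 => [1, 3, 7, 9, 10, 11]
  | 5 => [2, 3, 6, 7, 9, 10]
  | 6 => [1, 3, 4, 6, 10, 11]
  | 7 => [2, 3, 6, 7, 8]
  | 8 => [3, 5]
  | 9 => [4, 9]
  | 10 => [1, 3, 4, 6, 7, 8]
  | _ => []

/-- The sum over the points of a mask below `n`. -/
def sumTo (m : ℕ) : ℕ → ℕ
  | 0 => 0
  | n + 1 => (if m.testBit n then cN n else 0) ^^^ sumTo m n

theorem cN_lt : ((List.range 24).all fun i => decide (cN i < 2048)) = true := by decide +kernel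

theorem code_check : (basis.all fun b => sumTo b 24 == 0) = true := by decide +kernel

theorem ker_check : ((List.range 4096).all fun r =>
    !(pop (r <<< 12) % 2 == 0) || !(sumTo (r <<< 12) 24 == 0) || (r == 0)) = true := by decide +kernel

theorem mask_check : ((List.range 24).all fun a => (List.range 24).all fun b =>
      (a == b) || tMask.testBit (cN a ^^^ cN b)) = true ∧
    ((List.range 2048).all fun v => !(tMask.testBit v) ||
      (List.range 24).any fun a => (List.range 24).any fun b => (a != b) && (cN a ^^^ cN b == v)) = true ∧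
    tMask.testBit 1 = false ∧ tMask.testBit 0 = false := by
  decide +kernel

theorem unit_check : ((List.range 11).all fun i =>
    ((unitDuads i).all fun a => (a != 0) && decide (a < 24)) &&
      ((unitDuads i).foldr (fun a s => cN 0 ^^^ cN a ^^^ s) 0 == 2 ^ i)) = true := by decide +kernel

theorem vb_xor (a b : ℕ) : vb (a ^^^ b) = vb a + vb b := by
  funext i
  simp only [vb, Pi.add_apply, Nat.testBit_xor]
  cases a.testBit i <;> cases b.testBit i <;> simp <;> decide

theorem vb_zero : vb 0 = 0 := by funext i; simp [vb]

theorem vb_inj {a b : ℕ} (ha : a < 2048) (hb : b < 2048) (h : vb a = vb b) : a = b := by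
  refine Nat.eq_of_testBit_eq fun i => ?_
  by_cases hi : i < 11
  · have := congrFun h ⟨i, hi⟩
    simp only [vb] at this
    revert this
    cases a.testBit i <;> cases b.testBit i <;> simp
  · rw [Nat.testBit_lt_two_pow (lt_of_lt_of_le ha (Nat.pow_le_pow_right two_pos (show 11 ≤ i by omega))),
      Nat.testBit_lt_two_pow (lt_of_lt_of_le hb (Nat.pow_le_pow_right two_pos (show 11 ≤ i by omega)))]

theorem exists_num (v : V11) : ∃ n < 2048, vb n = v := by
  have hinj : Function.Injective fun n : Fin 2048 => vb n.val := fun a b h => Fin.ext (vb_inj a.2 b.2 h)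
  have hb := hinj.bijective_of_nat_card_le (by simp [Nat.card_eq_fintype_card, Fintype.card_fun, ZMod.card])
  obtain ⟨n, hn⟩ := hb.surjective v
  exact ⟨n.val, n.2, hn⟩

theorem two_V11 (v : V11) : v + v = 0 := by
  funext i
  simp only [Pi.add_apply, Pi.zero_apply]
  generalize v i = t
  revert t
  decide

theorem sum_range_vb (m : ℕ) : ∀ n, (∑ i ∈ Finset.range n, if m.testBit i = true then vb (cN i) else 0) =
    vb (sumTo m n)
  | 0 => by simp [sumTo, vb_zero]
  | n + 1 => by
    rw [Finset.sum_range_succ, sum_range_vb m n, sumTo, vb_xor, add_comm]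
    cases m.testBit n <;> simp [vb_zero]

theorem sum_pts (m : ℕ) : ∑ p ∈ pts m, cV p = vb (sumTo m 24) := by
  rw [← sum_range_vb, pts, Finset.sum_filter]
  refine Finset.sum_bij (fun p _ => idx p) (fun p _ => Finset.mem_range.2 (idx_lt p)) (fun p _ q _ h => idx_injective h)
    (fun i hi => ⟨pt i, Finset.mem_univ _, idx_pt (Finset.mem_range.1 hi)⟩) fun p _ => rfl

theorem cN_lt' {i : ℕ} (hi : i < 24) : cN i < 2048 :=
  of_decide_eq_true (List.all_eq_true.1 cN_lt i (List.mem_range.2 hi))

theorem sumTo_lt (m : ℕ) : ∀ n ≤ 24, sumTo m n < 2048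
  | 0, _ => by norm_num [sumTo]
  | n + 1, h => by
    refine Nat.xor_lt_two_pow (n := 11) ?_ (sumTo_lt m n (by omega))
    split
    · exact cN_lt' (by omega)
    · norm_num

theorem duad_mask {a b : GolayPt} (h : a ≠ b) : tMask.testBit (cN (idx a) ^^^ cN (idx b)) = true := by
  have h1 := List.all_eq_true.1 (List.all_eq_true.1 mask_check.1 _ (List.mem_range.2 (idx_lt a))) _
    (List.mem_range.2 (idx_lt b))
  simp only [Bool.or_eq_true, beq_iff_eq] at h1
  exact h1.resolve_left fun e => h (idx_injective e)

theorem mask_duad {v : ℕ} (hv : v < 2048) (h : tMask.testBit v = true) :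
    ∃ a b : GolayPt, a ≠ b ∧ cN (idx a) ^^^ cN (idx b) = v := by
  have h1 := List.all_eq_true.1 mask_check.2.1 v (List.mem_range.2 hv)
  simp only [h, Bool.not_true, Bool.false_or, List.any_eq_true, List.mem_range, Bool.and_eq_true, bne_iff_ne, ne_eq,
    beq_iff_eq] at h1
  obtain ⟨a, ha, b, hb, hne, e⟩ := h1
  exact ⟨pt a, pt b, fun e' => hne (by simpa [idx_pt ha, idx_pt hb] using congrArg idx e'),
    by rw [idx_pt ha, idx_pt hb, e]⟩

theorem duad_eq {a b : GolayPt} : vb (cN (idx a) ^^^ cN (idx b)) = cV a + cV b := vb_xor _ _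

theorem cocode : Duads.Cocode cV where
  two := two_V11
  code b hb := by
    rw [sum_pts, beq_iff_eq.1 (List.all_eq_true.1 code_check b hb), vb_zero]
  ker r hr hp hs := by
    rw [sum_pts, ← vb_zero] at hs
    have h0 := vb_inj (sumTo_lt _ 24 le_rfl) (by norm_num) hs
    have h := List.all_eq_true.1 ker_check r (List.mem_range.2 hr)
    simp only [hp, h0, beq_self_eq_true, Bool.not_true, Bool.false_or, beq_iff_eq] at h
    exact h
  span := by
    refine eq_top_iff.2 fun v _ => ?_
    obtain ⟨n, hn, rfl⟩ := exists_num v
    set H := AddSubgroup.closure {v : V11 | ∃ a b, a ≠ b ∧ v = cV a + cV b}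
    have hfold : ∀ L : List ℕ, (∀ a ∈ L, a ≠ 0 ∧ a < 24) →
        vb (L.foldr (fun a s => cN 0 ^^^ cN a ^^^ s) 0) ∈ H := by
      intro L
      induction L with
      | nil => intro _; rw [List.foldr_nil, vb_zero]; exact H.zero_mem
      | cons a L ih =>
        intro h
        obtain ⟨ha0, ha⟩ := h a (List.mem_cons_self ..)
        rw [List.foldr_cons, vb_xor]
        refine H.add_mem (AddSubgroup.subset_closure ⟨pt 0, pt a, ?_, ?_⟩)
          (ih fun b hb => h b (List.mem_cons_of_mem _ hb))
        · intro e
          have e' := congrArg idx e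
          rw [idx_pt (by norm_num), idx_pt ha] at e'
          exact ha0 e'.symm
        · rw [← duad_eq, idx_pt (by norm_num), idx_pt ha]
    have hunit : ∀ i < 11, vb (2 ^ i) ∈ H := by
      intro i hi
      have h := List.all_eq_true.1 unit_check i (List.mem_range.2 hi)
      simp only [Bool.and_eq_true, List.all_eq_true, beq_iff_eq, bne_iff_ne, ne_eq, decide_eq_true_eq] at h
      rw [← h.2]
      exact hfold _ fun a ha => h.1 a ha
    have key : ∀ k ≤ 11, ∀ m < 2 ^ k, vb m ∈ H := by
      intro k
      induction k with
      | zero => intro _ m hm; rw [show m = 0 by simpa using hm, vb_zero]; exact H.zero_mem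
      | succ k ih =>
        intro hk m hm
        by_cases hb : m < 2 ^ k
        · exact ih (by omega) m hb
        have hlt : 2 ^ k ^^^ m < 2 ^ k := by
          refine Nat.lt_pow_two_of_testBit _ fun j hj => ?_
          rw [Nat.testBit_xor, Nat.testBit_two_pow]
          rcases eq_or_lt_of_le hj with rfl | hj
          · have hd : m / 2 ^ k = 1 := Nat.div_eq_of_lt_le (by omega) (by rw [pow_succ] at hm; omega)
            simp [Nat.testBit_eq_decide_div_mod_eq, hd]
          · rw [Nat.testBit_lt_two_pow (lt_of_lt_of_le hm (Nat.pow_le_pow_right two_pos hj))]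
            simp [show ¬ k = j by omega]
        have := H.add_mem (hunit k (by omega)) (ih (by omega) _ hlt)
        rwa [← vb_xor, ← Nat.xor_assoc, Nat.xor_self, Nat.zero_xor] at this
    exact key 11 le_rfl n hn

end Cfsg.Agent.Spor.JFour.Mathieu
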