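import Cfsg.Agent.Lib.Spor.JFourType.Basic

/-!
Lifts of involutions to the normaliser of the three-group: lifts of commuting inner involutions commute, and four
outer lifts can be chosen with the commutations of their permutations.
-/

set_option autoImplicit false

open Cfsg Cfsg.Agent.Spor.Golay

namespace Cfsg.Agent.Spor.JFour.Setting

variable {G : Type*} [Group G] {z : G} {P : Subgroup G} (S : Setting z P)

/-- An element inverting the three-group and inducing a permutation on the centraliser. -/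
structure Flip (g : G) (π : Equiv.Perm GolayPt) : Prop where
  hz : g * z = z * g
  hp : g * S.p * g⁻¹ = S.p * S.p
  mem : ∀ c ∈ CP z P, g * c * g⁻¹ ∈ CP z P
  ψ : ∀ c ∈ CP z P, S.ψ (g * c * g⁻¹) = π * S.ψ c * π⁻¹

include S

theorem flip_left {g c : G} {π : Equiv.Perm GolayPt} (hg : S.Flip g π) (hc : c ∈ CP z P) :
    S.Flip (c * g) (S.ψ c * π) := by
  obtain ⟨h1, h2⟩ := S.mem_iff.1 hc
  refine ⟨by rw [mul_assoc, hg.hz, ← mul_assoc, h1, mul_assoc], ?_, fun d hd => ?_, fun d hd => ?_⟩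
  · rw [show c * g * S.p * (c * g)⁻¹ = c * (g * S.p * g⁻¹) * c⁻¹ by group, hg.hp, ← mul_assoc c S.p, h2,
      mul_assoc S.p c, h2, ← mul_assoc, mul_inv_cancel_right]
  · rw [show c * g * d * (c * g)⁻¹ = c * (g * d * g⁻¹) * c⁻¹ by group]
    exact mul_mem (mul_mem hc (hg.mem d hd)) (inv_mem hc)
  · rw [show c * g * d * (c * g)⁻¹ = c * (g * d * g⁻¹) * c⁻¹ by group, S.ψ_conj hc (hg.mem d hd), hg.ψ d hd]
    group

theorem flip_right {g c : G} {π : Equiv.Perm GolayPt} (hg : S.Flip g π) (hc : c ∈ CP z P) :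
    S.Flip (g * c) (π * S.ψ c) := by
  obtain ⟨h1, h2⟩ := S.mem_iff.1 hc
  refine ⟨by rw [mul_assoc, h1, ← mul_assoc, hg.hz, mul_assoc], ?_, fun d hd => ?_, fun d hd => ?_⟩
  · rw [show g * c * S.p * (g * c)⁻¹ = g * (c * S.p * c⁻¹) * g⁻¹ by group, h2, mul_inv_cancel_right, hg.hp]
  · rw [show g * c * d * (g * c)⁻¹ = g * (c * d * c⁻¹) * g⁻¹ by group]
    exact hg.mem _ (mul_mem (mul_mem hc hd) (inv_mem hc))
  · rw [show g * c * d * (g * c)⁻¹ = g * (c * d * c⁻¹) * g⁻¹ by group, hg.ψ _ (mul_mem (mul_mem hc hd) (inv_mem hc)),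
      S.ψ_conj hc hd]
    group

theorem pow_p_cases {w : G} (hw : w = 1 ∨ w = z) {j : ℕ} (e : w = (S.p ^ j) * S.p ^ j) : w = 1 := by
  refine hw.resolve_right fun hz => ?_
  have h3 : (S.p ^ j * S.p ^ j) ^ 3 = 1 := by
    rw [← pow_add, ← pow_mul, mul_comm (j + j) 3, pow_mul, pow_three', S.p_pow, one_pow]
  rw [← e, hz, pow_three', S.zz, one_mul] at h3
  exact S.ext.ne h3

/-- The square of a flip inducing an involution. -/
theorem flip_sq {g : G} {π : Equiv.Perm GolayPt} (hg : S.Flip g π) (hπ : π * π = 1) :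
    g * g ∈ CP z P ∧ (g * g = 1 ∨ g * g = z) := by
  have hp2 : g * g * S.p * (g * g)⁻¹ = S.p := by
    rw [show g * g * S.p * (g * g)⁻¹ = g * (g * S.p * g⁻¹) * g⁻¹ by group, hg.hp,
      show g * (S.p * S.p) * g⁻¹ = (g * S.p * g⁻¹) * (g * S.p * g⁻¹) by group, hg.hp,
      show S.p * S.p * (S.p * S.p) = S.p * S.p * S.p * S.p by group, S.p_pow, one_mul]
  have hm : g * g ∈ CP z P := S.mem_iff.2
    ⟨by rw [mul_assoc, hg.hz, ← mul_assoc, hg.hz, mul_assoc], mul_inv_eq_iff_eq_mul.1 hp2⟩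
  refine ⟨hm, ?_⟩
  have hψ : S.ψ (g * g) = 1 := Setting.M22_center (S.ψ_mem _ hm) fun x hx => by
    obtain ⟨d, hd, rfl⟩ := S.ψ_surj x hx
    have e : S.ψ (g * g * d * (g * g)⁻¹) = S.ψ d := by
      rw [show g * g * d * (g * g)⁻¹ = g * (g * d * g⁻¹) * g⁻¹ by group, hg.ψ _ (hg.mem d hd), hg.ψ d hd,
        show π * (π * S.ψ d * π⁻¹) * π⁻¹ = π * π * S.ψ d * (π * π)⁻¹ by group, hπ]
      simp
    rw [S.ψ_conj hm hd, mul_inv_eq_iff_eq_mul] at e
    exact e.symm
  have hfix : g * (g * g) * g⁻¹ = g * g := by group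
  have hgz : g * z * g⁻¹ = z := by rw [hg.hz, mul_inv_cancel_right]
  have hgpp : g * (S.p * S.p) * g⁻¹ = S.p := by
    rw [show g * (S.p * S.p) * g⁻¹ = (g * S.p * g⁻¹) * (g * S.p * g⁻¹) by group, hg.hp,
      show S.p * S.p * (S.p * S.p) = S.p * S.p * S.p * S.p by group, S.p_pow, one_mul]
  have hne : S.p * S.p ≠ S.p := fun e => S.p_ne (mul_eq_left.1 e)
  rcases S.ker_cases hm hψ with (e | e | e) | (e | e | e)
  · exact Or.inl e
  · rw [e, hg.hp] at hfix; exact absurd hfix hne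
  · rw [e, hgpp] at hfix; exact absurd hfix.symm hne
  · exact Or.inr e
  · rw [e, show g * (z * S.p) * g⁻¹ = (g * z * g⁻¹) * (g * S.p * g⁻¹) by group, hgz, hg.hp] at hfix
    exact absurd (mul_left_cancel hfix) hne
  · rw [e, show g * (z * (S.p * S.p)) * g⁻¹ = (g * z * g⁻¹) * (g * (S.p * S.p) * g⁻¹) by group, hgz, hgpp] at hfix
    exact absurd (mul_left_cancel hfix).symm hne

/-- The product of two flips. -/
theorem flip_mul {g h : G} {π ρ : Equiv.Perm GolayPt} (hg : S.Flip g π) (hh : S.Flip h ρ)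
    (hm : π * ρ ∈ Cfsg.Spor.M22) : g * h ∈ CP z P ∧ S.ψ (g * h) = π * ρ := by
  have hp : g * h * S.p * (g * h)⁻¹ = S.p := by
    rw [show g * h * S.p * (g * h)⁻¹ = g * (h * S.p * h⁻¹) * g⁻¹ by group, hh.hp,
      show g * (S.p * S.p) * g⁻¹ = (g * S.p * g⁻¹) * (g * S.p * g⁻¹) by group, hg.hp,
      show S.p * S.p * (S.p * S.p) = S.p * S.p * S.p * S.p by group, S.p_pow, one_mul]
  have hc : g * h ∈ CP z P := S.mem_iff.2
    ⟨by rw [mul_assoc, hh.hz, ← mul_assoc, hg.hz, mul_assoc], mul_inv_eq_iff_eq_mul.1 hp⟩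
  refine ⟨hc, ?_⟩
  have := Setting.M22_center (mul_mem (inv_mem hm) (S.ψ_mem _ hc)) fun x hx => by
    obtain ⟨d, hd, rfl⟩ := S.ψ_surj x hx
    have e : S.ψ (g * h * d * (g * h)⁻¹) = π * ρ * S.ψ d * (π * ρ)⁻¹ := by
      rw [show g * h * d * (g * h)⁻¹ = g * (h * d * h⁻¹) * g⁻¹ by group, hg.ψ _ (hh.mem d hd), hh.ψ d hd]
      group
    rw [S.ψ_conj hc hd] at e
    have e2 : S.ψ (g * h) * S.ψ d = π * ρ * S.ψ d * (π * ρ)⁻¹ * S.ψ (g * h) := by
      rw [← e, inv_mul_cancel_right]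
    rw [mul_assoc ((π * ρ)⁻¹), e2]
    group
  exact (inv_mul_eq_one.1 this).symm

/-- A permutation with an involution lift. -/
def Good (π : Equiv.Perm GolayPt) : Prop := ∃ c ∈ CP z P, S.ψ c = π ∧ c * c = 1

theorem good_conj {π g : Equiv.Perm GolayPt} (h : S.Good π) (hg : g ∈ Cfsg.Spor.M22) :
    S.Good (g * π * g⁻¹) := by
  obtain ⟨c, hc, rfl, h2⟩ := h
  obtain ⟨d, hd, rfl⟩ := S.ψ_surj g hg
  exact ⟨d * c * d⁻¹, mul_mem (mul_mem hd hc) (inv_mem hd), S.ψ_conj hd hc, by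
    rw [show d * c * d⁻¹ * (d * c * d⁻¹) = d * (c * c) * d⁻¹ by group, h2, mul_one, mul_inv_cancel]⟩

variable [Finite G]

/-- Central elements of the centre squaring to one. -/
theorem one_z_central {u d : G} (hu : u = 1 ∨ u = z) (hd : d ∈ CP z P) : u * d = d * u := by
  rcases hu with rfl | rfl
  · rw [one_mul, mul_one]
  · exact (S.commz hd).symm

theorem one_z_sq {u : G} (hu : u = 1 ∨ u = z) : u * u = 1 := by
  rcases hu with rfl | rfl
  · exact one_mul 1
  · exact S.zz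

/-- The square of a product of lifts of commuting involutions is the square of a lift of the product. -/
theorem prod_sq {x y e : G} (hx : x ∈ CP z P) (hy : y ∈ CP z P) (he : e ∈ CP z P) (hx2 : x * x = 1 ∨ x * x = z)
    (hy2 : y * y = 1 ∨ y * y = z) (he2 : e * e = 1 ∨ e * e = z) (hxi : S.ψ x * S.ψ x = 1)
    (hyi : S.ψ y * S.ψ y = 1) (hc : S.ψ x * S.ψ y = S.ψ y * S.ψ x) (heψ : S.ψ e = S.ψ x * S.ψ y) :
    x * y * (x * y) = e * e := by
  have hxy := mul_mem hx hy
  have hψ2 : S.ψ x * S.ψ y * (S.ψ x * S.ψ y) = 1 := by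
    rw [show S.ψ x * S.ψ y * (S.ψ x * S.ψ y) = S.ψ x * (S.ψ y * S.ψ x) * S.ψ y by group, ← hc,
      show S.ψ x * (S.ψ x * S.ψ y) * S.ψ y = (S.ψ x * S.ψ x) * (S.ψ y * S.ψ y) by group, hxi, hyi, one_mul]
  set w := x * y * (x * y) with hw
  have hwk : S.ψ w = 1 := by rw [hw, S.ψ_mul _ hxy _ hxy, S.ψ_mul x hx y hy, hψ2]
  have hwm : w ∈ CP z P := mul_mem hxy hxy
  have hcent : ∀ {d : G}, d ∈ CP z P → w * d = d * w := fun {d} hd => S.ker_central hwm hwk hd
  have hX : ∀ {d : G}, d ∈ CP z P → x * x * d = d * (x * x) := fun {d} hd => S.one_z_central hx2 hd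
  have hY : ∀ {d : G}, d ∈ CP z P → y * y * d = d * (y * y) := fun {d} hd => S.one_z_central hy2 hd
  have hw2 : w * w = 1 := by
    -- the reversed product has the same square
    have h1 : y * x * (y * x) = w := by
      have hcx : w * x = x * w := hcent hx
      calc y * x * (y * x) = x⁻¹ * (w * x) := by rw [hw]; group
        _ = w := by rw [hcx, inv_mul_cancel_left]
    calc w * w = w * (y * x * (y * x)) := by rw [h1]
      _ = x * y * x * (y * y) * x * (y * x) := by rw [hw]; group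
      _ = x * y * (x * (y * y * x)) * (y * x) := by group
      _ = x * y * ((x * x) * (y * y) * (y * x)) := by rw [hY hx]; group
      _ = x * y * ((x * x) * ((y * y) * y) * x) := by group
      _ = x * (y * (x * x)) * ((y * y) * y) * x := by group
      _ = x * (x * x) * (y * y) * (y * y) * x := by rw [← hX hy]; group
      _ = x * (x * x) * ((y * y) * (y * y)) * x := by group
      _ = (x * x) * (x * x) := by rw [S.one_z_sq hy2]; group
      _ = 1 := S.one_z_sq hx2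
  have hw1 : w = 1 ∨ w = z := by
    have h3 : S.p * S.p * (S.p * S.p) = S.p := by
      rw [show S.p * S.p * (S.p * S.p) = S.p * S.p * S.p * S.p by group, S.p_pow, one_mul]
    have hzsq : ∀ u, u * z = z * u → z * u * (z * u) = u * u := fun u hu => by
      rw [show z * u * (z * u) = z * (u * z) * u by group, hu, ← mul_assoc, S.zz, one_mul]
    have hpp : S.p * S.p * z = z * (S.p * S.p) := by rw [mul_assoc, S.pz, ← mul_assoc, S.pz, mul_assoc]
    have hne : S.p * S.p ≠ 1 := fun e => S.p_ne (by rw [e, one_mul] at h3; exact h3.symm)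
    rcases S.ker_cases hwm hwk with (e | e | e) | (e | e | e) <;> rw [e] at hw2
    · exact Or.inl e
    · exact absurd hw2 hne
    · exact absurd (h3.symm.trans hw2) S.p_ne
    · exact Or.inr e
    · rw [hzsq _ S.pz] at hw2; exact absurd hw2 hne
    · rw [hzsq _ hpp] at hw2; exact absurd (h3.symm.trans hw2) S.p_ne
  have hu : S.ψ (e⁻¹ * (x * y)) = 1 := by
    rw [S.ψ_mul _ (inv_mem he) _ hxy, S.ψ_inv he, heψ, S.ψ_mul x hx y hy, inv_mul_cancel]
  obtain ⟨i, j, hij⟩ := S.ψ_ker _ (mul_mem (inv_mem he) hxy) hu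
  have hxye : x * y = e * (z ^ i * S.p ^ j) := by rw [← hij, mul_inv_cancel_left]
  have hcom : z ^ i * S.p ^ j * e = e * (z ^ i * S.p ^ j) := by
    rw [← hij]; exact S.ker_central (mul_mem (inv_mem he) hxy) hu he
  have hsq : w = e * e * ((S.p ^ j) * S.p ^ j) := by
    have hzi : z ^ i * S.p ^ j * (z ^ i * S.p ^ j) = S.p ^ j * S.p ^ j := by
      have hcz : S.p ^ j * z ^ i = z ^ i * S.p ^ j := ((show Commute S.p z from S.pz).pow_pow j i).eq
      rw [show z ^ i * S.p ^ j * (z ^ i * S.p ^ j) = z ^ i * (S.p ^ j * z ^ i) * S.p ^ j by group, hcz,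
        ← mul_assoc, ← pow_add, show z ^ (i + i) = 1 by rw [← two_mul, pow_mul, pow_two, S.zz, one_pow], one_mul]
    rw [hw, hxye, show e * (z ^ i * S.p ^ j) * (e * (z ^ i * S.p ^ j)) =
      e * (z ^ i * S.p ^ j * e) * (z ^ i * S.p ^ j) by group, hcom,
      show e * (e * (z ^ i * S.p ^ j)) * (z ^ i * S.p ^ j) = e * e * (z ^ i * S.p ^ j * (z ^ i * S.p ^ j)) by group,
      hzi]
  have hq : S.p ^ j * S.p ^ j = 1 := by
    refine S.pow_p_cases ?_ rfl
    have e1 : S.p ^ j * S.p ^ j = (e * e)⁻¹ * w := by rw [hsq, inv_mul_cancel_left]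
    rcases he2 with a | a <;> rcases hw1 with b | b <;> rw [e1, a, b]
    · left; group
    · right; group
    · right; rw [mul_one]; exact inv_eq_of_mul_eq_one_right S.zz
    · left; exact inv_mul_cancel z
  rw [hsq, hq, mul_one]

/-- Involution lifts of commuting permutations commute. -/
theorem inner_comm {x y : G} (hx : x ∈ CP z P) (hy : y ∈ CP z P) (hx2 : x * x = 1) (hy2 : y * y = 1)
    (hc : S.ψ x * S.ψ y = S.ψ y * S.ψ x) (hgood : S.Good (S.ψ x * S.ψ y)) : x * y = y * x := by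
  obtain ⟨e, he, heψ, hee⟩ := hgood
  have h := S.prod_sq hx hy he (Or.inl hx2) (Or.inl hy2) (Or.inl hee)
    (by rw [← S.ψ_mul x hx x hx, hx2, S.ψ_one]) (by rw [← S.ψ_mul y hy y hy, hy2, S.ψ_one]) hc heψ
  rw [hee] at h
  calc x * y = (x * y)⁻¹ := eq_inv_of_mul_eq_one_left h
    _ = y⁻¹ * x⁻¹ := mul_inv_rev x y
    _ = _ := by rw [inv_eq_of_mul_eq_one_right hx2, inv_eq_of_mul_eq_one_right hy2]

omit S [Finite G] in
theorem seven_perms :
    (wordP [4, 0] = wordP [1, 4]) ∧ (wordP [4, 4, 0] = wordP [0, 1, 4, 4]) ∧ (wordP [6, 4, 4, 0] = wordP [2, 6, 4, 4]) ∧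
      (wordP [4, 7, 0] = wordP [0, 2, 4, 7]) ∧ (wordP [4, 4, 7, 0] = wordP [1, 2, 4, 4, 7]) ∧
      (wordP [7, 0] = wordP [0, 1, 2, 7]) ∧ (wordP [0, 1] = wordP [1, 0]) ∧ (wordP [0, 2] = wordP [2, 0]) ∧
      (wordP [1, 2] = wordP [2, 1]) ∧ (wordP [0, 0] = wordP []) ∧ (wordP [1, 1] = wordP []) ∧
      (wordP [2, 2] = wordP []) := by
  decide +kernel

/-- The first involution has an involution lift. -/
theorem good_zero : S.Good (permOf (pk 0)) := by
  by_contra hno
  obtain ⟨c1, c2, c4, c5, c6, c7, m01, m02, m12, s0, s1, s2⟩ := seven_perms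
  have hgood : ∀ u v : List ℕ, (∀ k ∈ u, k < 9) → wordP (u ++ [0]) = wordP (v ++ u) → ¬ S.Good (wordπ v) := by
    intro u v hu huv h
    apply hno
    have hum : wordπ u ∈ Cfsg.Spor.M22 := by
      refine list_prod_mem fun a ha => ?_
      obtain ⟨k, hk, rfl⟩ := List.mem_map.1 ha
      exact pk_mem (hu k hk)
    have h2 := S.good_conj h (inv_mem hum)
    have e : wordπ u * permOf (pk 0) = wordπ v * wordπ u := by
      have := wordπ_congr huv
      simpa [wordπ] using this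
    rwa [inv_inv, mul_assoc, ← e, inv_mul_cancel_left] at h2
  have hz : ∀ u v : List ℕ, (∀ k ∈ u, k < 9) → wordP (u ++ [0]) = wordP (v ++ u) → ∀ c ∈ CP z P,
      S.ψ c = wordπ v → c * c = 1 ∨ c * c = z → c * c = z := fun u v hu huv c hc hψ h =>
    h.resolve_left fun e => hgood u v hu huv ⟨c, hc, hψ, e⟩
  have hsing : ∀ k, wordπ [k] = permOf (pk k) := fun k => by simp [wordπ]
  have hpair : ∀ i j, wordπ [i, j] = permOf (pk i) * permOf (pk j) := fun i j => by simp [wordπ]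
  have hi : ∀ k, wordP [k, k] = wordP [] → permOf (pk k) * permOf (pk k) = 1 := fun k h => by
    rw [← hpair, wordπ_congr h]; simp [wordπ]
  have hcm : ∀ i j, wordP [i, j] = wordP [j, i] → permOf (pk i) * permOf (pk j) = permOf (pk j) * permOf (pk i) :=
    fun i j h => by rw [← hpair, ← hpair, wordπ_congr h]
  obtain ⟨x0, x0m, x0ψ, -, q0⟩ := S.exists_inv_lift (pk_mem (k := 0) (by norm_num)) (hi 0 s0)
  obtain ⟨x1, x1m, x1ψ, -, q1⟩ := S.exists_inv_lift (pk_mem (k := 1) (by norm_num)) (hi 1 s1)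
  obtain ⟨x2, x2m, x2ψ, -, q2⟩ := S.exists_inv_lift (pk_mem (k := 2) (by norm_num)) (hi 2 s2)
  have q0' := hz [] [0] (by simp) rfl x0 x0m (by rw [x0ψ, hsing]) q0
  have q1' := hz [4] [1] (by simp) c1 x1 x1m (by rw [x1ψ, hsing]) q1
  have q2' := hz [6, 4, 4] [2] (by simp) c4 x2 x2m (by rw [x2ψ, hsing]) q2
  -- two of them anticommute
  have anti : ∀ {a b : G} {i j : ℕ}, a ∈ CP z P → b ∈ CP z P → S.ψ a = permOf (pk i) → S.ψ b = permOf (pk j) →
      a * a = z → b * b = z → permOf (pk i) * permOf (pk i) = 1 → permOf (pk j) * permOf (pk j) = 1 →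
      permOf (pk i) * permOf (pk j) = permOf (pk j) * permOf (pk i) → i < 9 → j < 9 →
      (∀ c ∈ CP z P, S.ψ c = wordπ [i, j] → c * c = 1 ∨ c * c = z → c * c = z) →
      b * a = z * (a * b) ∧ a * b * (a * b) = z := by
    intro a b i j ha hb haψ hbψ ha2 hb2 hii hjj hij hi9 hj9 hlift
    obtain ⟨e, he, heψ, -, he2⟩ := S.exists_inv_lift (mul_mem (pk_mem hi9) (pk_mem hj9)) (by
      rw [show permOf (pk i) * permOf (pk j) * (permOf (pk i) * permOf (pk j)) =
        permOf (pk i) * (permOf (pk j) * permOf (pk i)) * permOf (pk j) by group, ← hij,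
        show permOf (pk i) * (permOf (pk i) * permOf (pk j)) * permOf (pk j) =
          permOf (pk i) * permOf (pk i) * (permOf (pk j) * permOf (pk j)) by group, hii, hjj, one_mul])
    have hsq := S.prod_sq ha hb he (Or.inr ha2) (Or.inr hb2) he2 (by rw [haψ, hii]) (by rw [hbψ, hjj])
      (by rw [haψ, hbψ, hij]) (by rw [heψ, haψ, hbψ])
    rw [hlift e he (by rw [heψ, hpair]) he2] at hsq
    refine ⟨?_, hsq⟩
    have h4 : b * a * (z * z) = z * (a * b) := by
      calc b * a * (z * z) = b * a * (a * b * (a * b) * z) := by rw [hsq]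
        _ = b * (a * a) * b * (a * b) * z := by group
        _ = b * (z * b) * (a * b) * z := by rw [ha2]; group
        _ = b * (b * z) * (a * b) * z := by rw [S.commz hb]
        _ = (b * b) * z * (a * b) * z := by group
        _ = (z * z) * (a * b) * z := by rw [hb2]
        _ = z * (a * b) := by rw [S.zz, one_mul, S.commz (mul_mem ha hb)]
    rwa [S.zz, mul_one] at h4
  obtain ⟨a01, t2⟩ := anti x0m x1m x0ψ x1ψ q0' q1' (hi 0 s0) (hi 1 s1) (hcm 0 1 m01) (by norm_num) (by norm_num)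
    (hz [4, 4] [0, 1] (by simp) c2)
  obtain ⟨a02, -⟩ := anti x0m x2m x0ψ x2ψ q0' q2' (hi 0 s0) (hi 2 s2) (hcm 0 2 m02) (by norm_num) (by norm_num)
    (hz [4, 7] [0, 2] (by simp) c5)
  obtain ⟨a12, -⟩ := anti x1m x2m x1ψ x2ψ q1' q2' (hi 1 s1) (hi 2 s2) (hcm 1 2 m12) (by norm_num) (by norm_num)
    (hz [4, 4, 7] [1, 2] (by simp) c6)
  have hcomm2 : x2 * (x0 * x1) = x0 * x1 * x2 := by
    rw [← mul_assoc, a02, show z * (x0 * x2) * x1 = z * x0 * (x2 * x1) by group, a12,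
      show z * x0 * (z * (x1 * x2)) = z * (x0 * z) * (x1 * x2) by group, S.commz x0m,
      show z * (z * x0) * (x1 * x2) = z * z * (x0 * x1 * x2) by group, S.zz, one_mul]
  have hsq3 : x0 * x1 * x2 * (x0 * x1 * x2) = 1 := by
    rw [show x0 * x1 * x2 * (x0 * x1 * x2) = x0 * x1 * (x2 * (x0 * x1)) * x2 by group, hcomm2,
      show x0 * x1 * (x0 * x1 * x2) * x2 = x0 * x1 * (x0 * x1) * (x2 * x2) by group, t2, q2', S.zz]
  have hψ3 : S.ψ (x0 * x1 * x2) = wordπ [0, 1, 2] := by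
    rw [S.ψ_mul _ (mul_mem x0m x1m) _ x2m, S.ψ_mul _ x0m _ x1m, x0ψ, x1ψ, x2ψ]
    simp [wordπ, mul_assoc]
  exact hgood [7] [0, 1, 2] (by simp) c7 ⟨_, mul_mem (mul_mem x0m x1m) x2m, hψ3, hsq3⟩

end Cfsg.Agent.Spor.JFour.Setting
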