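import Cfsg.Prelude.Def_Spor_Mathieu
import Cfsg.Agent.S0051
import Cfsg.Agent.Lib.Spor.Golay.M24

/-!
Abstract pieces of the splitting of the normaliser of a self-centralising elementary abelian subgroup: squares of lifts
of involutions, a small group from four involutions, and complements from a Sylow two-complement.
-/

set_option autoImplicit false

namespace Cfsg.Agent.Spor.JFour.Mathieu

open scoped Pointwise

variable {G : Type*} [Group G]

/-- If an involution induces the same automorphism of the abelian self-centralising subgroup of exponent two as an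
element, the square of the element is a value of one plus that automorphism. -/
theorem sq_of_invol {A : Subgroup G} (hA : Subgroup.centralizer (A : Set G) ≤ A) {g n : G} (hn : n * n = 1)
    (hg2 : g * g ∈ A) (hab : ∀ x ∈ A, ∀ y ∈ A, x * y = y * x) (hexp : ∀ x ∈ A, x * x = 1)
    (hnorm : ∀ x ∈ A, g * x * g⁻¹ ∈ A) (hsame : ∀ x ∈ A, n * x * n⁻¹ = g * x * g⁻¹) :
    ∃ x ∈ A, g * g = x * (g * x * g⁻¹) := by
  have hx : n * g⁻¹ ∈ A := by
    refine hA (Subgroup.mem_centralizer_iff.2 fun a ha => ?_)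
    have hb : g⁻¹ * a * g ∈ A := by
      have hg : g⁻¹ = g * (g * g)⁻¹ := by group
      rw [hg, show g * (g * g)⁻¹ * a * g = g * ((g * g)⁻¹ * a * (g * g)) * g⁻¹ by group]
      exact hnorm _ (mul_mem (mul_mem (inv_mem hg2) ha) hg2)
    have h := hsame _ hb
    have h' : g * (g⁻¹ * a * g) * g⁻¹ = a := by group
    rw [h'] at h
    calc a * (n * g⁻¹) = n * (g⁻¹ * a * g) * n⁻¹ * (n * g⁻¹) := by rw [h]
      _ = n * g⁻¹ * a := by group
  refine ⟨n * g⁻¹, hx, ?_⟩
  have h1 : n * g⁻¹ * (g * (n * g⁻¹) * g⁻¹) * (g * g) = 1 := by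
    rw [show n * g⁻¹ * (g * (n * g⁻¹) * g⁻¹) * (g * g) = n * n by group, hn]
  have hm : n * g⁻¹ * (g * (n * g⁻¹) * g⁻¹) ∈ A := mul_mem hx (hnorm _ hx)
  calc g * g = (n * g⁻¹ * (g * (n * g⁻¹) * g⁻¹))⁻¹ := by rw [eq_inv_iff_mul_eq_one, hab _ hg2 _ hm, h1]
    _ = n * g⁻¹ * (g * (n * g⁻¹) * g⁻¹) := inv_eq_of_mul_eq_one_right (hexp _ hm)

/-- The normal form in a group generated by four involutions with the commutations of two transpositions and two more
transpositions joining them. -/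
theorem closure_subset (a b e f : G) (ha : a * a = 1) (hb : b * b = 1) (he : e * e = 1) (hf : f * f = 1)
    (hab : a * b = b * a) (hae : a * e = e * a) (haf : a * f = f * a) (hef : e * f = f * e)
    (hbc : b * (e * f * b * (e * f)) = e * f * b * (e * f) * b) {x : G}
    (hx : x ∈ Subgroup.closure ({a, b, e * f} : Set G)) :
    ∃ u : Bool × Bool × Bool × Bool, (if u.1 then a else 1) * (if u.2.1 then b else 1) *
      (if u.2.2.1 then e * f * b * (e * f) else 1) * (if u.2.2.2 then e * f else 1) = x := by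
  classical
  obtain ⟨d, hd⟩ : ∃ d, d = e * f := ⟨_, rfl⟩
  rw [← hd] at hbc hx ⊢
  have hdd : d * d = 1 := by
    rw [hd, show e * f * (e * f) = e * (f * e) * f by group, ← hef, show e * (e * f) * f = e * e * (f * f) by group,
      he, hf, one_mul]
  have had : a * d = d * a := by rw [hd, ← mul_assoc, hae, mul_assoc, haf, ← mul_assoc]
  set c := d * b * d with hc
  have hcc : c * c = 1 := by
    rw [hc, show d * b * d * (d * b * d) = d * b * (d * d) * b * d by group, hdd, mul_one, mul_assoc d b b, hb,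
      mul_one, hdd]
  have hac : a * c = c * a := by
    rw [hc, ← mul_assoc, ← mul_assoc, had, mul_assoc d a b, hab, ← mul_assoc, mul_assoc (d * b) a d, had, ← mul_assoc]
  have hdb : d * b = c * d := by rw [hc, mul_assoc, hdd, mul_one]
  have hdc : d * c = b * d := by rw [hc, ← mul_assoc, ← mul_assoc, hdd, one_mul]
  let w : Bool → G → G := fun i x => if i then x else 1
  let F : Bool × Bool × Bool × Bool → G := fun u => w u.1 a * w u.2.1 b * w u.2.2.1 c * w u.2.2.2 d
  have hA : ∀ u, ∃ v, a * F u = F v := fun ⟨i, j, k, l⟩ => ⟨⟨!i, j, k, l⟩, by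
    cases i <;> simp [F, w, ← mul_assoc, ha]⟩
  have hB : ∀ u, ∃ v, b * F u = F v := fun ⟨i, j, k, l⟩ => ⟨⟨i, !j, k, l⟩, by
    cases i <;> cases j <;> simp [F, w, ← mul_assoc, hb, ← hab] <;> simp [mul_assoc a, hb]⟩
  have hD : ∀ u, ∃ v, d * F u = F v := fun ⟨i, j, k, l⟩ => ⟨⟨i, k, j, !l⟩, by
    have hA' : ∀ x, d * (a * x) = a * (d * x) := fun x => by rw [← mul_assoc, ← had, mul_assoc]
    have hB' : ∀ x, d * (b * x) = c * (d * x) := fun x => by rw [← mul_assoc, hdb, mul_assoc]
    have hC' : ∀ x, d * (c * x) = b * (d * x) := fun x => by rw [← mul_assoc, hdc, mul_assoc]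
    have hD' : ∀ x, d * (d * x) = x := fun x => by rw [← mul_assoc, hdd, one_mul]
    have hCB : ∀ x, c * (b * x) = b * (c * x) := fun x => by rw [← mul_assoc, ← hbc, mul_assoc]
    cases i <;> cases j <;> cases k <;> cases l <;>
      simp only [F, w, Bool.not_true, Bool.not_false, if_true, if_false, Bool.false_eq_true, one_mul, mul_one,
        mul_assoc] <;>
      simp only [hA', hB', hC', hD', hCB, hdd, had.symm, hdb, hdc, hbc.symm, mul_one]⟩
  let S : Set G := Set.range F
  have hS : ∀ x ∈ Subgroup.closure ({a, b, d} : Set G), ∀ y ∈ S, x * y ∈ S ∧ x⁻¹ * y ∈ S := by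
    intro x hx
    induction hx using Subgroup.closure_induction with
    | mem x hx =>
      rintro _ ⟨u, rfl⟩
      simp only [Set.mem_insert_iff, Set.mem_singleton_iff] at hx
      rcases hx with rfl | rfl | rfl
      · obtain ⟨v, hv⟩ := hA u
        exact ⟨⟨v, hv.symm⟩, by rw [inv_eq_of_mul_eq_one_right ha]; exact ⟨v, hv.symm⟩⟩
      · obtain ⟨v, hv⟩ := hB u
        exact ⟨⟨v, hv.symm⟩, by rw [inv_eq_of_mul_eq_one_right hb]; exact ⟨v, hv.symm⟩⟩
      · obtain ⟨v, hv⟩ := hD u
        exact ⟨⟨v, hv.symm⟩, by rw [inv_eq_of_mul_eq_one_right hdd]; exact ⟨v, hv.symm⟩⟩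
    | one => exact fun y hy => ⟨by rwa [one_mul], by rwa [inv_one, one_mul]⟩
    | mul x y _ _ ihx ihy =>
      refine fun s hs => ⟨?_, ?_⟩
      · rw [mul_assoc]; exact (ihx _ (ihy _ hs).1).1
      · rw [mul_inv_rev, mul_assoc]; exact (ihy _ (ihx _ hs).2).2
    | inv x _ ih => exact fun y hy => ⟨(ih y hy).2, by rw [inv_inv]; exact (ih y hy).1⟩
  have hsub : (Subgroup.closure ({a, b, d} : Set G) : Set G) ⊆ S := fun x hx => by
    have h1 : (1 : G) ∈ S := ⟨⟨false, false, false, false⟩, by simp [F, w]⟩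
    have := (hS x hx 1 h1).1
    rwa [mul_one] at this
  exact hsub hx

/-- Four involutions with the commutations of two transpositions and two more transpositions joining them. -/
theorem card_le_sixteen (a b e f : G) (ha : a * a = 1) (hb : b * b = 1) (he : e * e = 1) (hf : f * f = 1)
    (hab : a * b = b * a) (hae : a * e = e * a) (haf : a * f = f * a) (hef : e * f = f * e)
    (hbc : b * (e * f * b * (e * f)) = e * f * b * (e * f) * b) :
    Nat.card ↥(Subgroup.closure ({a, b, e * f} : Set G)) ≤ 16 ∧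
      Finite ↥(Subgroup.closure ({a, b, e * f} : Set G)) := by
  have hsub : (Subgroup.closure ({a, b, e * f} : Set G) : Set G) ⊆
      Set.range fun u : Bool × Bool × Bool × Bool => (if u.1 then a else 1) * (if u.2.1 then b else 1) *
        (if u.2.2.1 then e * f * b * (e * f) else 1) * (if u.2.2.2 then e * f else 1) :=
    fun x hx => closure_subset a b e f ha hb he hf hab hae haf hef hbc hx
  have hfin := Set.finite_range fun u : Bool × Bool × Bool × Bool => (if u.1 then a else 1) * (if u.2.1 then b else 1) *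
    (if u.2.2.1 then e * f * b * (e * f) else 1) * (if u.2.2.2 then e * f else 1)
  refine ⟨?_, (hfin.subset hsub).to_subtype⟩
  refine ((Nat.card_mono hfin hsub).trans (Finite.card_range_le _)).trans (le_of_eq ?_)
  simp [Nat.card_eq_fintype_card]

variable [Finite G]

/-- The order of a product meeting trivially. -/
theorem card_sup_inf_bot (N H : Subgroup G) (hH : H ≤ Subgroup.normalizer (N : Set G)) (h : N ⊓ H = ⊥) :
    Nat.card ↥(N ⊔ H) = Nat.card ↥N * Nat.card ↥H := by
  rw [← Nat.card_prod]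
  refine (Nat.card_congr (Equiv.ofBijective (fun u : ↥N × ↥H =>
    (⟨(u.1 : G) * u.2, mul_mem (Subgroup.mem_sup_left u.1.2) (Subgroup.mem_sup_right u.2.2)⟩ : ↥(N ⊔ H))) ⟨?_, ?_⟩)).symm
  · intro u v e
    have e' : (u.1 : G) * u.2 = v.1 * v.2 := congrArg Subtype.val e
    have hm : ((v.1 : G))⁻¹ * u.1 ∈ N ⊓ H := by
      refine Subgroup.mem_inf.2 ⟨mul_mem (inv_mem v.1.2) u.1.2, ?_⟩
      rw [show ((v.1 : G))⁻¹ * u.1 = v.2 * (u.2 : G)⁻¹ by
        rw [inv_mul_eq_iff_eq_mul, ← mul_assoc, ← e', mul_inv_cancel_right]]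
      exact mul_mem v.2.2 (inv_mem u.2.2)
    rw [h, Subgroup.mem_bot, inv_mul_eq_one] at hm
    exact Prod.ext (Subtype.ext hm.symm) (Subtype.ext (mul_left_cancel (hm ▸ e')))
  · rintro ⟨x, hx⟩
    rw [← SetLike.mem_coe, Subgroup.coe_mul_of_right_le_normalizer_left _ _ hH] at hx
    obtain ⟨n, hn, y, hy, rfl⟩ := hx
    exact ⟨(⟨n, hn⟩, ⟨y, hy⟩), rfl⟩

/-- A complement from a subgroup meeting trivially and of odd index over the kernel, with the isomorphism type. -/
theorem exists_complement {V K0 : Subgroup G} (hV : ∀ x ∈ V, ∀ y ∈ V, x * y = y * x) {k : ℕ}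
    (hVc : Nat.card ↥V = 2 ^ k) (hK0 : K0 ≤ Subgroup.normalizer (V : Set G)) (hKV : K0 ⊓ V = ⊥) {d : ℕ} (hd : Odd d)
    (hN : Nat.card ↥(Subgroup.normalizer (V : Set G)) = Nat.card ↥V * Nat.card ↥K0 * d)
    (f : ↥(Subgroup.normalizer (V : Set G)) →* ↥Cfsg.M24) (hf : ∀ n, f n = 1 ↔ (n : G) ∈ V)
    (hcard : Nat.card ↥(Subgroup.normalizer (V : Set G)) = Nat.card ↥V * 244823040) :
    ∃ K : Subgroup G, K ≤ Subgroup.normalizer (V : Set G) ∧ K ⊓ V = ⊥ ∧ K ⊔ V = Subgroup.normalizer (V : Set G) ∧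
      ∃ e : ↥K ≃* ↥Cfsg.M24, ∀ x : ↥K, ∀ hx : (x : G) ∈ Subgroup.normalizer (V : Set G), e x = f ⟨x, hx⟩ := by
  have hVN : V ≤ (Subgroup.normalizer (V : Set G)) := Subgroup.le_normalizer
  haveI : (V.subgroupOf (Subgroup.normalizer (V : Set G))).Normal := Subgroup.normal_in_normalizer
  haveI : IsMulCommutative ↥(V.subgroupOf (Subgroup.normalizer (V : Set G))) := ⟨⟨fun x y => Subtype.ext (Subtype.ext (hV _ x.2 _ y.2))⟩⟩
  set V' := V.subgroupOf (Subgroup.normalizer (V : Set G)) with hV'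
  set U' := K0.subgroupOf (Subgroup.normalizer (V : Set G)) ⊔ V' with hU'
  have hVc' : Nat.card ↥V' = 2 ^ k := by
    rw [hV', Nat.card_congr (Subgroup.subgroupOfEquivOfLe hVN).toEquiv, hVc]
  have hKc : Nat.card ↥(K0.subgroupOf (Subgroup.normalizer (V : Set G))) = Nat.card ↥K0 :=
    Nat.card_congr (Subgroup.subgroupOfEquivOfLe hK0).toEquiv
  have hinf : K0.subgroupOf (Subgroup.normalizer (V : Set G)) ⊓ V' = ⊥ := by
    rw [hV', Subgroup.subgroupOf, Subgroup.subgroupOf, ← Subgroup.comap_inf, hKV, MonoidHom.comap_bot,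
      Subgroup.ker_subtype]
  have hUc : Nat.card ↥U' = Nat.card ↥(K0.subgroupOf (Subgroup.normalizer (V : Set G))) * Nat.card ↥V' := by
    rw [hU', sup_comm, mul_comm]
    exact card_sup_inf_bot _ _ Subgroup.le_normalizer_of_normal (by rw [inf_comm]; exact hinf)
  have hidx : U'.index = d := by
    have h1 := Subgroup.card_mul_index U'
    rw [hUc, hKc, hVc', hN, hVc, mul_comm (2 ^ k) (Nat.card ↥K0)] at h1
    exact Nat.eq_of_mul_eq_mul_left (Nat.mul_pos Nat.card_pos (pow_pos two_pos k)) h1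
  obtain ⟨H, hH⟩ := Cfsg.Agent.S0051.result V' U' le_sup_right
    (by rw [hVc', hidx]; exact Nat.Coprime.pow_left _ (Nat.coprime_two_left.mpr hd))
    (K0.subgroupOf (Subgroup.normalizer (V : Set G))) le_sup_left hinf (sup_comm _ _)
  have hHV : H ⊓ V' = ⊥ := by rw [inf_comm]; exact hH.disjoint.eq_bot
  refine ⟨H.map (Subgroup.normalizer (V : Set G)).subtype, Subgroup.map_subtype_le H, ?_, ?_, ?_⟩
  · refine (Subgroup.eq_bot_iff_forall _).2 fun x hx => ?_
    obtain ⟨⟨h, hh, rfl⟩, hxV⟩ := Subgroup.mem_inf.1 hx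
    have : h ∈ H ⊓ V' := ⟨hh, Subgroup.mem_subgroupOf.2 hxV⟩
    rw [hHV, Subgroup.mem_bot] at this
    rw [this]; rfl
  · have h := congrArg (Subgroup.map (Subgroup.normalizer (V : Set G)).subtype) (show H ⊔ V' = ⊤ by rw [sup_comm]; exact hH.sup_eq_top)
    rwa [Subgroup.map_sup, ← MonoidHom.range_eq_map, Subgroup.range_subtype, hV',
      Subgroup.map_subgroupOf_eq_of_le hVN] at h
  · let g : ↥H →* ↥Cfsg.M24 := f.comp H.subtype
    have hinj : Function.Injective g := (injective_iff_map_eq_one g).2 fun x hx => by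
      have : (x : ↥(Subgroup.normalizer (V : Set G))) ∈ H ⊓ V' := ⟨x.2, Subgroup.mem_subgroupOf.2 ((hf _).1 hx)⟩
      rw [hHV, Subgroup.mem_bot] at this
      exact Subtype.ext this
    have hbij : Function.Bijective g := hinj.bijective_of_nat_card_le (le_of_eq (by
      rw [Cfsg.Agent.Spor.Golay.card_M24]
      have h1 := hH.card_mul
      rw [hVc', hcard, hVc] at h1
      exact (Nat.eq_of_mul_eq_mul_left (pow_pos two_pos k) h1).symm))
    refine ⟨(H.equivMapOfInjective (Subgroup.normalizer (V : Set G)).subtype (Subgroup.subtype_injective (Subgroup.normalizer (V : Set G)))).symm.trans (MulEquiv.ofBijective g hbij),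
      fun x hx => congrArg f (Subtype.ext ?_)⟩
    obtain ⟨h, rfl⟩ := (H.equivMapOfInjective (Subgroup.normalizer (V : Set G)).subtype (Subgroup.subtype_injective (Subgroup.normalizer (V : Set G)))).surjective x
    simp

/-- A subgroup containing a given element of odd prime order, by conjugating a complement inside the kernel. -/
theorem exists_conj_mem {V K : Subgroup G} {q k : ℕ} [hq : Fact q.Prime] (hq2 : q ≠ 2) (hVc : Nat.card ↥V = 2 ^ k)
    {p : G} (hp : orderOf p = q) (hpN : p ∈ Subgroup.normalizer (V : Set G))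
    (hKN : K ≤ Subgroup.normalizer (V : Set G)) (hKV : K ⊓ V = ⊥) (hsup : K ⊔ V = Subgroup.normalizer (V : Set G)) :
    ∃ v ∈ V, v * p * v⁻¹ ∈ K := by
  classical
  set L := V ⊔ Subgroup.zpowers p with hL
  have hnorm : Subgroup.zpowers p ≤ Subgroup.normalizer (V : Set G) := Subgroup.zpowers_le.2 hpN
  have hLN : L ≤ Subgroup.normalizer (V : Set G) := sup_le Subgroup.le_normalizer hnorm
  have hmem : ∀ x ∈ Subgroup.normalizer (V : Set G), ∃ v ∈ V, ∃ y ∈ K, x = v * y := fun x hx => by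
    rw [← hsup] at hx
    have : x ∈ ((V : Set G) * (K : Set G)) := by
      rw [← Subgroup.coe_mul_of_right_le_normalizer_left _ _ hKN]
      rwa [sup_comm] at hx
    obtain ⟨v, hv, y, hy, rfl⟩ := this
    exact ⟨v, hv, y, hy, rfl⟩
  obtain ⟨v, hv, y, hy, hpy⟩ := hmem p hpN
  have hyL : y ∈ L := by
    rw [show y = v⁻¹ * p by rw [hpy]; group]
    exact mul_mem (Subgroup.mem_sup_left (inv_mem hv)) (Subgroup.mem_sup_right (Subgroup.mem_zpowers p))
  have hy1 : y ^ q = 1 := by
    -- modulo V the element is p, so its power lies in V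
    haveI : (V.subgroupOf L).Normal := (Subgroup.normal_subgroupOf_iff_le_normalizer le_sup_left).2 hLN
    have hq' : (QuotientGroup.mk (⟨y, hyL⟩ : ↥L) : ↥L ⧸ V.subgroupOf L) =
        QuotientGroup.mk ⟨p, Subgroup.mem_sup_right (Subgroup.mem_zpowers p)⟩ := by
      rw [QuotientGroup.eq, Subgroup.mem_subgroupOf]
      show y⁻¹ * p ∈ V
      rw [hpy, show y⁻¹ * (v * y) = y⁻¹ * v * y⁻¹⁻¹ by group]
      exact (Subgroup.mem_normalizer_iff.1 (hKN (inv_mem hy)) v).1 hv
    have h1 : (⟨y, hyL⟩ : ↥L) ^ q ∈ V.subgroupOf L := by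
      rw [← QuotientGroup.eq_one_iff, QuotientGroup.mk_pow, hq', ← QuotientGroup.mk_pow, QuotientGroup.eq_one_iff,
        Subgroup.mem_subgroupOf]
      show p ^ q ∈ V
      rw [← hp, pow_orderOf_eq_one]
      exact one_mem V
    have h2 : y ^ q ∈ K ⊓ V := ⟨pow_mem hy q, h1⟩
    rwa [hKV, Subgroup.mem_bot] at h2
  have hyne : y ≠ 1 := fun e => by
    rw [e, mul_one] at hpy
    have h1 : orderOf p ∣ Nat.card ↥V := by
      have := Subgroup.orderOf_dvd_natCard V (hpy ▸ hv)
      exact this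
    rw [hp, hVc] at h1
    exact hq2 ((Nat.prime_dvd_prime_iff_eq hq.out Nat.prime_two).1 (hq.out.dvd_of_dvd_pow h1))
  have hyo : orderOf y = q := orderOf_eq_prime hy1 hyne
  -- both generate Sylow subgroups of L
  have hLc : Nat.card ↥L = 2 ^ k * q := by
    rw [hL, card_sup_inf_bot _ _ hnorm (Subgroup.inf_eq_bot_of_coprime (by
      rw [hVc, Nat.card_zpowers, hp]
      exact Nat.Coprime.pow_left _ ((Nat.coprime_primes Nat.prime_two hq.out).2 (Ne.symm hq2)))), hVc,
      Nat.card_zpowers, hp]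
  have hfac : (Nat.card ↥L).factorization q = 1 := by
    rw [hLc, Nat.factorization_mul (pow_ne_zero _ two_ne_zero) hq.out.ne_zero, Finsupp.add_apply,
      Nat.Prime.factorization_self hq.out, Nat.factorization_eq_zero_of_not_dvd fun h =>
        hq2 ((Nat.prime_dvd_prime_iff_eq hq.out Nat.prime_two).1 (hq.out.dvd_of_dvd_pow h))]
  let S1 : Sylow q ↥L := Sylow.ofCard (Subgroup.zpowers ⟨p, Subgroup.mem_sup_right (Subgroup.mem_zpowers p)⟩) (by
    rw [hfac, pow_one, Nat.card_zpowers, ← hp, ← Subgroup.orderOf_coe])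
  let S2 : Sylow q ↥L := Sylow.ofCard (Subgroup.zpowers ⟨y, hyL⟩) (by
    rw [hfac, pow_one, Nat.card_zpowers, ← hyo, ← Subgroup.orderOf_coe])
  obtain ⟨l, hl⟩ := MulAction.exists_smul_eq ↥L S1 S2
  have hlp : (l : G) * p * (l : G)⁻¹ ∈ K := by
    have h1 := Subgroup.smul_mem_pointwise_smul _ (MulAut.conj l)
      (S1 : Subgroup ↥L) (show (⟨p, Subgroup.mem_sup_right (Subgroup.mem_zpowers p)⟩ : ↥L) ∈ (S1 : Subgroup ↥L) by
        rw [Sylow.coe_ofCard]; exact Subgroup.mem_zpowers _)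
    change _ ∈ ((l • S1 : Sylow q ↥L) : Subgroup ↥L) at h1
    rw [hl, Sylow.coe_ofCard, Subgroup.mem_zpowers_iff] at h1
    obtain ⟨i, hi⟩ := h1
    have h2 := congrArg (Subtype.val : ↥L → G) hi
    simp only [MulAut.smul_def, MulAut.conj_apply, Subgroup.coe_mul, Subgroup.coe_inv] at h2
    rw [SubgroupClass.coe_zpow] at h2
    rw [← h2]
    exact zpow_mem hy i
  obtain ⟨w, hw, r, hr, hlr⟩ : ∃ w ∈ V, ∃ r ∈ Subgroup.zpowers p, (l : G) = w * r := by
    have h := l.2
    have h : (l : G) ∈ ((L : Subgroup G) : Set G) := h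
    simp only [hL] at h
    rw [Subgroup.coe_mul_of_right_le_normalizer_left _ _ hnorm] at h
    obtain ⟨w, hw, r, hr, e⟩ := h
    exact ⟨w, hw, r, hr, e.symm⟩
  refine ⟨w, hw, ?_⟩
  obtain ⟨i, hi⟩ := Subgroup.mem_zpowers_iff.1 hr
  have hcomm : r * p * r⁻¹ = p := by rw [← hi]; group
  rw [show w * p * w⁻¹ = (l : G) * p * (l : G)⁻¹ by
    rw [hlr]; conv_lhs => rw [← hcomm]
    group]
  exact hlp

end Cfsg.Agent.Spor.JFour.Mathieu
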