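import Cfsg.Agent.Lib.Spor.JFourType.Gens
import Cfsg.Agent.Lib.Spor.JFourType.Mathieu.Lifts
import Cfsg.Agent.Lib.Spor.JFourType.Mathieu.Split

/-!
A subgroup of order 1024 of the normaliser of the elementary abelian group of order 2048, meeting it trivially: the
product of the involutions in the upper half of the coordinates with sixteen lifts from the normaliser of the
three-group.
-/

set_option autoImplicit false
set_option maxRecDepth 100000

open Cfsg Cfsg.Agent.Spor.Golay Cfsg.Agent.Spor.Golay.Aut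
open Cfsg.Agent.Spor.Cos.J4Sub (app mm app_mm app_xor)

namespace Cfsg.Agent.Spor.JFour.Mathieu

/-- The words of the four inner parts. -/
def wd : ℕ → List ℕ
  | 0 => [4, 6, 6, 5]
  | 1 => [5, 4, 7, 6, 4]
  | 2 => [5, 4, 4]
  | _ => [5, 5, 7, 6, 5]

/-- The scalars. -/
def kd : ℕ → ℕ
  | 2 => 1
  | 3 => 1
  | _ => 0

/-- The packed permutations. -/
def pd (i : ℕ) : ℕ := comp (wordP (wd i)) (pk 9)

/-- The matrices. -/
def md (i : ℕ) : List ℕ := mm (mTp (kd i)) (mm (evM (asg mS mW mI) (wd i)) mO)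

/-- The conjugate of the second. -/
def pc : ℕ := comp (comp (comp (pd 2) (pd 3)) (pd 1)) (comp (pd 2) (pd 3))

/-- Its matrix. -/
def mc : List ℕ := mm (mm (mm (md 2) (md 3)) (md 1)) (mm (md 2) (md 3))

/-- Conjugating words from the first involution to the products. -/
def gw : ℕ → List ℕ
  | 0 => [8, 4, 7, 0, 8]
  | 1 => [0, 8, 0, 8, 4, 0, 8]
  | 2 => [8, 7, 0, 8]
  | 3 => [8, 7, 3, 8]
  | _ => [8, 4, 7, 3, 8]

/-- The five pairs. -/
def pairs : ℕ → (ℕ × List ℕ) × (ℕ × List ℕ)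
  | 0 => ((pd 0, md 0), (pd 1, md 1))
  | 1 => ((pd 0, md 0), (pd 2, md 2))
  | 2 => ((pd 0, md 0), (pd 3, md 3))
  | 3 => ((pd 2, md 2), (pd 3, md 3))
  | _ => ((pd 1, md 1), (pc, mc))

theorem four_checks : ((List.range 4).all fun i =>
      (comp (pd i) (pd i) == idP) && (mm (md i) (md i) == mI) && (wd i).all (fun k => decide (k < 8))) = true ∧
    ((List.range 5).all fun i =>
      let a := (pairs i).1; let b := (pairs i).2
      (comp a.1 b.1 == comp b.1 a.1) && (mm (mm a.2 b.2) (mm a.2 b.2) == mI) &&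
        (gw i).all (fun k => decide (k < 9)) && inM24 (comp a.1 b.1) && preserves c22.M (comp a.1 b.1) &&
        (comp (wordP (gw i)) (pk 0) == comp (comp a.1 b.1) (wordP (gw i)))) = true := by
  decide +kernel

/-- The matrix of a product of the generators of the group of order sixteen. -/
def mf (i j k l : Bool) : List ℕ :=
  mm (mm (mm (if i then md 0 else mI) (if j then md 1 else mI)) (if k then mc else mI))
    (if l then mm (md 2) (md 3) else mI)

theorem sixteen_checks : ([false, true].all fun i => [false, true].all fun j => [false, true].all fun k =>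
    [false, true].all fun l =>
      ((!i && !j && !k && !l) || !((List.range 6).all fun a => app (mf i j k l) (2 ^ a) == 2 ^ a)) &&
        ((List.range 64).all fun h => app (mf i j k l) (h <<< 6) % 64 == 0)) = true := by
  decide +kernel

theorem high_checks : ((List.range 64).all fun h => !(qv (h <<< 6)) && decide (h <<< 6 < 4096) &&
    ((h <<< 6) ^^^ app mT (h <<< 6)) % 64 == 0 && decide (app mT (h <<< 6) % 64 = 0) &&
    ((h == 0) || !(app mT (h <<< 6) == h <<< 6)) && (app mT2 (h <<< 6) % 64 == 0)) = true := by decide +kernel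

end Cfsg.Agent.Spor.JFour.Mathieu

namespace Cfsg.Agent.Spor.JFour.Full

open Mathieu

variable {G : Type*} [Group G] {z : G} {P : Subgroup G} {S : Setting z P} (F : Full S)

/-- The inner word. -/
noncomputable def inner (i : ℕ) : G :=
  ((wd i).map fun k => if k = 6 then F.s else if k = 7 then F.w else F.toCoord.lift k).prod

/-- The outer lifts. -/
noncomputable def fl (i : ℕ) : G := F.R.t ^ kd i * (F.inner i * F.o)

include F

theorem flip_o : S.Flip F.o (permOf (pk 9)) := ⟨F.o_norm.hz, F.o_p, F.o_norm.mem, F.o_norm.ψ⟩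

variable [Finite G]

theorem inner_spec {i : ℕ} (hi : i < 4) :
    F.inner i ∈ CP z P ∧ S.ψ (F.inner i) = wordπ (wd i) ∧ F.toCoord.Rep (F.inner i) (evM (asg mS mW mI) (wd i)) := by
  refine F.toCoord.rep_word (fun k => if k = 6 then F.s else if k = 7 then F.w else F.toCoord.lift k) _ 8
    (fun k hk => ?_) _ fun k hk => ?_
  · interval_cases k
    all_goals first
      | exact ⟨F.s_mem, F.s_ψ, F.rs⟩ | exact ⟨F.w_mem, F.w_ψ, F.rw'⟩
      | exact F.toCoord.lift_spec (k := 0) (by norm_num) | exact F.toCoord.lift_spec (k := 1) (by norm_num)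
      | exact F.toCoord.lift_spec (k := 2) (by norm_num) | exact F.toCoord.lift_spec (k := 3) (by norm_num)
      | exact F.toCoord.lift_spec (k := 4) (by norm_num) | exact F.toCoord.lift_spec (k := 5) (by norm_num)
  · have h := List.all_eq_true.1 four_checks.1 i (List.mem_range.2 hi)
    simp only [Bool.and_eq_true, List.all_eq_true, decide_eq_true_eq] at h
    exact h.2 k hk

theorem fl_spec {i : ℕ} (hi : i < 4) :
    S.Flip (F.fl i) (permOf (pd i)) ∧ F.toCoord.Rep (F.fl i) (md i) := by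
  obtain ⟨h1, h2, h3⟩ := F.inner_spec hi
  have hk : kd i < 3 := by interval_cases i <;> decide
  have ht := pow_mem F.toCoord.t_mem (kd i)
  have hf := S.flip_left (S.flip_left F.flip_o h1) ht
  refine ⟨?_, F.toCoord.rep_mul (F.toCoord.rep_tpow hk) (F.toCoord.rep_mul h3 F.ro)⟩
  have e : S.ψ (F.R.t ^ kd i) * (S.ψ (F.inner i) * permOf (pk 9)) = permOf (pd i) := by
    rw [S.ψ_pow F.toCoord.t_mem, F.toCoord.t_ψ, one_pow, one_mul, h2, wordπ_eq, pd,
      permOf_comp (wordP_valid _) (pk_valid 9)]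
  rw [← e]
  exact hf

theorem rep_act_sq {g : G} {M : List ℕ} (hg : F.toCoord.Rep g M) (h : mm M M = mI) : S.act (g * g) = 1 :=
  LinearMap.ext fun v => by
    obtain ⟨n, hn, rfl⟩ := F.toCoord.surj v
    rw [(F.toCoord.rep_mul hg hg).eq n hn, h, app_mI hn]; rfl

/-- Two outer involutions with commuting permutations commute. -/
theorem pair_comm {g h : G} {A B : ℕ} {M N : List ℕ} (hA : valid A = true) (hB : valid B = true)
    (hg : S.Flip g (permOf A)) (hh : S.Flip h (permOf B)) (hM : F.toCoord.Rep g M) (hN : F.toCoord.Rep h N)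
    (hg2 : g * g = 1) (hh2 : h * h = 1) (hsq : mm (mm M N) (mm M N) = mI) (hc : comp A B = comp B A)
    (hm : inM24 (comp A B) = true) (hp : preserves c22.M (comp A B) = true) {u : List ℕ} (hu : ∀ k ∈ u, k < 9)
    (hcj : comp (wordP u) (pk 0) = comp (comp A B) (wordP u)) (hA2 : comp A A = idP) (hB2 : comp B B = idP) :
    g * h = h * g := by
  have hv := valid_comp hA hB
  have hmem : permOf A * permOf B ∈ Cfsg.Spor.M22 := by
    rw [← permOf_comp hA hB, M22_eq]
    exact mem_Fix.2 ⟨permOf_mem_M24 hm, (preserves_iff hv (by decide +kernel)).1 hp, by simp⟩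
  obtain ⟨hw, hwψ⟩ := S.flip_mul hg hh hmem
  have hum : wordπ u ∈ Cfsg.Spor.M22 := by
    refine list_prod_mem fun a ha => ?_
    obtain ⟨k, hk, rfl⟩ := List.mem_map.1 ha
    exact pk_mem (hu k hk)
  obtain ⟨e, he, heψ, hee⟩ : S.Good (permOf A * permOf B) := by
    have e1 : wordπ u * permOf (pk 0) = permOf A * permOf B * wordπ u := by
      rw [wordπ_eq, ← permOf_comp hA hB, ← permOf_comp (wordP_valid u) (pk_valid 0),
        ← permOf_comp hv (wordP_valid u), hcj]
    have := S.good_conj S.good_zero hum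
    rwa [e1, mul_inv_cancel_right] at this
  have hinv : ∀ {C : ℕ}, valid C = true → comp C C = idP → permOf C * permOf C = 1 := fun {C} hC h => by
    rw [← permOf_comp hC hC, h, permOf_idP]
  have hab : permOf A * permOf B = permOf B * permOf A := by rw [← permOf_comp hA hB, ← permOf_comp hB hA, hc]
  have hψ1 : S.ψ (g * h * (g * h)) = 1 := by
    rw [S.ψ_mul _ hw _ hw, hwψ, show permOf A * permOf B * (permOf A * permOf B) =
      permOf A * (permOf B * permOf A) * permOf B by group, ← hab,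
      show permOf A * (permOf A * permOf B) * permOf B = permOf A * permOf A * (permOf B * permOf B) by group,
      hinv hA hA2, hinv hB hB2, one_mul]
  have hcase : g * h * (g * h) = 1 ∨ g * h * (g * h) = z :=
    S.act_ker_CP (mul_mem hw hw) (F.rep_act_sq (F.toCoord.rep_mul hM hN) hsq)
  -- compare with the involution lift
  have key : g * h * (g * h) = 1 := by
    obtain ⟨i, j, hij⟩ := S.ψ_ker _ (mul_mem (inv_mem he) hw) (by
      rw [S.ψ_mul _ (inv_mem he) _ hw, S.ψ_inv he, heψ, hwψ, inv_mul_cancel])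
    have hcom := S.ker_central (mul_mem (inv_mem he) hw) (by
      rw [S.ψ_mul _ (inv_mem he) _ hw, S.ψ_inv he, heψ, hwψ, inv_mul_cancel]) he
    refine S.pow_p_cases hcase (j := j) ?_
    have hcz : S.p ^ j * z ^ i = z ^ i * S.p ^ j := ((show Commute S.p z from S.pz).pow_pow j i).eq
    calc g * h * (g * h) = e * (e⁻¹ * (g * h) * e) * (e⁻¹ * (g * h)) := by group
      _ = e * e * ((e⁻¹ * (g * h)) * (e⁻¹ * (g * h))) := by rw [hcom]; group
      _ = z ^ i * S.p ^ j * (z ^ i * S.p ^ j) := by rw [hee, one_mul, hij]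
      _ = z ^ i * (S.p ^ j * z ^ i) * S.p ^ j := by group
      _ = z ^ i * z ^ i * (S.p ^ j * S.p ^ j) := by rw [hcz]; group
      _ = _ := by rw [← pow_add, show z ^ (i + i) = 1 by rw [← two_mul, pow_mul, pow_two, S.zz, one_pow], one_mul]
  calc g * h = (g * h)⁻¹ := eq_inv_of_mul_eq_one_left key
    _ = h⁻¹ * g⁻¹ := mul_inv_rev g h
    _ = _ := by rw [inv_eq_of_mul_eq_one_right hg2, inv_eq_of_mul_eq_one_right hh2]

theorem fl_pd_valid (i : ℕ) : valid (pd i) = true := valid_comp (wordP_valid _) (pk_valid 9)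

theorem pd_sq {i : ℕ} (hi : i < 4) : comp (pd i) (pd i) = idP := by
  have h := List.all_eq_true.1 four_checks.1 i (List.mem_range.2 hi)
  simp only [Bool.and_eq_true, beq_iff_eq] at h
  exact h.1.1

/-- The group of order sixteen. -/
theorem exists_sixteen (hsq : ∀ i < 4, F.fl i * F.fl i ≠ z) :
    ∃ T : Subgroup G, Nat.card ↥T ≤ 16 ∧ Finite ↥T ∧ T = Subgroup.closure {F.fl 0, F.fl 1, F.fl 2 * F.fl 3} ∧
      ∀ x ∈ T, ∃ i j k l, F.toCoord.Rep x (mf i j k l) ∧
        (i = false ∧ j = false ∧ k = false ∧ l = false → x = 1) := by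
  have h1 : ∀ i < 4, F.fl i * F.fl i = 1 := fun i hi =>
    (S.flip_sq (F.fl_spec hi).1 (by
      rw [← permOf_comp (F.fl_pd_valid i) (F.fl_pd_valid i), F.pd_sq hi, permOf_idP])).2.resolve_right (hsq i hi)
  have hk := four_checks.2
  have hv := F.fl_pd_valid
  have hp := fun n (hn : n < 5) => by
    have h := List.all_eq_true.1 hk n (List.mem_range.2 hn)
    simp only [Bool.and_eq_true, beq_iff_eq, List.all_eq_true, decide_eq_true_eq] at h
    exact h
  obtain ⟨⟨⟨⟨⟨c0, s0⟩, u0⟩, m0⟩, q0⟩, j0⟩ := hp 0 (by norm_num)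
  obtain ⟨⟨⟨⟨⟨c1, s1⟩, u1⟩, m1⟩, q1⟩, j1⟩ := hp 1 (by norm_num)
  obtain ⟨⟨⟨⟨⟨c2, s2⟩, u2⟩, m2⟩, q2⟩, j2⟩ := hp 2 (by norm_num)
  obtain ⟨⟨⟨⟨⟨c3, s3⟩, u3⟩, m3⟩, q3⟩, j3⟩ := hp 3 (by norm_num)
  obtain ⟨⟨⟨⟨⟨c4, s4⟩, u4⟩, m4⟩, q4⟩, j4⟩ := hp 4 (by norm_num)
  obtain ⟨fa, ra⟩ := F.fl_spec (i := 0) (by norm_num)
  obtain ⟨fb, rb⟩ := F.fl_spec (i := 1) (by norm_num)
  obtain ⟨fe, re⟩ := F.fl_spec (i := 2) (by norm_num)
  obtain ⟨ff, rf⟩ := F.fl_spec (i := 3) (by norm_num)
  have hab := F.pair_comm (hv 0) (hv 1) fa fb ra rb (h1 0 (by norm_num)) (h1 1 (by norm_num)) s0 c0 m0 q0 u0 j0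
    (F.pd_sq (by norm_num)) (F.pd_sq (by norm_num))
  have hae := F.pair_comm (hv 0) (hv 2) fa fe ra re (h1 0 (by norm_num)) (h1 2 (by norm_num)) s1 c1 m1 q1 u1 j1
    (F.pd_sq (by norm_num)) (F.pd_sq (by norm_num))
  have haf := F.pair_comm (hv 0) (hv 3) fa ff ra rf (h1 0 (by norm_num)) (h1 3 (by norm_num)) s2 c2 m2 q2 u2 j2
    (F.pd_sq (by norm_num)) (F.pd_sq (by norm_num))
  have hef := F.pair_comm (hv 2) (hv 3) fe ff re rf (h1 2 (by norm_num)) (h1 3 (by norm_num)) s3 c3 m3 q3 u3 j3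
    (F.pd_sq (by norm_num)) (F.pd_sq (by norm_num))
  set a := F.fl 0 with ha_def
  set b := F.fl 1 with hb_def
  set e := F.fl 2 with he_def
  set f := F.fl 3 with hf_def
  have hd2 : e * f * (e * f) = 1 := by
    rw [show e * f * (e * f) = e * (f * e) * f by group, ← hef, show e * (e * f) * f = e * e * (f * f) by group,
      h1 2 (by norm_num), h1 3 (by norm_num), one_mul]
  have hm23 : permOf (pd 2) * permOf (pd 3) ∈ Cfsg.Spor.M22 := by
    rw [← permOf_comp (hv 2) (hv 3), M22_eq]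
    exact mem_Fix.2 ⟨permOf_mem_M24 m3, (preserves_iff (valid_comp (hv 2) (hv 3)) (by decide +kernel)).1 q3,
      by simp⟩
  obtain ⟨hdm, hdψ⟩ := S.flip_mul fe ff hm23
  have fc : S.Flip (e * f * b * (e * f)) (permOf pc) := by
    have := S.flip_right (S.flip_left fb hdm) hdm
    rwa [hdψ, ← permOf_comp (hv 2) (hv 3), ← permOf_comp (valid_comp (hv 2) (hv 3)) (hv 1),
      ← permOf_comp (valid_comp (valid_comp (hv 2) (hv 3)) (hv 1)) (valid_comp (hv 2) (hv 3))] at this
  have rc : F.toCoord.Rep (e * f * b * (e * f)) mc :=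
    F.toCoord.rep_mul (F.toCoord.rep_mul (F.toCoord.rep_mul re rf) rb) (F.toCoord.rep_mul re rf)
  have hc2 : e * f * b * (e * f) * (e * f * b * (e * f)) = 1 := by
    rw [show e * f * b * (e * f) * (e * f * b * (e * f)) = e * f * b * (e * f * (e * f)) * b * (e * f) by group, hd2,
      mul_one, mul_assoc (e * f) b b, h1 1 (by norm_num), mul_one, hd2]
  have hvc : valid pc = true := valid_comp (valid_comp (valid_comp (hv 2) (hv 3)) (hv 1)) (valid_comp (hv 2) (hv 3))
  have hpc : comp pc pc = idP := by decide +kernel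
  have hbc := F.pair_comm (hv 1) hvc fb fc rb rc (h1 1 (by norm_num)) hc2 s4 c4 m4 q4 u4 j4
    (F.pd_sq (by norm_num)) hpc
  obtain ⟨hle, hfin⟩ := Mathieu.card_le_sixteen a b e f (h1 0 (by norm_num)) (h1 1 (by norm_num)) (h1 2 (by norm_num))
    (h1 3 (by norm_num)) hab hae haf hef hbc
  refine ⟨_, hle, hfin, rfl, fun x hx => ?_⟩
  obtain ⟨⟨i, j, k, l⟩, rfl⟩ := Mathieu.closure_subset a b e f (h1 0 (by norm_num)) (h1 1 (by norm_num))
    (h1 2 (by norm_num)) (h1 3 (by norm_num)) hab hae haf hef hbc hx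
  refine ⟨i, j, k, l, ?_, by rintro ⟨rfl, rfl, rfl, rfl⟩; simp⟩
  refine F.toCoord.rep_mul (F.toCoord.rep_mul (F.toCoord.rep_mul ?_ ?_) ?_) ?_
  · cases i
    · exact F.toCoord.rep_one
    · exact ra
  · cases j
    · exact F.toCoord.rep_one
    · exact rb
  · cases k
    · exact F.toCoord.rep_one
    · exact rc
  · cases l
    · exact F.toCoord.rep_one
    · exact F.toCoord.rep_mul re rf

/-- The elements of `E` in the upper half of the coordinates. -/
def highE : Subgroup G where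
  carrier := {y | y ∈ twoCoreOfCentralizer z ∧ ∃ h < 64, S.rep y = F.Φ (h <<< 6)}
  one_mem' := ⟨one_mem _, 0, by norm_num, by
    rw [(S.rep_zero 1 (one_mem _)).2 (Or.inl rfl), Nat.zero_shiftLeft, F.toCoord.zero']⟩
  mul_mem' := by
    rintro x y ⟨hx, h, hh, ex⟩ ⟨hy, k, hk, ey⟩
    refine ⟨mul_mem hx hy, h ^^^ k, Nat.xor_lt_two_pow (n := 6) hh hk, ?_⟩
    rw [S.rep_mul x hx y hy, ex, ey, Nat.shiftLeft_xor_distrib, F.add]
  inv_mem' := by
    rintro x ⟨hx, h, hh, ex⟩
    refine ⟨inv_mem hx, h, hh, ?_⟩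
    have h0 := S.rep_mul x hx x⁻¹ (inv_mem hx)
    rw [mul_inv_cancel, (S.rep_zero 1 (one_mem _)).2 (Or.inl rfl), ex] at h0
    exact (eq_of_add_eq_zero' h0.symm).symm

theorem high_all {h : ℕ} (hh : h < 64) : qv (h <<< 6) = false ∧ h <<< 6 < 4096 ∧
    app mT (h <<< 6) % 64 = 0 ∧ (h ≠ 0 → app mT (h <<< 6) ≠ h <<< 6) ∧ app mT2 (h <<< 6) % 64 = 0 := by
  have h' := List.all_eq_true.1 high_checks h (List.mem_range.2 hh)
  simp only [Bool.and_eq_true, Bool.not_eq_true', decide_eq_true_eq, Bool.or_eq_true, beq_iff_eq, beq_eq_false_iff_ne,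
    ne_eq] at h'
  exact ⟨h'.1.1.1.1.1, h'.1.1.1.1.2, h'.1.1.2, fun hne => h'.1.2.resolve_left hne, h'.2⟩

theorem high_comm {x y : G} (hx : x ∈ F.highE) (hy : y ∈ F.highE) : x * x = 1 ∧ x * y = y * x := by
  obtain ⟨hxE, h, hh, ex⟩ := hx
  obtain ⟨hyE, k, hk, ey⟩ := hy
  obtain ⟨q1, l1, -⟩ := F.high_all hh
  obtain ⟨q2, l2, -⟩ := F.high_all hk
  obtain ⟨q3, l3, -⟩ := F.high_all (Nat.xor_lt_two_pow (n := 6) hh hk)
  have zb0 : Geo.zb false = 0 := rfl
  constructor
  · rw [S.q_sq x hxE, ex, F.form _ l1, q1, zb0, ExtraOut.pw_zero]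
  · have hp : QuadraticMap.polar S.q (S.rep x) (S.rep y) = 0 := by
      rw [QuadraticMap.polar, ex, ey, ← F.add, ← Nat.shiftLeft_xor_distrib, F.form _ l3, F.form _ l1, F.form _ l2, q1,
        q2, q3, zb0]
      simp
    have hc := S.q_conj x hxE y hyE
    rw [hp, ExtraOut.pw_zero, mul_one, mul_inv_eq_iff_eq_mul] at hc
    exact hc

theorem high_conj {g : G} {M : List ℕ} (hM : F.toCoord.Rep g M) (hlow : ∀ h < 64, app M (h <<< 6) % 64 = 0)
    {y : G} (hy : y ∈ F.highE) : g * y * g⁻¹ ∈ F.highE := by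
  obtain ⟨hyE, h, hh, ey⟩ := hy
  refine ⟨S.ext.norm g hM.hz y hyE, app M (h <<< 6) / 64, ?_, ?_⟩
  · have := app_lt_of_ok hM.ok (h <<< 6)
    omega
  · have e : (app M (h <<< 6) / 64) <<< 6 = app M (h <<< 6) := by
      rw [Nat.shiftLeft_eq]
      exact Nat.div_mul_cancel (Nat.dvd_of_mod_eq_zero (hlow h hh))
    rw [← S.act_rep g hM.hz y hyE, ey, hM.eq _ (F.high_all hh).2.1, e]

theorem p_high {y : G} (hy : y ∈ F.highE) : S.p * y * S.p⁻¹ ∈ F.highE := by
  rcases F.R.t_p with e | e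
  · rw [← e]; exact F.high_conj F.toCoord.rep_t (fun h hh => (F.high_all hh).2.2.1) hy
  · have hp : S.p = F.R.t * F.R.t := by
      rw [e, show S.p * S.p * (S.p * S.p) = S.p * S.p * S.p * S.p by group, S.p_pow, one_mul]
    rw [hp]
    exact F.high_conj (F.toCoord.rep_mul F.toCoord.rep_t F.toCoord.rep_t) (fun h hh => (F.high_all hh).2.2.2.2) hy

/-- The canonical complement to the centre in the upper half. -/
def upU : Subgroup G where
  carrier := {x | ∃ y ∈ F.highE, x = y * (S.p * y * S.p⁻¹)}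
  one_mem' := ⟨1, one_mem _, by simp⟩
  mul_mem' := by
    rintro _ _ ⟨a, ha, rfl⟩ ⟨b, hb, rfl⟩
    refine ⟨a * b, mul_mem ha hb, ?_⟩
    have e := (F.high_comm hb (F.p_high ha)).2
    calc a * (S.p * a * S.p⁻¹) * (b * (S.p * b * S.p⁻¹)) = a * ((S.p * a * S.p⁻¹) * b) * (S.p * b * S.p⁻¹) := by group
      _ = a * (b * (S.p * a * S.p⁻¹)) * (S.p * b * S.p⁻¹) := by rw [e]
      _ = _ := by group
  inv_mem' := by
    rintro _ ⟨a, ha, rfl⟩
    refine ⟨a⁻¹, inv_mem ha, ?_⟩
    have e := (F.high_comm (inv_mem ha) (inv_mem (F.p_high ha))).2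
    rw [mul_inv_rev, show S.p * a⁻¹ * S.p⁻¹ = (S.p * a * S.p⁻¹)⁻¹ by group, e]

theorem upU_le : F.upU ≤ F.highE := by
  rintro _ ⟨y, hy, rfl⟩
  exact mul_mem hy (F.p_high hy)

theorem upU_conj {g : G} {M : List ℕ} (hM : F.toCoord.Rep g M) (hlow : ∀ h < 64, app M (h <<< 6) % 64 = 0)
    (hp : g * S.p * g⁻¹ = S.p ∨ g * S.p * g⁻¹ = S.p * S.p) {x : G} (hx : x ∈ F.upU) : g * x * g⁻¹ ∈ F.upU := by
  obtain ⟨y, hy, rfl⟩ := hx
  have hg := F.high_conj hM hlow hy
  have e : g * (y * (S.p * y * S.p⁻¹)) * g⁻¹ =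
      g * y * g⁻¹ * (g * S.p * g⁻¹ * (g * y * g⁻¹) * (g * S.p * g⁻¹)⁻¹) := by group
  rw [e]
  rcases hp with h | h <;> rw [h]
  · exact ⟨_, hg, rfl⟩
  · -- the other generator: shift by the element
    set u := g * y * g⁻¹ with hu
    refine ⟨S.p * S.p * u * (S.p * S.p)⁻¹, ?_, ?_⟩
    · rw [show S.p * S.p * u * (S.p * S.p)⁻¹ = S.p * (S.p * u * S.p⁻¹) * S.p⁻¹ by group]
      exact F.p_high (F.p_high hg)
    · have hp3 : S.p * (S.p * S.p * u * (S.p * S.p)⁻¹) * S.p⁻¹ = u := by
        rw [show S.p * (S.p * S.p * u * (S.p * S.p)⁻¹) * S.p⁻¹ = S.p * S.p * S.p * u * (S.p * S.p * S.p)⁻¹ by group,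
          S.p_pow]
        simp
      rw [hp3]
      have hc : S.p * S.p * u * (S.p * S.p)⁻¹ ∈ F.highE := by
        rw [show S.p * S.p * u * (S.p * S.p)⁻¹ = S.p * (S.p * u * S.p⁻¹) * S.p⁻¹ by group]
        exact F.p_high (F.p_high hg)
      exact (F.high_comm hg hc).2

theorem upU_eq_one {x : G} (hx : x ∈ F.upU) (h : S.rep x = 0) : x = 1 := by
  obtain ⟨y, ⟨hyE, k, hk, ey⟩, rfl⟩ := hx
  have hpy := S.ext.norm S.p S.pz y hyE
  rw [S.rep_mul y hyE _ hpy, ← S.act_rep S.p S.pz y hyE] at h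
  have hy0 : S.rep y = 0 := S.p_fpf (eq_of_add_eq_zero' h).symm
  rcases (S.rep_zero y hyE).1 hy0 with e | e <;> rw [e]
  · simp
  · rw [show S.p * z * S.p⁻¹ = z by rw [S.pz, mul_inv_cancel_right], S.zz]

theorem upU_card : Nat.card ↥F.upU = 64 := by
  refine le_antisymm ?_ ?_
  · let f : ↥F.upU → Fin 64 := fun x => ⟨(F.upU_le x.2).2.choose, (F.upU_le x.2).2.choose_spec.1⟩
    have hf : Function.Injective f := fun x y e => by
      have hx := (F.upU_le x.2).2.choose_spec.2
      have hy := (F.upU_le y.2).2.choose_spec.2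
      have e' : (F.upU_le x.2).2.choose = (F.upU_le y.2).2.choose := congrArg Fin.val e
      rw [e', ← hy] at hx
      have hxy : ((x : G) * (y : G)⁻¹) ∈ F.upU := mul_mem x.2 (inv_mem y.2)
      refine Subtype.ext (mul_inv_eq_one.1 (F.upU_eq_one hxy ?_))
      have h0 := S.rep_mul _ (F.upU_le hxy).1 _ (F.upU_le y.2).1
      rw [inv_mul_cancel_right, hx] at h0
      exact right_eq_add.1 h0
    simpa using Nat.card_le_card_of_injective f hf
  · have hex : ∀ h : Fin 64, ∃ y ∈ F.highE, S.rep y = F.Φ (h.val <<< 6) := fun h => by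
      obtain ⟨y, hy, e⟩ := S.rep_surj (F.Φ (h.val <<< 6))
      exact ⟨y, ⟨hy, h.val, h.2, e⟩, e⟩
    choose y hy hy' using hex
    let f : Fin 64 → ↥F.upU := fun h => ⟨y h * (S.p * y h * S.p⁻¹), y h, hy h, rfl⟩
    have hf : Function.Injective f := fun a b e => by
      have e' : y a * (S.p * y a * S.p⁻¹) = y b * (S.p * y b * S.p⁻¹) := congrArg Subtype.val e
      have hr := congrArg S.rep e'
      rw [S.rep_mul _ (hy a).1 _ (S.ext.norm S.p S.pz _ (hy a).1), S.rep_mul _ (hy b).1 _ (S.ext.norm S.p S.pz _ (hy b).1),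
        ← S.act_rep S.p S.pz _ (hy a).1, ← S.act_rep S.p S.pz _ (hy b).1] at hr
      have h0 : S.rep (y a) + S.rep (y b) = 0 := by
        refine S.p_fpf ((eq_of_add_eq_zero' ?_).symm)
        rw [map_add, add_add_add_comm, hr, add_self']
      have := eq_of_add_eq_zero' h0
      rw [hy', hy'] at this
      have h2 := F.inj _ (F.high_all a.2).2.1 _ (F.high_all b.2).2.1 this
      refine Fin.ext ?_
      simpa [Nat.shiftLeft_eq] using h2
    simpa using Nat.card_le_card_of_injective f hf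

/-- An element of order 1024 meeting the kernel trivially. -/
theorem exists_complement_two {A : Subgroup G} (hab : ∀ x ∈ A, ∀ y ∈ A, x * y = y * x)
    (hlow : ∀ n < 64, ∃ y ∈ A, y ∈ twoCoreOfCentralizer z ∧ S.rep y = F.Φ n)
    (hAE : ∀ x ∈ A, x ∈ twoCoreOfCentralizer z → ∃ n < 64, S.rep x = F.Φ n)
    (hE : twoCoreOfCentralizer z ≤ Subgroup.normalizer (A : Set G))
    (hfl : ∀ i < 4, F.fl i ∈ Subgroup.normalizer (A : Set G)) (hsq : ∀ i < 4, F.fl i * F.fl i ≠ z) :
    ∃ K0 : Subgroup G, K0 ≤ Subgroup.normalizer (A : Set G) ∧ K0 ⊓ A = ⊥ ∧ Nat.card ↥K0 = 1024 := by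
  obtain ⟨T, hTc, hTfin, hTdef, hTrep⟩ := F.exists_sixteen hsq
  have hpT : ∀ x ∈ T, x * S.p * x⁻¹ = S.p ∨ x * S.p * x⁻¹ = S.p * S.p := by
    rw [hTdef]
    intro x hx
    have h4 : S.p * S.p * (S.p * S.p) = S.p := by
      rw [show S.p * S.p * (S.p * S.p) = S.p * S.p * S.p * S.p by group, S.p_pow, one_mul]
    have step : ∀ u, u * S.p * u⁻¹ = S.p * S.p → u * (S.p * S.p) * u⁻¹ = S.p := fun u hu => by
      rw [show u * (S.p * S.p) * u⁻¹ = (u * S.p * u⁻¹) * (u * S.p * u⁻¹) by group, hu, h4]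
    induction hx using Subgroup.closure_induction with
    | mem x hx =>
      simp only [Set.mem_insert_iff, Set.mem_singleton_iff] at hx
      rcases hx with rfl | rfl | rfl
      · exact Or.inr (F.fl_spec (by norm_num)).1.hp
      · exact Or.inr (F.fl_spec (by norm_num)).1.hp
      · refine Or.inl ?_
        rw [show F.fl 2 * F.fl 3 * S.p * (F.fl 2 * F.fl 3)⁻¹ = F.fl 2 * (F.fl 3 * S.p * (F.fl 3)⁻¹) * (F.fl 2)⁻¹ by
          group, (F.fl_spec (by norm_num)).1.hp]
        exact step _ (F.fl_spec (by norm_num)).1.hp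
    | one => exact Or.inl (by simp)
    | mul a b _ _ ha hb =>
      rw [show a * b * S.p * (a * b)⁻¹ = a * (b * S.p * b⁻¹) * a⁻¹ by group]
      rcases hb with hb | hb <;> rw [hb]
      · exact ha
      · rcases ha with ha | ha
        · right; rw [show a * (S.p * S.p) * a⁻¹ = (a * S.p * a⁻¹) * (a * S.p * a⁻¹) by group, ha]
        · left; exact step a ha
    | inv a _ ha =>
      rcases ha with ha | ha
      · left; conv_lhs => rw [← ha]
        group
      · right; conv_lhs => rw [← step a ha]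
        group
  have hTA : T ≤ Subgroup.normalizer (A : Set G) := by
    rw [hTdef, Subgroup.closure_le]
    intro x hx
    simp only [Set.mem_insert_iff, Set.mem_singleton_iff] at hx
    rcases hx with rfl | rfl | rfl
    · exact hfl 0 (by norm_num)
    · exact hfl 1 (by norm_num)
    · exact mul_mem (hfl 2 (by norm_num)) (hfl 3 (by norm_num))
  have h16 := sixteen_checks
  have hchk : ∀ i j k l, (((!i && !j && !k && !l) = true) ∨ ∃ a < 6, app (mf i j k l) (2 ^ a) ≠ 2 ^ a) ∧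
      ∀ h < 64, app (mf i j k l) (h <<< 6) % 64 = 0 := by
    intro i j k l
    simp only [List.all_cons, List.all_nil, Bool.and_true, Bool.and_eq_true] at h16
    have hh : ((!i && !j && !k && !l) || !((List.range 6).all fun a => app (mf i j k l) (2 ^ a) == 2 ^ a)) = true ∧
        ((List.range 64).all fun h => app (mf i j k l) (h <<< 6) % 64 == 0) = true := by
      cases i <;> cases j <;> cases k <;> cases l <;> tauto
    refine ⟨?_, fun h hh' => by simpa using List.all_eq_true.1 hh.2 h (List.mem_range.2 hh')⟩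
    rcases Bool.or_eq_true_iff.1 hh.1 with e | e
    · exact Or.inl e
    · right
      simpa using e
  have hTU : ∀ x ∈ T, ∀ u ∈ F.upU, x * u * x⁻¹ ∈ F.upU := fun x hx u hu => by
    obtain ⟨i, j, k, l, hr, -⟩ := hTrep x hx
    exact F.upU_conj hr (hchk i j k l).2 (hpT x hx) hu
  have hTN : T ≤ Subgroup.normalizer (F.upU : Set G) := fun x hx => Subgroup.mem_normalizer_iff.2 fun u =>
    ⟨hTU x hx u, fun h => by
      have := hTU x⁻¹ (inv_mem hx) _ h
      simpa [mul_assoc] using this⟩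
  -- elements fixing the lower half
  have hfix : ∀ x ∈ T, (∀ n < 64, S.act x (F.Φ n) = F.Φ n) → x = 1 := by
    intro x hx hf
    obtain ⟨i, j, k, l, hr, h1⟩ := hTrep x hx
    rcases (hchk i j k l).1 with e | ⟨a, ha, hne⟩
    · refine h1 ?_
      simpa [and_assoc] using e
    · have h2 : (2 : ℕ) ^ a < 4096 := by interval_cases a <;> norm_num
      have h3 : (2 : ℕ) ^ a < 64 := by interval_cases a <;> norm_num
      have := hr.eq _ h2
      rw [hf _ h3] at this
      exact absurd (F.inj _ h2 _ (app_lt_of_ok hr.ok _) this).symm hne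
  have hEfix : ∀ x ∈ twoCoreOfCentralizer z, ∀ n, S.act x (F.Φ n) = F.Φ n := fun x hx n => by
    rw [(S.act_ker x (S.ext.central x hx)).2 hx]; rfl
  have hUT : F.upU ⊓ T = ⊥ := (Subgroup.eq_bot_iff_forall _).2 fun x hx =>
    hfix x (Subgroup.mem_inf.1 hx).2 fun n _ => hEfix x (F.upU_le (Subgroup.mem_inf.1 hx).1).1 n
  refine ⟨F.upU ⊔ T, sup_le (fun x hx => hE (F.upU_le hx).1) hTA, ?_, ?_⟩
  · refine (Subgroup.eq_bot_iff_forall _).2 fun x hx => ?_
    obtain ⟨hxK, hxA⟩ := Subgroup.mem_inf.1 hx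
    rw [← SetLike.mem_coe, Subgroup.coe_mul_of_right_le_normalizer_left _ _ hTN] at hxK
    obtain ⟨u, hu, s, hs, rfl⟩ := hxK
    have huE := (F.upU_le hu).1
    obtain ⟨i, j, k, l, hr, -⟩ := hTrep s hs
    have huz : u * z = z * u := S.ext.central u huE
    have hxz : u * s * z = z * (u * s) := by rw [mul_assoc, hr.hz, ← mul_assoc, huz, mul_assoc]
    have hs1 : s = 1 := hfix s hs fun n hn => by
      obtain ⟨y, hyA, hyE, ey⟩ := hlow n hn
      have h1 := S.act_rep _ hxz y hyE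
      rw [show u * s * y * (u * s)⁻¹ = y by rw [hab _ hxA _ hyA, mul_inv_cancel_right], ey,
        S.act_mul u s huz hr.hz, (S.act_ker u huz).2 huE, one_mul] at h1
      exact h1
    subst hs1
    show u * 1 = 1
    have hxA : u * 1 ∈ A := hxA
    rw [mul_one] at hxA ⊢
    refine F.upU_eq_one hu ?_
    obtain ⟨n, hn, en⟩ := hAE u hxA huE
    obtain ⟨-, h, hh, eh⟩ := F.upU_le hu
    have := F.inj _ (F.high_all hh).2.1 _ (by omega) (eh.symm.trans en)
    rw [Nat.shiftLeft_eq] at this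
    obtain rfl : h = 0 := by omega
    rw [eh, Nat.zero_shiftLeft, F.toCoord.zero']
  · have hTcard : Nat.card ↥T = 16 := by
      refine le_antisymm hTc ?_
      let f : Bool × Bool × Bool × Bool → ↥T := fun u =>
        ⟨(if u.1 then F.fl 0 else 1) * (if u.2.1 then F.fl 1 else 1) *
          (if u.2.2.1 then F.fl 2 * F.fl 3 * F.fl 1 * (F.fl 2 * F.fl 3) else 1) *
          (if u.2.2.2 then F.fl 2 * F.fl 3 else 1), by
          have ha : F.fl 0 ∈ T := hTdef ▸ Subgroup.subset_closure (Set.mem_insert _ _)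
          have hb : F.fl 1 ∈ T := hTdef ▸ Subgroup.subset_closure (Set.mem_insert_of_mem _ (Set.mem_insert _ _))
          have hd : F.fl 2 * F.fl 3 ∈ T := hTdef ▸ Subgroup.subset_closure
            (Set.mem_insert_of_mem _ (Set.mem_insert_of_mem _ rfl))
          refine mul_mem (mul_mem (mul_mem ?_ ?_) ?_) ?_ <;> split
          all_goals first
            | exact one_mem T | exact ha | exact hb | exact hd | exact mul_mem (mul_mem hd hb) hd⟩
      have hrep : ∀ u, F.toCoord.Rep (f u : G) (mf u.1 u.2.1 u.2.2.1 u.2.2.2) := fun u => by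
        refine F.toCoord.rep_mul (F.toCoord.rep_mul (F.toCoord.rep_mul ?_ ?_) ?_) ?_ <;> split <;>
          first
            | exact F.toCoord.rep_one | exact (F.fl_spec (by norm_num)).2
            | exact F.toCoord.rep_mul (F.fl_spec (i := 2) (by norm_num)).2 (F.fl_spec (i := 3) (by norm_num)).2
            | exact F.toCoord.rep_mul (F.toCoord.rep_mul (F.toCoord.rep_mul (F.fl_spec (i := 2) (by norm_num)).2
                (F.fl_spec (i := 3) (by norm_num)).2) (F.fl_spec (i := 1) (by norm_num)).2)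
                (F.toCoord.rep_mul (F.fl_spec (i := 2) (by norm_num)).2 (F.fl_spec (i := 3) (by norm_num)).2)
      have hmf : ∀ u v : Bool × Bool × Bool × Bool,
          mf u.1 u.2.1 u.2.2.1 u.2.2.2 = mf v.1 v.2.1 v.2.2.1 v.2.2.2 → u = v := by decide +kernel
      have hinj : Function.Injective f := fun u v e =>
        hmf u v (F.toCoord.rep_unique (hrep u) (by rw [e]; exact hrep v))
      simpa using Nat.card_le_card_of_injective f hinj
    rw [Mathieu.card_sup_inf_bot _ _ hTN hUT, F.upU_card, hTcard]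

end Cfsg.Agent.Spor.JFour.Full
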