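import Cfsg.Agent.Lib.Spor.JFourType.AGroup
import Cfsg.Agent.Lib.Spor.JFourType.Mathieu.Cocode11
import Cfsg.Agent.Lib.Spor.JFourType.Mathieu.Sylow
import Cfsg.Agent.Lib.Spor.Golay.CensusClasses

/-!
The normaliser of the elementary abelian group of order 2048 acts through the Mathieu group of degree 24 on the
classes of the duads; lifts of involutions and squares of the outer lifts.
-/

set_option autoImplicit false
set_option maxRecDepth 100000
set_option Elab.async false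
set_option linter.style.haveILetI false

open Cfsg Cfsg.Agent.Spor.Golay
open Cfsg.Agent.Spor.Cos.J4Sub (app mm app_mm app_xor app_zero idCols app_idCols)

namespace Cfsg.Agent.Spor.JFour.Mathieu

/-- The identity on eleven bits. -/
def mI11 : List ℕ := idCols 11 0

theorem app_mI11 {v : ℕ} (hv : v < 2048) : app mI11 v = v := by
  rw [mI11, app_idCols 11 0 v hv, Nat.shiftLeft_zero]

/-- The matrices of the generators on eleven bits. -/
def gen11 (χ : ℕ) : ℕ → List ℕ
  | 4 => m11 4 mX 0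
  | 5 => m11 5 mY 0
  | 6 => m11 6 mS 0
  | 7 => m11 7 mW χ
  | _ => mI11

/-- The matrix of a word on eleven bits. -/
def ev11 (χ : ℕ) : List ℕ → List ℕ
  | [] => mI11
  | k :: w => mm (gen11 χ k) (ev11 χ w)

/-- The matrix of an outer lift on eleven bits. -/
def fl11 (χ i : ℕ) : List ℕ :=
  let M := mm (ev11 χ (wd i)) (m11 9 mO 0)
  if kd i = 1 then mm (m11 0 mT 0) M else M

/-- The values of these matrices. -/
def fl11v : List (List ℕ) :=
  [[1, 126, 84, 54, 108, 78, 60, 512, 1536, 128, 384], [1, 16, 8, 4, 2, 78, 60, 1152, 1280, 896, 1024],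
    [1, 60, 114, 54, 108, 42, 126, 1024, 1536, 384, 128], [1, 64, 32, 54, 108, 4, 2, 1664, 256, 768, 1280],
    [1, 126, 84, 54, 108, 78, 60, 512, 1536, 128, 384], [1, 16, 8, 4, 2, 78, 60, 1153, 1281, 897, 1024],
    [1, 60, 114, 54, 108, 42, 126, 1024, 1536, 384, 128], [1, 64, 32, 54, 108, 4, 2, 1665, 256, 769, 1281]]

/-- The matrix of the first translation. -/
def u1M : List ℕ := m11T 0

/-- The matrix of the translation of the second class. -/
def u2M : List ℕ := mm (mm (m11T 1) (m11T 2)) (m11T 4)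

/-- The permutation of the first translation. -/
def u1P : ℕ := 0xb9ab47ca289b9a749170658aa10c01

/-- The permutation of the second. -/
def u2P : ℕ := 0x8a695436ef8164431ed352dcc08062

/-- A matrix realises a packed permutation on the duads. -/
def permOK (M : List ℕ) (Q : ℕ) : Bool :=
  inM24 Q && (List.range 24).all fun a => (List.range a).all fun b =>
    app M (cN a ^^^ cN b) == cN (Golay.get Q a) ^^^ cN (Golay.get Q b)

theorem class_checks : permOK u1M u1P = true ∧ permOK u2M u2P = true ∧ comp u1P u1P = idP ∧ comp u2P u2P = idP ∧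
    pop (Census.fixMask u1P) = 8 ∧ pop (Census.fixMask u2P) = 0 ∧
    ([u1M, u2M].all fun M => M.all fun c => decide (c < 2048)) = true ∧ u1P ≠ idP ∧ u2P ≠ idP := by
  decide +kernel

theorem wd_gen : ((List.range 4).all fun i => (wd i).all fun k => [4, 5, 6, 7].contains k) = true ∧
    ([0, 9].all fun χ => (List.range 4).all fun i => fl11v.contains (fl11 χ i)) = true ∧
    (fl11v.all fun M => (List.range 2048).all fun v => !(v ^^^ app M v == 1)) = true := by
  decide +kernel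

theorem order_two {σ : Equiv.Perm GolayPt} (h : σ * σ = 1) (h1 : σ ≠ 1) : orderOf σ = 2 :=
  orderOf_eq_prime (by rw [pow_two]; exact h) h1

/-- An involution of the group is conjugate to one of the two translations. -/
theorem invol_conj {σ : Equiv.Perm GolayPt} (hσ : σ ∈ Cfsg.M24) (h2 : σ * σ = 1) (h1 : σ ≠ 1) :
    ∃ k ∈ Cfsg.M24, k * σ * k⁻¹ = permOf u1P ∨ k * σ * k⁻¹ = permOf u2P := by
  obtain ⟨hp1, hp2, hq1, hq2, f1, f2, -, n1, n2⟩ := class_checks
  simp only [permOK, Bool.and_eq_true] at hp1 hp2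
  have hv : ∀ {Q : ℕ}, inM24 Q = true → valid Q = true := fun {Q} h => by
    simp only [inM24, Bool.and_eq_true] at h; exact h.1
  have hne : ∀ {Q : ℕ}, valid Q = true → Q ≠ idP → pack 24 (Golay.get Q) = Q → permOf Q ≠ 1 := fun {Q} hQ hn hpk e => by
    apply hn
    rw [← hpk, idP]
    refine Census.pack_ext 24 _ _ fun i hi => ?_
    have := idx_permOf hQ (pt i)
    rw [e, Equiv.Perm.one_apply, idx_pt hi] at this
    exact this.symm
  have hpk : pack 24 (Golay.get u1P) = u1P ∧ pack 24 (Golay.get u2P) = u2P := by decide +kernel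
  obtain ⟨k, hk, hcase⟩ := Census.two_classes hσ (order_two h2 h1)
  have hQ : ∀ {Q : ℕ}, inM24 Q = true → comp Q Q = idP → permOf Q ≠ 1 → ∃ j ∈ Cfsg.M24,
      ((Finset.univ.filter fun p => permOf Q p = p).card = 8 ∧ j * permOf Q * j⁻¹ = permOf (Census.repTwo.getD 0 0)) ∨
        ((Finset.univ.filter fun p => permOf Q p = p).card = 0 ∧ j * permOf Q * j⁻¹ = permOf (Census.repTwo.getD 1 0)) :=
    fun {Q} h hsq hn => Census.two_classes (permOf_mem_M24 h) (order_two (by
      rw [← permOf_comp (hv h) (hv h), hsq, permOf_idP]) hn)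
  obtain ⟨j1, hj1, c1⟩ := hQ hp1.1 hq1 (hne (hv hp1.1) n1 hpk.1)
  obtain ⟨j2, hj2, c2⟩ := hQ hp2.1 hq2 (hne (hv hp2.1) n2 hpk.2)
  rw [Census.fix_card (hv hp1.1), f1] at c1
  rw [Census.fix_card (hv hp2.1), f2] at c2
  simp only [show (8 : ℕ) ≠ 0 from by norm_num, false_and, or_false, true_and] at c1
  simp only [show (0 : ℕ) ≠ 8 from by norm_num, false_and, false_or, true_and] at c2
  rcases hcase with ⟨-, e⟩ | ⟨-, e⟩
  · refine ⟨j1⁻¹ * k, mul_mem (inv_mem hj1) hk, Or.inl ?_⟩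
    rw [show j1⁻¹ * k * σ * (j1⁻¹ * k)⁻¹ = j1⁻¹ * (k * σ * k⁻¹) * j1 by group, e, ← c1]
    group
  · refine ⟨j2⁻¹ * k, mul_mem (inv_mem hj2) hk, Or.inr ?_⟩
    rw [show j2⁻¹ * k * σ * (j2⁻¹ * k)⁻¹ = j2⁻¹ * (k * σ * k⁻¹) * j2 by group, e, ← c2]
    group

end Cfsg.Agent.Spor.JFour.Mathieu

namespace Cfsg.Agent.Spor.JFour.Frame

open Mathieu

variable {G : Type*} [Group G] {z : G} {P : Subgroup G} {S : Setting z P} (Fr : Frame S)

/-- The hypotheses on the elementary abelian group. -/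
structure Duadic [Finite G] : Prop where
  self : Subgroup.centralizer (Fr.A : Set G) ≤ Fr.A
  duad : ∀ n ∈ Subgroup.normalizer (Fr.A : Set G), ∀ v < 2048, tMask.testBit v = true →
    ∃ w < 2048, tMask.testBit w = true ∧ n * Fr.Av v * n⁻¹ = Fr.Av w
  card : Nat.card ↥(Subgroup.normalizer (Fr.A : Set G)) = 2 ^ 11 * 244823040

variable [Finite G]

/-- The coordinates as a bijection. -/
noncomputable def coordEquiv : V11 ≃ ↥Fr.A :=
  Equiv.ofBijective (fun v => ⟨Fr.Av (exists_num v).choose, Fr.Av_mem (exists_num v).choose_spec.1⟩) ⟨fun v w e => by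
      have e' := Fr.Av_inj (exists_num v).choose_spec.1 (exists_num w).choose_spec.1 (congrArg Subtype.val e)
      rw [← (exists_num v).choose_spec.2, e', (exists_num w).choose_spec.2],
    fun a => by
      obtain ⟨n, hn, e⟩ := a.2
      refine ⟨vb n, Subtype.ext ?_⟩
      have := vb_inj (exists_num (vb n)).choose_spec.1 hn (exists_num (vb n)).choose_spec.2
      show Fr.Av _ = _
      rw [this, e]⟩

theorem coordEquiv_vb {n : ℕ} (hn : n < 2048) : (Fr.coordEquiv (vb n) : G) = Fr.Av n := by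
  show Fr.Av _ = _
  rw [vb_inj (exists_num (vb n)).choose_spec.1 hn (exists_num (vb n)).choose_spec.2]

/-- The action of the normaliser on the coordinates. -/
noncomputable def actV : ↥(Subgroup.normalizer (Fr.A : Set G)) →* Equiv.Perm V11 where
  toFun n := Fr.coordEquiv.trans ((
    { toFun := fun a => ⟨(n : G) * a * (n : G)⁻¹, (Subgroup.mem_normalizer_iff.1 n.2 _).1 a.2⟩
      invFun := fun a => ⟨(n : G)⁻¹ * a * n, by
        have := (Subgroup.mem_normalizer_iff.1 (inv_mem n.2) _).1 a.2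
        simpa using this⟩
      left_inv := fun a => Subtype.ext (by simp [mul_assoc])
      right_inv := fun a => Subtype.ext (by simp [mul_assoc]) } : ↥Fr.A ≃ ↥Fr.A).trans Fr.coordEquiv.symm)
  map_one' := Equiv.ext fun v => by
    simp only [Equiv.trans_apply, Equiv.coe_fn_mk, Equiv.Perm.one_apply, OneMemClass.coe_one, one_mul, inv_one,
      mul_one, Subtype.coe_eta, Equiv.symm_apply_apply]
  map_mul' a b := Equiv.ext fun v => by
    simp only [Equiv.trans_apply, Equiv.coe_fn_mk, Equiv.Perm.mul_apply, Equiv.apply_symm_apply]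
    congr 1
    exact Subtype.ext (by simp [mul_assoc])

theorem actV_vb (n : ↥(Subgroup.normalizer (Fr.A : Set G))) {v w : ℕ} (hv : v < 2048) (hw : w < 2048)
    (h : (n : G) * Fr.Av v * (n : G)⁻¹ = Fr.Av w) : Fr.actV n (vb v) = vb w := by
  simp only [actV, MonoidHom.coe_mk, OneHom.coe_mk, Equiv.trans_apply, Equiv.coe_fn_mk]
  rw [Equiv.symm_apply_eq]
  refine Subtype.ext ?_
  show (n : G) * _ * (n : G)⁻¹ = _
  rw [Fr.coordEquiv_vb hv, Fr.coordEquiv_vb hw, h]

theorem actV_add (n : ↥(Subgroup.normalizer (Fr.A : Set G))) (x y : V11) :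
    Fr.actV n (x + y) = Fr.actV n x + Fr.actV n y := by
  obtain ⟨a, ha, rfl⟩ := exists_num x
  obtain ⟨b, hb, rfl⟩ := exists_num y
  have img : ∀ v < 2048, ∃ w < 2048, (n : G) * Fr.Av v * (n : G)⁻¹ = Fr.Av w := fun v hv => by
    obtain ⟨w, hw, e⟩ := (Subgroup.mem_normalizer_iff.1 n.2 _).1 (Fr.Av_mem hv)
    exact ⟨w, hw, e.symm⟩
  obtain ⟨a', ha', ea⟩ := img a ha
  obtain ⟨b', hb', eb⟩ := img b hb
  rw [Fr.actV_vb n ha ha' ea, Fr.actV_vb n hb hb' eb, ← vb_xor, ← vb_xor]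
  refine Fr.actV_vb n (Nat.xor_lt_two_pow (n := 11) ha hb) (Nat.xor_lt_two_pow (n := 11) ha' hb') ?_
  rw [← Fr.Av_mul ha hb, ← Fr.Av_mul ha' hb', ← ea, ← eb]
  group

theorem actV_eq_one (D : Fr.Duadic) (n : ↥(Subgroup.normalizer (Fr.A : Set G))) :
    Fr.actV n = 1 ↔ (n : G) ∈ Fr.A := by
  constructor
  · intro h
    refine D.self (Subgroup.mem_centralizer_iff.2 fun a ha => ?_)
    obtain ⟨v, hv, rfl⟩ := ha
    obtain ⟨w, hw, e⟩ := (Subgroup.mem_normalizer_iff.1 n.2 _).1 (Fr.Av_mem hv)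
    have h1 := Fr.actV_vb n hv hw e.symm
    rw [h, Equiv.Perm.one_apply] at h1
    rw [← vb_inj hv hw h1] at e
    exact (mul_inv_eq_iff_eq_mul.1 e.symm).symm
  · intro h
    refine Equiv.ext fun x => ?_
    obtain ⟨v, hv, rfl⟩ := exists_num x
    rw [Equiv.Perm.one_apply, Fr.actV_vb n hv hv (by rw [Fr.A_comm _ h _ (Fr.Av_mem hv), mul_inv_cancel_right])]

/-- The map onto the Mathieu group. -/
theorem exists_toM24 (D : Fr.Duadic) :
    ∃ f : ↥(Subgroup.normalizer (Fr.A : Set G)) →* ↥Cfsg.M24,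
      (∀ n, f n = 1 ↔ (n : G) ∈ Fr.A) ∧ Function.Surjective f ∧
        ∀ n a b, a ≠ b → Fr.actV n (cV a + cV b) =
          cV ((f n : Equiv.Perm GolayPt) a) + cV ((f n : Equiv.Perm GolayPt) b) := by
  classical
  obtain ⟨f, hk, hf⟩ := cocode.exists_hom Fr.actV Fr.actV_add (fun n a b hab => by
    have hv : cN (idx a) ^^^ cN (idx b) < 2048 :=
      Nat.xor_lt_two_pow (n := 11) (cN_lt' (idx_lt a)) (cN_lt' (idx_lt b))
    obtain ⟨w, hw, hT, e⟩ := D.duad n n.2 _ hv (duad_mask hab)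
    obtain ⟨x, y, hxy, rfl⟩ := mask_duad hw hT
    exact ⟨x, y, hxy, by rw [← duad_eq, ← duad_eq, Fr.actV_vb n hv hw e]⟩)
  have hker : ∀ n, f n = 1 ↔ (n : G) ∈ Fr.A := fun n => by
    rw [← MonoidHom.mem_ker, hk, MonoidHom.mem_ker, Fr.actV_eq_one D n]
  refine ⟨f, hker, ?_, hf⟩
  have hsub : f.ker = Fr.A.subgroupOf (Subgroup.normalizer (Fr.A : Set G)) := by
    ext n; rw [MonoidHom.mem_ker, hker, Subgroup.mem_subgroupOf]
  have hc := Subgroup.card_eq_card_quotient_mul_card_subgroup f.ker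
  rw [Nat.card_congr (QuotientGroup.quotientKerEquivRange f).toEquiv, D.card, hsub,
    Nat.card_congr (Subgroup.subgroupOfEquivOfLe (Subgroup.le_normalizer (H := Fr.A))).toEquiv, Fr.card_A,
    mul_comm (2 ^ 11)] at hc
  have hr := Nat.eq_of_mul_eq_mul_right (by norm_num : 0 < 2 ^ 11) hc
  rw [← MonoidHom.range_eq_top]
  exact Subgroup.eq_top_of_card_eq _ (by rw [← hr, card_M24])

/-- The image of an element with a matrix realising a permutation. -/
theorem toM24_eq {f : ↥(Subgroup.normalizer (Fr.A : Set G)) →* ↥Cfsg.M24}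
    (hf : ∀ n a b, a ≠ b → Fr.actV n (cV a + cV b) =
      cV ((f n : Equiv.Perm GolayPt) a) + cV ((f n : Equiv.Perm GolayPt) b))
    {g : G} {M : List ℕ} (hM : Fr.Act g M) (hg : g ∈ Subgroup.normalizer (Fr.A : Set G)) {Q : ℕ}
    (hQ : permOK M Q = true) : (f ⟨g, hg⟩ : Equiv.Perm GolayPt) = permOf Q := by
  simp only [permOK, Bool.and_eq_true, List.all_eq_true, List.mem_range, beq_iff_eq] at hQ
  obtain ⟨hQm, hQd⟩ := hQ
  have hv : valid Q = true := by simp only [inM24, Bool.and_eq_true] at hQm; exact hQm.1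
  have hd : ∀ a < 24, ∀ b < 24, a ≠ b →
      app M (cN a ^^^ cN b) = cN (Golay.get Q a) ^^^ cN (Golay.get Q b) := fun a ha b hb hne => by
    rcases Nat.lt_or_ge b a with h | h
    · exact hQd a ha b h
    · rw [Nat.xor_comm, Nat.xor_comm (cN (Golay.get Q a))]
      exact hQd b hb a (by omega)
  refine Equiv.ext fun a => ?_
  set σ := (f ⟨g, hg⟩ : Equiv.Perm GolayPt) with hσ
  have hne : ∀ b, a ≠ b → ({σ a, σ b} : Finset GolayPt) = {permOf Q a, permOf Q b} := fun b hab =>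
    cocode.pair_inj (Finset.card_pair fun e => hab (σ.injective e))
      (Finset.card_pair fun e => hab ((permOf Q).injective e)) (by
        rw [Finset.sum_pair (fun e => hab (σ.injective e)),
          Finset.sum_pair (fun e => hab ((permOf Q).injective e)), ← hf _ a b hab, ← duad_eq, ← duad_eq]
        have hlt : ∀ x y : GolayPt, cN (idx x) ^^^ cN (idx y) < 2048 := fun x y =>
          Nat.xor_lt_two_pow (n := 11) (cN_lt' (idx_lt x)) (cN_lt' (idx_lt y))
        refine Fr.actV_vb ⟨g, hg⟩ (hlt a b) (hlt _ _) ?_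
        rw [idx_permOf hv, idx_permOf hv, hM.eq _ (hlt a b),
          hd _ (idx_lt a) _ (idx_lt b) fun e => hab (idx_injective e)])
  obtain ⟨b, hb⟩ := Finset.card_pos.1 (show 0 < (Finset.univ.erase a).card by
    rw [Finset.card_erase_of_mem (Finset.mem_univ a), Finset.card_univ, card_golayPt]; norm_num)
  obtain ⟨d, hd'⟩ := Finset.card_pos.1 (show 0 < ((Finset.univ.erase a).erase b).card by
    rw [Finset.card_erase_of_mem hb, Finset.card_erase_of_mem (Finset.mem_univ a), Finset.card_univ, card_golayPt]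
    norm_num)
  simp only [Finset.mem_erase, Finset.mem_univ, and_true] at hb hd'
  have h1 : σ a ∈ ({permOf Q a, permOf Q b} : Finset GolayPt) := hne b (Ne.symm hb) ▸ by simp
  have h2 : σ a ∈ ({permOf Q a, permOf Q d} : Finset GolayPt) := hne d (Ne.symm hd'.2) ▸ by simp
  simp only [Finset.mem_insert, Finset.mem_singleton] at h1 h2
  rcases h1 with h | h
  · exact h
  · rcases h2 with h' | h'
    · exact h'
    · exact absurd ((permOf Q).injective (h.symm.trans h')) (Ne.symm hd'.1)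

theorem mem_normalizer_of_act {g : G} {M : List ℕ} (hM : Fr.Act g M) :
    g ∈ Subgroup.normalizer (Fr.A : Set G) := by
  have h1 : ∀ a ∈ Fr.A, g * a * g⁻¹ ∈ Fr.A := by
    rintro _ ⟨v, hv, rfl⟩
    exact ⟨_, hM.lt v, (hM.eq v hv).symm⟩
  refine Subgroup.mem_normalizer_iff.2 fun a => ⟨h1 a, fun h => ?_⟩
  let φ : ↥Fr.A → ↥Fr.A := fun x => ⟨g * x * g⁻¹, h1 x x.2⟩
  have hinj : Function.Injective φ := fun x y e => Subtype.ext (by simpa [φ] using congrArg Subtype.val e)
  obtain ⟨x, hx⟩ := (hinj.bijective_of_nat_card_le le_rfl).surjective ⟨_, h⟩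
  have hxa : (x : G) = a := by simpa [φ] using congrArg Subtype.val hx
  exact hxa ▸ x.2

theorem act_mul {g h : G} {M N : List ℕ} (hg : Fr.Act g M) (hh : Fr.Act h N) : Fr.Act (g * h) (mm M N) :=
  ⟨fun v => by rw [app_mm]; exact hg.lt _, fun v hv => by
    rw [app_mm, show g * h * Fr.Av v * (g * h)⁻¹ = g * (h * Fr.Av v * h⁻¹) * g⁻¹ by group, hh.eq v hv,
      hg.eq _ (hh.lt v)]⟩

theorem act_one : Fr.Act 1 mI11 :=
  Fr.act_of_cols (by decide) (by decide +kernel) fun i hi => by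
    rw [one_mul, inv_one, mul_one, show mI11.getD i 0 = 2 ^ i by revert hi; revert i; decide +kernel]

theorem act_fl {i : ℕ} (hi : i < 4) : Fr.Act (Fr.F.fl i) (fl11 Fr.χ i) := by
  have hw := List.all_eq_true.1 wd_gen.1 i (List.mem_range.2 hi)
  simp only [List.all_eq_true, List.contains_iff_mem] at hw
  have key : ∀ w : List ℕ, (∀ k ∈ w, k ∈ [4, 5, 6, 7]) →
      Fr.Act (w.map fun k => if k = 6 then Fr.F.s else if k = 7 then Fr.F.w else Fr.F.toCoord.lift k).prod
        (ev11 Fr.χ w) := by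
    intro w
    induction w with
    | nil => intro _; simpa [ev11] using Fr.act_one
    | cons k w ih =>
      intro h
      rw [List.map_cons, List.prod_cons, ev11]
      refine Fr.act_mul ?_ (ih fun j hj => h j (List.mem_cons_of_mem _ hj))
      have := h k (List.mem_cons_self ..)
      simp only [List.mem_cons, List.not_mem_nil, or_false] at this
      rcases this with rfl | rfl | rfl | rfl
      · simpa [Coord.lift, gen11] using Fr.act_x
      · simpa [Coord.lift, gen11] using Fr.act_y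
      · simpa [gen11] using Fr.act_s
      · simpa [gen11] using Fr.act_w
  have h1 := Fr.act_mul (key (wd i) hw) Fr.act_o
  unfold Full.fl fl11
  interval_cases i <;> simp only [kd, pow_zero, one_mul, pow_one, if_neg, if_pos, zero_ne_one, not_false_eq_true]
  · exact h1
  · exact h1
  · exact Fr.act_mul Fr.act_t h1
  · exact Fr.act_mul Fr.act_t h1

theorem core_mem_normalizer : twoCoreOfCentralizer z ≤ Subgroup.normalizer (Fr.A : Set G) := by
  have hle : Fr.A ≤ Subgroup.normalizer (Fr.A : Set G) := Subgroup.le_normalizer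
  have hlh : ∀ n < 4096, Fr.F.lh n ∈ Subgroup.normalizer (Fr.A : Set G) := by
    refine xor_induction (p := fun n => Fr.F.lh n ∈ Subgroup.normalizer (Fr.A : Set G)) ?_ 12 fun i hi m hm ih => ?_
    · rw [Fr.F.toCoord.lh_zero]; exact one_mem _
    have hi' : Fr.F.lh (2 ^ i) ∈ Subgroup.normalizer (Fr.A : Set G) := by
      rcases Nat.lt_or_ge i 6 with h | h
      · have hp : (2 : ℕ) ^ i < 64 := Nat.pow_lt_pow_right (by norm_num) h
        rw [← Fr.Av_low hp]
        exact hle (Fr.Av_mem (by omega))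
      · obtain ⟨j, rfl⟩ : ∃ j, i = 6 + j := ⟨i - 6, by omega⟩
        exact Fr.mem_normalizer_of_act (Fr.act_tr (show j < 6 by omega))
    have hp : (2 : ℕ) ^ i < 4096 := Nat.pow_lt_pow_right (by norm_num) (show i < 12 from hi)
    obtain ⟨h1, r1, -⟩ := Fr.F.toCoord.lh_spec (2 ^ i)
    obtain ⟨h2, r2, -⟩ := Fr.F.toCoord.lh_spec m
    have hr : S.rep (Fr.F.lh (2 ^ i) * Fr.F.lh m) = Fr.F.Φ (2 ^ i ^^^ m) := by
      rw [S.rep_mul _ h1 _ h2, r1, r2, Fr.F.add]
    rcases Fr.F.toCoord.lh_cases (mul_mem h1 h2) hr with e | e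
    · rw [← e]; exact mul_mem hi' ih
    · rw [show Fr.F.lh (2 ^ i ^^^ m) = Fr.F.lh (2 ^ i) * Fr.F.lh m * z by
        rw [e, mul_assoc, S.zz, mul_one]]
      exact mul_mem (mul_mem hi' ih) (hle Fr.z_mem_A)
  intro x hx
  obtain ⟨n, hn, e⟩ := Fr.F.toCoord.surj (S.rep x)
  rcases Fr.F.toCoord.lh_cases hx e.symm with h | h <;> rw [h]
  · exact hlh n hn
  · exact mul_mem (hlh n hn) (hle Fr.z_mem_A)

/-- The element of the first class. -/
noncomputable def u1 : G := Fr.F.lh 64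

/-- The element of the second class. -/
noncomputable def u2 : G := Fr.F.lh 128 * Fr.F.lh 256 * Fr.F.lh 1024

theorem lh_high {h : ℕ} (hh : h < 64) : Fr.F.lh (h <<< 6) ∈ Fr.F.highE :=
  ⟨(Fr.F.toCoord.lh_spec _).1, h, hh, (Fr.F.toCoord.lh_spec _).2.1⟩

theorem u_spec : (Fr.u1 * Fr.u1 = 1 ∧ Fr.Act Fr.u1 u1M ∧ Fr.u1 ∈ twoCoreOfCentralizer z) ∧
    Fr.u2 * Fr.u2 = 1 ∧ Fr.Act Fr.u2 u2M ∧ Fr.u2 ∈ twoCoreOfCentralizer z := by
  have h1 : Fr.u1 ∈ Fr.F.highE := Fr.lh_high (h := 1) (by norm_num)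
  have h2 : Fr.u2 ∈ Fr.F.highE :=
    mul_mem (mul_mem (Fr.lh_high (h := 2) (by norm_num)) (Fr.lh_high (h := 4) (by norm_num)))
      (Fr.lh_high (h := 16) (by norm_num))
  exact ⟨⟨(Fr.F.high_comm h1 h1).1, Fr.act_tr (i := 0) (by norm_num), h1.1⟩, (Fr.F.high_comm h2 h2).1,
    Fr.act_mul (Fr.act_mul (Fr.act_tr (i := 1) (by norm_num)) (Fr.act_tr (i := 2) (by norm_num)))
      (Fr.act_tr (i := 4) (by norm_num)), h2.1⟩

/-- Every involution of the group has an involution lift. -/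
theorem exists_invol_lift (D : Fr.Duadic) {f : ↥(Subgroup.normalizer (Fr.A : Set G)) →* ↥Cfsg.M24}
    (hsurj : Function.Surjective f)
    (hf : ∀ n a b, a ≠ b → Fr.actV n (cV a + cV b) =
      cV ((f n : Equiv.Perm GolayPt) a) + cV ((f n : Equiv.Perm GolayPt) b))
    {σ : ↥Cfsg.M24} (h2 : σ * σ = 1) :
    ∃ n : ↥(Subgroup.normalizer (Fr.A : Set G)), n * n = 1 ∧ f n = σ := by
  by_cases h1 : σ = 1
  · exact ⟨1, one_mul 1, by rw [map_one, h1]⟩
  obtain ⟨⟨a2, aA, -⟩, b2, bA, -⟩ := Fr.u_spec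
  obtain ⟨k, hk, hcase⟩ := invol_conj σ.2 (congrArg Subtype.val h2) fun e => h1 (Subtype.ext e)
  obtain ⟨m, hm⟩ := hsurj ⟨k, hk⟩
  have key : ∀ {u : G} {M : List ℕ} {Q : ℕ}, u * u = 1 → Fr.Act u M → permOK M Q = true →
      k * (σ : Equiv.Perm GolayPt) * k⁻¹ = permOf Q →
      ∃ n : ↥(Subgroup.normalizer (Fr.A : Set G)), n * n = 1 ∧ f n = σ := fun {u M Q} hu hM hQ e => by
    let v : ↥(Subgroup.normalizer (Fr.A : Set G)) := ⟨u, Fr.mem_normalizer_of_act hM⟩
    refine ⟨m⁻¹ * v * m, ?_, Subtype.ext ?_⟩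
    · rw [show m⁻¹ * v * m * (m⁻¹ * v * m) = m⁻¹ * (v * v) * m by group, show v * v = 1 from Subtype.ext hu, mul_one,
        inv_mul_cancel]
    · rw [map_mul, map_mul, map_inv, hm]
      show k⁻¹ * (f v : Equiv.Perm GolayPt) * k = _
      rw [Fr.toM24_eq hf hM (Fr.mem_normalizer_of_act hM) hQ, ← e]
      group
  rcases hcase with e | e
  · exact key a2 aA class_checks.1 e
  · exact key b2 bA class_checks.2.1 e

/-- The outer lifts square to one. -/
theorem fl_sq_ne (D : Fr.Duadic) : ∀ i < 4, Fr.F.fl i * Fr.F.fl i ≠ z := by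
  intro i hi e
  obtain ⟨f, hker, hsurj, hf⟩ := Fr.exists_toM24 D
  have hM := Fr.act_fl hi
  let g : ↥(Subgroup.normalizer (Fr.A : Set G)) := ⟨Fr.F.fl i, Fr.mem_normalizer_of_act hM⟩
  have hσ : f g * f g = 1 := by
    rw [← map_mul]
    exact (hker _).2 (show Fr.F.fl i * Fr.F.fl i ∈ Fr.A by rw [e]; exact Fr.z_mem_A)
  obtain ⟨n, hn, hnf⟩ := Fr.exists_invol_lift D hsurj hf hσ
  have hx : ((g⁻¹ * n : ↥(Subgroup.normalizer (Fr.A : Set G))) : G) ∈ Fr.A :=
    (hker _).1 (by rw [map_mul, map_inv, hnf, inv_mul_cancel])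
  obtain ⟨x, hxA, hxe⟩ := Mathieu.sq_of_invol D.self (g := Fr.F.fl i) (n := (n : G)) (congrArg Subtype.val hn)
    (by rw [e]; exact Fr.z_mem_A) Fr.A_comm Fr.A_sq
    (fun a ha => (Subgroup.mem_normalizer_iff.1 g.2 a).1 ha) (fun a ha => by
      have hn' : (n : G) = Fr.F.fl i * ((g⁻¹ * n : ↥(Subgroup.normalizer (Fr.A : Set G))) : G) := by
        simp [g]
      rw [hn', show ∀ t : G, Fr.F.fl i * t * a * (Fr.F.fl i * t)⁻¹ = Fr.F.fl i * (t * a * t⁻¹) * (Fr.F.fl i)⁻¹
        from fun t => by group, Fr.A_comm _ hx _ ha, mul_inv_cancel_right])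
  obtain ⟨v, hv, rfl⟩ := hxA
  rw [e, hM.eq v hv, Fr.Av_mul hv (hM.lt v)] at hxe
  replace hxe := Fr.Av_one.trans hxe
  have h := Fr.Av_inj (by norm_num) (Nat.xor_lt_two_pow (n := 11) hv (hM.lt v)) hxe
  have hc : Fr.χ ∈ [0, 9] := by rcases Fr.χ_cases with h' | h' <;> simp [h']
  have hmem := List.all_eq_true.1 (List.all_eq_true.1 wd_gen.2.1 _ hc) i (List.mem_range.2 hi)
  rw [List.contains_iff_mem] at hmem
  have := List.all_eq_true.1 (List.all_eq_true.1 wd_gen.2.2 _ hmem) v (List.mem_range.2 hv)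
  rw [← h] at this
  simp at this

end Cfsg.Agent.Spor.JFour.Frame
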