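import Cfsg.Agent.Lib.Spor.JFourType.Mathieu.Hom
import Cfsg.Agent.Lib.Spor.Golay.Psl23Max

/-!
An element of the Mathieu group of degree 24 preserving all the duads fixed by an involution away from one of them
is trivial or the involution.
-/

set_option autoImplicit false
set_option maxRecDepth 100000
set_option Elab.async false

open Cfsg Cfsg.Agent.Spor.Golay
open scoped Pointwise

namespace Cfsg.Agent.Spor.JFour.Mathieu

/-- The fixed duads away from a given one. -/
def fixPairs (Q a b : ℕ) : List ℕ :=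
  ((List.range 24).flatMap fun c => (List.range c).map fun d => 2 ^ c ||| 2 ^ d).filter fun m =>
    (imgMask (Golay.get Q) m == m) && (m &&& (2 ^ a ||| 2 ^ b) == 0)

/-- The check for one duad. -/
def kernelOK (Q a b : ℕ) : Bool :=
  match (List.range 24).find? fun i => (Golay.get Q i != i) && (i != a) && (i != b) with
  | none => false
  | some i => decide (2 ≤ (fixPairs Q a b).length) && (fixPairs Q a b).contains (2 ^ i ||| 2 ^ Golay.get Q i) &&
      (trivOk ((2 ^ a ||| 2 ^ b) :: fixPairs Q a b) [i] || ((Q == u2P) && (List.range 24).all fun x =>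
        ((2 ^ a ||| 2 ^ b) :: fixPairs Q a b).contains (2 ^ x ||| 2 ^ Golay.get Q x)))

/-- The first points of the pairs of the fixed-point-free representative. -/
def pairReps : List ℕ := (List.range 24).filter fun x => decide (x < Golay.get u2P x)

/-- The permutation exchanging some of these pairs. -/
def swapSome (sw : List ℕ) : ℕ :=
  pack 24 fun x => if sw.contains x || sw.contains (Golay.get u2P x) then Golay.get u2P x else x

/-- Only none or all of the pairs can be exchanged. -/
theorem swap_check : (pairReps.sublists.all fun sw =>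
    (swapSome sw == idP) || (swapSome sw == u2P) || (valid (swapSome sw) && !inM24 (swapSome sw))) = true ∧
    ((List.range 24).all fun x => (Golay.get u2P x != x) && (Golay.get u2P (Golay.get u2P x) == x)) = true := by
  decide +kernel

/-- An element of the group preserving all the pairs of the fixed-point-free representative. -/
theorem pairs_kernel {g : Equiv.Perm GolayPt} (hg : g ∈ Cfsg.M24)
    (h : ∀ x < 24, g (pt x) = pt x ∨ g (pt x) = pt (Golay.get u2P x)) : g = 1 ∨ g = permOf u2P := by
  classical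
  obtain ⟨hsw, hinv⟩ := swap_check
  have hq : ∀ x < 24, Golay.get u2P x < 24 := by decide +kernel
  set sw := pairReps.filter fun x => decide (g (pt x) ≠ pt x) with hswdef
  have hx2 : ∀ x < 24, Golay.get u2P x ≠ x ∧ Golay.get u2P (Golay.get u2P x) = x := fun x hx => by
    have := List.all_eq_true.1 hinv x (List.mem_range.2 hx)
    simpa using this
  have hpt : ∀ {x y : ℕ}, x < 24 → y < 24 → pt x = pt y → x = y := fun hx hy e => by
    have := congrArg idx e
    rwa [idx_pt hx, idx_pt hy] at this
  have hmem : ∀ x < 24, (sw.contains x || sw.contains (Golay.get u2P x)) = decide (g (pt x) ≠ pt x) := by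
    intro x hx
    obtain ⟨hne, hxx⟩ := hx2 x hx
    have hmove : g (pt (Golay.get u2P x)) ≠ pt (Golay.get u2P x) ↔ g (pt x) ≠ pt x := by
      constructor
      · intro h1 e
        rcases h _ (hq x hx) with e' | e'
        · exact h1 e'
        · rw [hxx] at e'
          exact hne (hpt (hq x hx) hx (g.injective (e'.trans e.symm)))
      · intro h1 e
        rcases h x hx with e' | e'
        · exact h1 e'
        · exact hne.symm (hpt hx (hq x hx) (g.injective (e'.trans e.symm)))
    rw [Bool.eq_iff_iff]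
    simp only [hswdef, pairReps, List.filter_filter, Bool.or_eq_true, List.contains_iff_mem, List.mem_filter,
      List.mem_range, Bool.and_eq_true, decide_eq_true_eq, hxx, hq x hx, hx, true_and, hmove]
    constructor
    · rintro (⟨h1, -⟩ | ⟨h1, -⟩) <;> exact h1
    · intro h1
      rcases lt_or_gt_of_ne hne with hlt | hlt
      · exact Or.inr ⟨h1, hlt⟩
      · exact Or.inl ⟨h1, hlt⟩
  have hget : ∀ x < 24, Golay.get (swapSome sw) x = idx (g (pt x)) := by
    intro x hx
    rw [swapSome, get_pack 24 _ x hx (fun j hj => by split_ifs <;> [exact (hq j hj).trans (by norm_num); omega]),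
      hmem x hx]
    rcases h x hx with e | e
    · simp [e, idx_pt hx]
    · have hne' : g (pt x) ≠ pt x := fun e' => (hx2 x hx).1 (hpt (hq x hx) hx (e.symm.trans e'))
      have hne'' : pt (Golay.get u2P x) ≠ pt x := fun e' => hne' (e.trans e')
      simp [hne'', e, idx_pt (hq x hx)]
  have hm : sw ∈ pairReps.sublists := List.mem_sublists.2 List.filter_sublist
  have hc := List.all_eq_true.1 hsw sw hm
  simp only [Bool.or_eq_true, beq_iff_eq, Bool.and_eq_true, Bool.not_eq_true'] at hc
  have hgen : ∀ Q, valid Q = true → (∀ x < 24, Golay.get Q x = idx (g (pt x))) → g = permOf Q :=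
    fun Q hQ e => eq_permOf hQ fun x hx => (e x hx).symm
  rcases hc with (e | e) | ⟨e, e'⟩
  · refine Or.inl ?_
    rw [hgen idP valid_idP (e ▸ hget), permOf_idP]
  · exact Or.inr (hgen u2P (by decide +kernel) (e ▸ hget))
  · have := Psl23Max.inM24_of_mem e (hgen _ e hget ▸ hg)
    rw [e'] at this
    exact absurd this (by simp)

set_option maxHeartbeats 400000 in
theorem kernel_check : ([u1P, u2P].all fun Q => (List.range 24).all fun a => (List.range 24).all fun b =>
    (a == b) || !(imgMask (Golay.get Q) (2 ^ a ||| 2 ^ b) == (2 ^ a ||| 2 ^ b)) || kernelOK Q a b) = true := by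
  decide +kernel

theorem pts_pair {a b : ℕ} (ha : a < 24) (hb : b < 24) : pts (2 ^ a ||| 2 ^ b) = {pt a, pt b} := by
  rw [← pts_union, pts_two_pow ha, pts_two_pow hb]
  rfl

/-- The kernel on the fixed duads for a representative. -/
theorem pair_kernel_rep {Q : ℕ} (hQ : Q ∈ [u1P, u2P]) {a b : GolayPt} (hab : a ≠ b)
    (hfix : permOf Q • ({a, b} : Finset GolayPt) = {a, b}) :
    ∃ S : Finset (Finset GolayPt), 2 ≤ S.card ∧
      (∀ s ∈ S, ∃ c d, c ≠ d ∧ s = {c, d} ∧ c ∉ ({a, b} : Finset GolayPt) ∧ d ∉ ({a, b} : Finset GolayPt) ∧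
        permOf Q • s = s) ∧
      ∀ g ∈ Cfsg.M24, g • ({a, b} : Finset GolayPt) = {a, b} → (∀ s ∈ S, g • s = s) → g = 1 ∨ g = permOf Q := by
  classical
  obtain ⟨hp1, hp2, hq1, hq2, -⟩ := class_checks
  simp only [permOK, Bool.and_eq_true] at hp1 hp2
  have hin : inM24 Q = true ∧ comp Q Q = idP := by
    simp only [List.mem_cons, List.not_mem_nil, or_false] at hQ
    rcases hQ with rfl | rfl
    exacts [⟨hp1.1, hq1⟩, ⟨hp2.1, hq2⟩]
  have hv : valid Q = true := by
    have h := hin.1
    simp only [inM24, Bool.and_eq_true] at h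
    exact h.1
  have himg : ∀ m, permOf Q • pts m = pts (imgMask (Golay.get Q) m) := fun m =>
    smul_pts _ _ (fun p => idx_permOf hv p) m
  have hlt : ∀ m, imgMask (Golay.get Q) m < 2 ^ 24 := fun m => Aut.imgMask_lt hv m
  have hpab : pts (2 ^ idx a ||| 2 ^ idx b) = {a, b} := by rw [pts_pair (idx_lt a) (idx_lt b), pt_idx, pt_idx]
  have hm24 : (2 ^ idx a ||| 2 ^ idx b) < 2 ^ 24 := Nat.or_lt_two_pow
    (Nat.pow_lt_pow_right (by norm_num) (idx_lt a)) (Nat.pow_lt_pow_right (by norm_num) (idx_lt b))
  have hk := List.all_eq_true.1 (List.all_eq_true.1 (List.all_eq_true.1 kernel_check Q hQ) (idx a)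
    (List.mem_range.2 (idx_lt a))) (idx b) (List.mem_range.2 (idx_lt b))
  have hne : idx a ≠ idx b := fun e => hab (idx_injective e)
  have heq : imgMask (Golay.get Q) (2 ^ idx a ||| 2 ^ idx b) = (2 ^ idx a ||| 2 ^ idx b) := by
    refine pts_injOn (hlt _) hm24 ?_
    rw [← himg, hpab, hfix]
  simp only [Bool.or_eq_true, beq_iff_eq, hne, false_or, heq, Bool.not_eq_true', beq_self_eq_true,
    Bool.true_eq_false] at hk
  set L := fixPairs Q (idx a) (idx b) with hL
  unfold kernelOK at hk
  split at hk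
  · exact absurd hk (by simp)
  rename_i i hi
  simp only [Bool.and_eq_true, decide_eq_true_eq, Bool.or_eq_true, beq_iff_eq, List.contains_iff_mem (a := 2 ^ i ||| 2 ^ Golay.get Q i)] at hk
  obtain ⟨⟨hlen, hiL⟩, htriv⟩ := hk
  have hi24 : i < 24 := List.mem_range.1 (List.mem_of_find?_eq_some hi)
  have hQi : Golay.get Q i < 24 := (valid_iff.1 hv).2 i hi24
  have hLmem : ∀ m ∈ L, ∃ c d, c ≠ d ∧ c < 24 ∧ d < 24 ∧ m = (2 ^ c ||| 2 ^ d) ∧ imgMask (Golay.get Q) m = m ∧
      (m &&& (2 ^ idx a ||| 2 ^ idx b)) = 0 := by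
    intro m hm
    simp only [hL, fixPairs, List.mem_filter, List.mem_flatMap, List.mem_map, List.mem_range, Bool.and_eq_true,
      beq_iff_eq] at hm
    obtain ⟨⟨c, hc, d, hd, rfl⟩, h1, h2⟩ := hm
    exact ⟨c, d, by omega, hc, by omega, rfl, h1, h2⟩
  have hnd : L.Nodup := by
    refine List.Nodup.filter _ ?_
    decide +kernel
  refine ⟨L.toFinset.image pts, ?_, fun s hs => ?_, fun g hg hgab hgS => ?_⟩
  · rw [Finset.card_image_of_injOn, List.toFinset_card_of_nodup hnd]
    · exact hlen
    intro x hx y hy e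
    obtain ⟨c, d, -, hc, hd, rfl, -⟩ := hLmem x (List.mem_toFinset.1 hx)
    obtain ⟨c', d', -, hc', hd', rfl, -⟩ := hLmem y (List.mem_toFinset.1 hy)
    exact pts_injOn (Nat.or_lt_two_pow (Nat.pow_lt_pow_right (by norm_num) hc) (Nat.pow_lt_pow_right (by norm_num) hd))
      (Nat.or_lt_two_pow (Nat.pow_lt_pow_right (by norm_num) hc') (Nat.pow_lt_pow_right (by norm_num) hd')) e
  · obtain ⟨m, hm, rfl⟩ := Finset.mem_image.1 hs
    obtain ⟨c, d, hcd, hc, hd, rfl, h1, h2⟩ := hLmem m (List.mem_toFinset.1 hm)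
    have hout : ∀ j, j < 24 → (2 ^ c ||| 2 ^ d : ℕ).testBit j = true → pt j ∉ ({a, b} : Finset GolayPt) := by
      intro j hj hb' hmem
      have h3 := congrArg (fun x : ℕ => x.testBit j) h2
      rw [← hpab, mem_pts, idx_pt hj] at hmem
      simp [Nat.testBit_and, hb', hmem] at h3
    refine ⟨pt c, pt d, fun e => hcd ?_, pts_pair hc hd, hout c hc ?_, hout d hd ?_, ?_⟩
    · have := congrArg idx e
      rwa [idx_pt hc, idx_pt hd] at this
    · simp [Nat.testBit_or, Nat.testBit_two_pow]
    · simp [Nat.testBit_or, Nat.testBit_two_pow]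
    · rw [himg, h1]
  · have hX : ∀ x ∈ (2 ^ idx a ||| 2 ^ idx b) :: L, g • pts x = pts x := by
      intro x hx
      rcases List.mem_cons.1 hx with rfl | hx
      · rw [hpab, hgab]
      · exact hgS _ (Finset.mem_image.2 ⟨x, List.mem_toFinset.2 hx, rfl⟩)
    have hXQ : ∀ x ∈ (2 ^ idx a ||| 2 ^ idx b) :: L, permOf Q • pts x = pts x := by
      intro x hx
      rcases List.mem_cons.1 hx with rfl | hx
      · rw [himg, heq]
      · obtain ⟨c, d, -, -, -, -, h1, -⟩ := hLmem x hx
        rw [himg, h1]
    have hgi : g (pt i) = pt i ∨ g (pt i) = pt (Golay.get Q i) := by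
      have h := hX _ (List.mem_cons_of_mem _ hiL)
      rw [pts_pair hi24 hQi] at h
      have : g • pt i ∈ g • ({pt i, pt (Golay.get Q i)} : Finset GolayPt) :=
        Finset.smul_mem_smul_finset (Finset.mem_insert_self _ _)
      rw [h, Equiv.Perm.smul_def, Finset.mem_insert, Finset.mem_singleton] at this
      exact this
    rcases htriv with htriv | ⟨rfl, hall⟩
    · have hbot := Fix_eq_bot htriv
      rcases hgi with e | e
      · refine Or.inl ?_
        rw [← Subgroup.mem_bot, ← hbot]
        exact mem_Fix.2 ⟨hg, hX, fun c hc => by rw [List.mem_singleton.1 hc, e]⟩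
      · refine Or.inr ?_
        have h2 : permOf Q * permOf Q = 1 := by rw [← permOf_comp hv hv, hin.2, permOf_idP]
        have hmem : permOf Q * g ∈ Fix ((2 ^ idx a ||| 2 ^ idx b) :: L) [i] := by
          refine mem_Fix.2 ⟨mul_mem (permOf_mem_M24 hin.1) hg, fun x hx => by rw [mul_smul, hX x hx, hXQ x hx],
            fun c hc => ?_⟩
          rw [List.mem_singleton.1 hc, Equiv.Perm.mul_apply, e]
          have h3 := congrArg (fun σ : Equiv.Perm GolayPt => σ (pt i)) h2
          simp only [Equiv.Perm.mul_apply, Equiv.Perm.one_apply] at h3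
          rwa [show permOf Q (pt i) = pt (Golay.get Q i) by rw [permOf_apply hv, Golay.app, idx_pt hi24]] at h3
        rw [hbot, Subgroup.mem_bot] at hmem
        calc g = permOf Q * permOf Q * g := by rw [h2, one_mul]
          _ = permOf Q := by rw [mul_assoc, hmem, mul_one]
    · refine pairs_kernel hg fun x hx => ?_
      have hQx : Golay.get u2P x < 24 := (valid_iff.1 hv).2 x hx
      have h := hX _ (List.contains_iff_mem.1 (List.all_eq_true.1 hall x (List.mem_range.2 hx)))
      rw [pts_pair hx hQx] at h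
      have : g • pt x ∈ g • ({pt x, pt (Golay.get u2P x)} : Finset GolayPt) :=
        Finset.smul_mem_smul_finset (Finset.mem_insert_self _ _)
      rw [h, Equiv.Perm.smul_def, Finset.mem_insert, Finset.mem_singleton] at this
      exact this

/-- An element fixing the duads fixed by an involution away from one of them. -/
theorem pair_kernel {σ : Equiv.Perm GolayPt} (hσ : σ ∈ Cfsg.M24) (h2 : σ * σ = 1) (h1 : σ ≠ 1) {a b : GolayPt}
    (hab : a ≠ b) (hfix : σ • ({a, b} : Finset GolayPt) = {a, b}) :
    ∃ S : Finset (Finset GolayPt), 2 ≤ S.card ∧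
      (∀ s ∈ S, ∃ c d, c ≠ d ∧ s = {c, d} ∧ c ∉ ({a, b} : Finset GolayPt) ∧ d ∉ ({a, b} : Finset GolayPt) ∧
        σ • s = s) ∧
      ∀ g ∈ Cfsg.M24, g • ({a, b} : Finset GolayPt) = {a, b} → (∀ s ∈ S, g • s = s) → g = 1 ∨ g = σ := by
  classical
  obtain ⟨k, hk, hcase⟩ := invol_conj hσ h2 h1
  obtain ⟨Q, hQ, hσQ⟩ : ∃ Q ∈ [u1P, u2P], k * σ * k⁻¹ = permOf Q := by
    rcases hcase with e | e
    · exact ⟨u1P, by simp, e⟩
    · exact ⟨u2P, by simp, e⟩
  have himg : k • ({a, b} : Finset GolayPt) = {k a, k b} := by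
    rw [Finset.smul_finset_insert, Finset.smul_finset_singleton]; rfl
  obtain ⟨S, hS, hSs, hker⟩ := pair_kernel_rep hQ (a := k a) (b := k b) (k.injective.ne hab) (by
    rw [← hσQ, ← himg, ← mul_smul, inv_mul_cancel_right, mul_smul, hfix])
  refine ⟨S.image fun s => k⁻¹ • s, ?_, fun s hs => ?_, fun g hg hgab hgS => ?_⟩
  · rw [Finset.card_image_of_injective _ (MulAction.injective k⁻¹)]
    exact hS
  · obtain ⟨s', hs', rfl⟩ := Finset.mem_image.1 hs
    obtain ⟨c, d, hcd, rfl, hc, hd, hfs⟩ := hSs s' hs'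
    refine ⟨k⁻¹ c, k⁻¹ d, k⁻¹.injective.ne hcd, ?_, ?_, ?_, ?_⟩
    · rw [Finset.smul_finset_insert, Finset.smul_finset_singleton]; rfl
    · intro h
      exact hc (by rw [← himg, ← Finset.inv_smul_mem_iff]; exact h)
    · intro h
      exact hd (by rw [← himg, ← Finset.inv_smul_mem_iff]; exact h)
    · rw [← hσQ] at hfs
      conv_rhs => rw [← hfs]
      rw [← mul_smul, ← mul_smul]
      congr 1
      group
  · have h := hker (k * g * k⁻¹) (mul_mem (mul_mem hk hg) (inv_mem hk))
      (by rw [← himg, ← mul_smul, inv_mul_cancel_right, mul_smul, hgab])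
      (fun s hs => by
        rw [mul_smul, mul_smul, hgS _ (Finset.mem_image.2 ⟨s, hs, rfl⟩), smul_inv_smul])
    rw [← hσQ] at h
    rcases h with e | e
    · exact Or.inl (by simpa using e)
    · exact Or.inr (by simpa using e)

end Cfsg.Agent.Spor.JFour.Mathieu
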