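import Cfsg.Agent.Lib.Spor.JFourType.Mathieu.Cocode11

/-!
The kinds of vectors of the elementary abelian group relative to one class of duads: good ones and the duads away from
it.
-/

set_option autoImplicit false
set_option maxRecDepth 100000
set_option Elab.async false

namespace Cfsg.Agent.Spor.JFour.Mathieu

open Cfsg Cfsg.Agent.Spor.Golay

/-- The class of the duad of the points 1 and 2. -/
def vt0 : ℕ := 6

/-- Neither trivial nor in the pencil of the duad. -/
def isGood (v : ℕ) : Bool := (v != 0) && (v != vt0) && !(tMask.testBit v && tMask.testBit (v ^^^ vt0))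

/-- A duad away from the given one. -/
def isDel (v : ℕ) : Bool := (v != vt0) && tMask.testBit v && !tMask.testBit (v ^^^ vt0)

/-- The pencil. -/
def isBad (v : ℕ) : Bool := tMask.testBit v && tMask.testBit (v ^^^ vt0)

/-- The list of the duads away from the given one. -/
def delL : List ℕ := (List.range 2048).filter isDel

/-- The list of the pencil. -/
def badL : List ℕ := (List.range 2048).filter isBad

theorem second_check : (cN 1 ^^^ cN 2 = vt0 ∧ tMask.testBit vt0 = true ∧ isGood 10 = true ∧
      tMask.testBit 10 = false ∧ tMask.testBit (10 ^^^ vt0) = false) ∧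
    ((List.range 24).all fun c => (List.range 24).all fun d => (c == d) || (c == 1) || (c == 2) || (d == 1) ||
      (d == 2) || isDel (cN c ^^^ cN d)) = true ∧
    (delL.all fun v => delL.all fun w => (v == w) || isGood (v ^^^ w)) = true ∧
    (badL.all fun v => badL.all fun w => isGood (v ^^^ w) || (v ^^^ w == 0) || (v ^^^ w == vt0)) = true ∧
    (badL.all fun d => delL.any fun u => !(isGood (u ^^^ d))) = true ∧
    ((List.range 2048).all fun v => (isGood v == isGood (v ^^^ vt0)) && (!(isDel v) || isGood v)) = true := by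
  decide +kernel

theorem del_pair {c d : GolayPt} (hcd : c ≠ d) (hc : c ∉ ({pt 1, pt 2} : Finset GolayPt))
    (hd : d ∉ ({pt 1, pt 2} : Finset GolayPt)) : isDel (cN (idx c) ^^^ cN (idx d)) = true := by
  have h := List.all_eq_true.1 (List.all_eq_true.1 second_check.2.1 _ (List.mem_range.2 (idx_lt c))) _
    (List.mem_range.2 (idx_lt d))
  simp only [Finset.mem_insert, Finset.mem_singleton, not_or] at hc hd
  have hne : ∀ {p : GolayPt} {i : ℕ}, p ≠ pt i → idx p ≠ i := fun h e => h (by rw [← e, pt_idx])
  have hcd' : idx c ≠ idx d := fun e => hcd (idx_injective e)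
  simpa [hne hc.1, hne hc.2, hne hd.1, hne hd.2, hcd'] using h

theorem del_xor {v w : ℕ} (hv : v < 2048) (hw : w < 2048) (h1 : isDel v = true) (h2 : isDel w = true)
    (hne : v ≠ w) : isGood (v ^^^ w) = true := by
  have h := List.all_eq_true.1 (List.all_eq_true.1 second_check.2.2.1 v
    (List.mem_filter.2 ⟨List.mem_range.2 hv, h1⟩)) w (List.mem_filter.2 ⟨List.mem_range.2 hw, h2⟩)
  simpa [hne] using h

theorem bad_xor {v w : ℕ} (hv : v < 2048) (hw : w < 2048) (h1 : isBad v = true) (h2 : isBad w = true) :
    isGood (v ^^^ w) = true ∨ v ^^^ w = 0 ∨ v ^^^ w = vt0 := by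
  have h := List.all_eq_true.1 (List.all_eq_true.1 second_check.2.2.2.1 v
    (List.mem_filter.2 ⟨List.mem_range.2 hv, h1⟩)) w (List.mem_filter.2 ⟨List.mem_range.2 hw, h2⟩)
  simpa [or_assoc] using h

theorem bad_move {d : ℕ} (hd : d < 2048) (h : isBad d = true) :
    ∃ u < 2048, isDel u = true ∧ isGood (u ^^^ d) = false := by
  have h' := List.all_eq_true.1 second_check.2.2.2.2.1 d (List.mem_filter.2 ⟨List.mem_range.2 hd, h⟩)
  obtain ⟨u, hu0, h''⟩ := List.any_eq_true.1 h'
  obtain ⟨hu, hu'⟩ := List.mem_filter.1 hu0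
  rw [List.mem_range] at hu
  rw [Bool.not_eq_true'] at h''
  exact ⟨u, hu, hu', h''⟩

theorem good_flip {v : ℕ} (hv : v < 2048) : isGood (v ^^^ vt0) = isGood v := by
  have h := List.all_eq_true.1 second_check.2.2.2.2.2 v (List.mem_range.2 hv)
  simp only [Bool.and_eq_true, beq_iff_eq] at h
  exact h.1.symm

theorem del_good {v : ℕ} (hv : v < 2048) (hd : isDel v = true) : isGood v = true := by
  have h := List.all_eq_true.1 second_check.2.2.2.2.2 v (List.mem_range.2 hv)
  simp only [Bool.and_eq_true] at h
  simpa [hd] using h.2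

end Cfsg.Agent.Spor.JFour.Mathieu
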