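import Cfsg.Agent.Lib.Spor.JFourType.NormAH
import Cfsg.Agent.Lib.Spor.JFourType.SylowG
import Cfsg.Agent.Lib.Spor.JFourType.Mathieu.PairKernel
import Cfsg.Agent.Lib.Spor.JFourType.Mathieu.SecondData

/-!
The centraliser of an element of the second class lies in the normaliser of the elementary abelian group of order
2¹¹.
-/

set_option autoImplicit false
set_option maxRecDepth 100000
set_option linter.style.haveILetI false

open Cfsg Cfsg.Agent.Spor.Golay
open scoped Pointwise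

namespace Cfsg.Agent.Spor.JFour

open Mathieu

/-- A dihedral conjugation: the product of an involution by a power of the rotation is conjugate to a generator. -/
theorem dihedral_conj {G : Type*} [Group G] {a b : G} (ha : a * a = 1) (hb : b * b = 1) (m : ℕ) :
    ∃ h : G, (∀ x, x * a = a * x → x * b = b * x → x * h = h * x) ∧
      (h * a * h⁻¹ = (a * b) ^ m * a ∨ h * b * h⁻¹ = (a * b) ^ m * a) := by
  have hai : a⁻¹ = a := inv_eq_of_mul_eq_one_right ha
  have hbi : b⁻¹ = b := inv_eq_of_mul_eq_one_right hb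
  have hinv : a * (a * b) * a⁻¹ = (a * b)⁻¹ := by rw [mul_inv_rev, hai, hbi, ← mul_assoc a a, ha, one_mul]
  have hpow : ∀ j, a * ((a * b) ^ j)⁻¹ = (a * b) ^ j * a := fun j => by
    have h := congrArg (fun x => x⁻¹) (conj_pow (i := j) (a := a) (b := a * b))
    rw [hinv, inv_pow, inv_inv] at h
    calc a * ((a * b) ^ j)⁻¹ = a * ((a * b) ^ j)⁻¹ * a⁻¹ * a := by group
      _ = (a * b) ^ j * a := by
        rw [show a * ((a * b) ^ j)⁻¹ * a⁻¹ = (a * (a * b) ^ j * a⁻¹)⁻¹ by group, ← h]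
  have hcomm : ∀ j x, x * a = a * x → x * b = b * x → x * (a * b) ^ j = (a * b) ^ j * x := fun j x h1 h2 =>
    ((show Commute x a from h1).mul_right (show Commute x b from h2)).pow_right j |>.eq
  obtain ⟨j, rfl | rfl⟩ : ∃ j, m = j + j ∨ m = j + j + 1 := ⟨m / 2, by omega⟩
  · refine ⟨(a * b) ^ j, hcomm j, Or.inl ?_⟩
    rw [mul_assoc, hpow, pow_add, mul_assoc]
  · refine ⟨(a * b) ^ j * a, fun x h1 h2 => ?_, Or.inr ?_⟩
    · rw [← mul_assoc, hcomm j x h1 h2, mul_assoc, h1, mul_assoc]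
    · rw [show (a * b) ^ j * a * b * ((a * b) ^ j * a)⁻¹ = (a * b) ^ j * (a * b) * (a⁻¹ * ((a * b) ^ j)⁻¹) by group,
        hai, hpow, ← mul_assoc, ← pow_succ, ← pow_add, show j + 1 + j = j + j + 1 by omega]

namespace Frame

variable {G : Type*} [Group G] {z : G} {P : Subgroup G} {S : Setting z P} (Fr : Frame S) [Finite G]

/-- The classes in the elementary abelian group. -/
def Classes : Prop :=
  ∀ v < 2048, (∃ g : G, g * z * g⁻¹ = Fr.Av v) ↔ v ≠ 0 ∧ tMask.testBit v = false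

/-- A subgroup of the normaliser conjugate to the group is the group. -/
theorem normalizer_of_conj_le {g : G} (h : ∀ a ∈ Fr.A, g * a * g⁻¹ ∈ Subgroup.normalizer (Fr.A : Set G)) :
    g ∈ Subgroup.normalizer (Fr.A : Set G) := by
  haveI : Fact (Nat.Prime 2) := ⟨Nat.prime_two⟩
  set U := Fr.A.map (MulAut.conj g).toMonoidHom with hU
  have hUN : U ≤ Subgroup.normalizer (Fr.A : Set G) := by
    rintro _ ⟨a, ha, rfl⟩
    exact h a ha
  have hUc : Nat.card ↥U = 2 ^ 11 := by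
    rw [hU, Subgroup.card_map_of_injective (MulAut.conj g).injective, Fr.card_A]
  have hsup : IsPGroup 2 ↥(U ⊔ Fr.A) :=
    IsPGroup.to_sup_of_normal_right' (IsPGroup.of_card hUc) (IsPGroup.of_card Fr.card_A) hUN
  obtain ⟨Q, hQ⟩ := hsup.exists_le_sylow
  obtain ⟨k, hk⟩ := MulAction.exists_smul_eq G Q Fr.F.sylowT
  have hQk : (Q : Subgroup G).map (MulAut.conj k).toMonoidHom = Fr.F.T := by
    have h := congrArg (fun s : Sylow 2 G => (s : Subgroup G)) hk
    rw [Sylow.coe_subgroup_smul] at h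
    exact h
  have key : ∀ X : Subgroup G, X ≤ U ⊔ Fr.A → (∀ a ∈ X, ∀ b ∈ X, a * b = b * a) → (∀ a ∈ X, a * a = 1) →
      Nat.card ↥X = 2 ^ 11 → X.map (MulAut.conj k).toMonoidHom = Fr.A := by
    intro X hX hc h2 hcard
    refine Fr.unique_in_T (hQk ▸ Subgroup.map_mono (hX.trans hQ)) ?_ ?_ ?_
    · rintro _ ⟨a, ha, rfl⟩ _ ⟨b, hb, rfl⟩
      rw [← map_mul, ← map_mul, hc a ha b hb]
    · rintro _ ⟨a, ha, rfl⟩
      rw [← map_mul, h2 a ha, map_one]
    · rw [Subgroup.card_map_of_injective (MulAut.conj k).injective, hcard]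
  have eUA : U = Fr.A := by
    refine Subgroup.map_injective (f := (MulAut.conj k).toMonoidHom) (MulAut.conj k).injective ?_
    rw [key Fr.A le_sup_right Fr.A_comm Fr.A_sq Fr.card_A, key U le_sup_left ?_ ?_ hUc]
    · rintro _ ⟨a, ha, rfl⟩ _ ⟨b, hb, rfl⟩
      rw [← map_mul, ← map_mul, Fr.A_comm a ha b hb]
    · rintro _ ⟨a, ha, rfl⟩
      rw [← map_mul, Fr.A_sq a ha, map_one]
  refine Subgroup.mem_normalizer_iff.2 fun x => ⟨fun hx => ?_, fun hx => ?_⟩
  · rw [← eUA]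
    exact ⟨x, hx, rfl⟩
  · rw [← eUA] at hx
    obtain ⟨a, ha, e⟩ := hx
    have : a = x := (MulAut.conj g).injective e
    exact this ▸ ha

theorem vt0_lt : vt0 < 2048 := by decide

/-- Elements fixing the chosen duad and normalising the group preserve the kinds. -/
theorem kind_move (D : Fr.Duadic) {n : G} (hn : n ∈ Subgroup.normalizer (Fr.A : Set G))
    (hnt : n * Fr.Av vt0 = Fr.Av vt0 * n) {v : ℕ} (hv : v < 2048) :
    ∃ w < 2048, n * Fr.Av v * n⁻¹ = Fr.Av w ∧ n * Fr.Av (v ^^^ vt0) * n⁻¹ = Fr.Av (w ^^^ vt0) ∧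
      tMask.testBit w = tMask.testBit v ∧ isGood w = isGood v ∧ isDel w = isDel v := by
  have img : ∀ {m : G}, m ∈ Subgroup.normalizer (Fr.A : Set G) → ∀ u < 2048,
      ∃ w < 2048, m * Fr.Av u * m⁻¹ = Fr.Av w := fun {m} hm u hu => by
    obtain ⟨w, hw, e⟩ := (Subgroup.mem_normalizer_iff.1 hm _).1 (Fr.Av_mem hu)
    exact ⟨w, hw, e.symm⟩
  have hT : ∀ u < 2048, ∀ w < 2048, n * Fr.Av u * n⁻¹ = Fr.Av w → tMask.testBit w = tMask.testBit u := by
    intro u hu w hw e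
    rw [Bool.eq_iff_iff]
    constructor
    · intro h
      obtain ⟨u', hu', h', e'⟩ := D.duad _ (inv_mem hn) w hw h
      rw [← e, show n⁻¹ * (n * Fr.Av u * n⁻¹) * n⁻¹⁻¹ = Fr.Av u by group] at e'
      rwa [Fr.Av_inj hu hu' e']
    · intro h
      obtain ⟨w', hw', h', e'⟩ := D.duad _ hn u hu h
      rw [e] at e'
      rwa [Fr.Av_inj hw hw' e']
  obtain ⟨w, hw, e⟩ := img hn v hv
  have hx : v ^^^ vt0 < 2048 := Nat.xor_lt_two_pow (n := 11) hv vt0_lt
  have hy : w ^^^ vt0 < 2048 := Nat.xor_lt_two_pow (n := 11) hw vt0_lt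
  have e2 : n * Fr.Av (v ^^^ vt0) * n⁻¹ = Fr.Av (w ^^^ vt0) := by
    rw [← Fr.Av_mul hv vt0_lt, ← Fr.Av_mul hw vt0_lt, ← e]
    calc _ = n * Fr.Av v * n⁻¹ * (n * Fr.Av vt0 * n⁻¹) := by group
      _ = _ := by rw [hnt, mul_inv_cancel_right]
  have h1 := hT v hv w hw e
  have h2 := hT _ hx _ hy e2
  have h0 : (w = 0 ↔ v = 0) := by
    constructor
    · intro h
      rw [h, Fr.Av_zero, conj_eq_one_iff, ← Fr.Av_zero] at e
      exact Fr.Av_inj hv (by norm_num) e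
    · intro h
      rw [h, Fr.Av_zero, mul_one, mul_inv_cancel, ← Fr.Av_zero] at e
      exact Fr.Av_inj hw (by norm_num) e.symm
  have h6 : (w = vt0 ↔ v = vt0) := by
    constructor
    · intro h
      refine Fr.Av_inj hv vt0_lt ?_
      rw [h] at e
      calc Fr.Av v = n⁻¹ * (n * Fr.Av v * n⁻¹) * n := by group
        _ = Fr.Av vt0 := by rw [e, mul_assoc, ← hnt, inv_mul_cancel_left]
    · intro h
      refine Fr.Av_inj hw vt0_lt ?_
      rw [← e, h, hnt, mul_inv_cancel_right]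
  have b0 : (w != 0) = (v != 0) := by rw [Bool.eq_iff_iff]; simp [h0]
  have b6 : (w != vt0) = (v != vt0) := by rw [Bool.eq_iff_iff]; simp [h6]
  refine ⟨w, hw, e, e2, h1, ?_, ?_⟩
  · simp only [isGood, b0, b6, h1, h2]
  · simp only [isDel, b6, h1, h2]

/-- The centraliser of a good element. -/
theorem good_centralizer (D : Fr.Duadic) (hfus : Fr.Classes) {v : ℕ} (hv : v < 2048) (hg : isGood v = true) {x : G}
    (hxt : x * Fr.Av vt0 = Fr.Av vt0 * x) (hx : x * Fr.Av v = Fr.Av v * x) :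
    x ∈ Subgroup.normalizer (Fr.A : Set G) := by
  have hz : ∀ u < 2048, u ≠ 0 → tMask.testBit u = false → x * Fr.Av u = Fr.Av u * x →
      x ∈ Subgroup.normalizer (Fr.A : Set G) := by
    intro u hu hu0 huT hxu
    obtain ⟨g, eg⟩ := (hfus u hu).2 ⟨hu0, huT⟩
    obtain ⟨n, hn, en⟩ := Fr.conj_in_normalizer (g := g) (by rw [eg]; exact Fr.Av_mem hu)
    rw [eg] at en
    obtain ⟨w, hw, hwT, ew⟩ := D.duad _ (inv_mem hn) vt0 vt0_lt second_check.1.2.1
    have h := Fr.centralizer_H_le D.duad hw hwT (h := n⁻¹ * x * n) ?_ ?_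
    · have := mul_mem (mul_mem hn h) (inv_mem hn)
      rwa [show n * (n⁻¹ * x * n) * n⁻¹ = x by group] at this
    · calc n⁻¹ * x * n * z = n⁻¹ * (x * (n * z * n⁻¹)) * n := by group
        _ = n⁻¹ * ((n * z * n⁻¹) * x) * n := by rw [en, hxu]
        _ = _ := by group
    · rw [← ew]
      calc n⁻¹ * x * n * (n⁻¹ * Fr.Av vt0 * n⁻¹⁻¹) = n⁻¹ * (x * Fr.Av vt0) * n := by group
        _ = n⁻¹ * (Fr.Av vt0 * x) * n := by rw [hxt]
        _ = _ := by group
  simp only [isGood, Bool.and_eq_true, bne_iff_ne, ne_eq, Bool.not_eq_true', Bool.and_eq_false_iff] at hg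
  obtain ⟨⟨h0, h6⟩, hT | hT⟩ := hg
  · exact hz v hv h0 hT hx
  · refine hz _ (Nat.xor_lt_two_pow (n := 11) hv vt0_lt) (fun e => h6 (Nat.xor_eq_zero_iff.1 e)) hT ?_
    rw [← Fr.Av_mul hv vt0_lt, ← mul_assoc, hx, mul_assoc, hxt, ← mul_assoc]

/-- A good element carried into the group is carried by the normaliser. -/
theorem good_in_A (D : Fr.Duadic) (hfus : Fr.Classes) {g : G} (hgt : g * Fr.Av vt0 = Fr.Av vt0 * g) {v : ℕ}
    (hv : v < 2048) (hgood : isGood v = true) (h : g * Fr.Av v * g⁻¹ ∈ Fr.A) :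
    g ∈ Subgroup.normalizer (Fr.A : Set G) := by
  refine inv_mem_iff.1 (Fr.normalizer_of_conj_le fun a ha => Fr.good_centralizer D hfus hv hgood ?_ ?_)
  · have h1 := Fr.A_comm a ha _ (Fr.Av_mem vt0_lt)
    calc g⁻¹ * a * g⁻¹⁻¹ * Fr.Av vt0 = g⁻¹ * a * (g * Fr.Av vt0) := by group
      _ = g⁻¹ * (a * Fr.Av vt0) * g := by rw [hgt]; group
      _ = g⁻¹ * Fr.Av vt0 * (a * g) := by rw [h1]; group
      _ = _ := by rw [show g⁻¹ * Fr.Av vt0 = Fr.Av vt0 * g⁻¹ from (show Commute g _ from hgt).inv_left.eq]; group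
  · have h1 := Fr.A_comm a ha _ h
    calc g⁻¹ * a * g⁻¹⁻¹ * Fr.Av v = g⁻¹ * (a * (g * Fr.Av v * g⁻¹)) * g := by group
      _ = g⁻¹ * ((g * Fr.Av v * g⁻¹) * a) * g := by rw [h1]
      _ = _ := by group

theorem duad_lt (c d : GolayPt) : cN (idx c) ^^^ cN (idx d) < 2048 :=
  Nat.xor_lt_two_pow (n := 11) (cN_lt' (idx_lt c)) (cN_lt' (idx_lt d))

/-- An element fixes a duad exactly if it commutes with its class. -/
theorem fixes_iff {f : ↥(Subgroup.normalizer (Fr.A : Set G)) →* ↥Cfsg.M24}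
    (hf : ∀ n a b, a ≠ b → Fr.actV n (cV a + cV b) =
      cV ((f n : Equiv.Perm GolayPt) a) + cV ((f n : Equiv.Perm GolayPt) b))
    (n : ↥(Subgroup.normalizer (Fr.A : Set G))) {a b : GolayPt} (hab : a ≠ b) :
    (n : G) * Fr.Av (cN (idx a) ^^^ cN (idx b)) = Fr.Av (cN (idx a) ^^^ cN (idx b)) * n ↔
      (f n : Equiv.Perm GolayPt) • ({a, b} : Finset GolayPt) = {a, b} := by
  classical
  have hv := duad_lt a b
  set v := cN (idx a) ^^^ cN (idx b) with hvdef
  set σ := (f n : Equiv.Perm GolayPt) with hσ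
  have hsm : σ • ({a, b} : Finset GolayPt) = {σ a, σ b} := by
    rw [Finset.smul_finset_insert, Finset.smul_finset_singleton]; rfl
  obtain ⟨w, hw, ew⟩ := (Subgroup.mem_normalizer_iff.1 n.2 _).1 (Fr.Av_mem hv)
  have h1 := hf n a b hab
  rw [← duad_eq, ← hvdef, Fr.actV_vb n hv hw ew.symm] at h1
  rw [hsm]
  constructor
  · intro h
    have hwv : w = v := Fr.Av_inj hw hv (by rw [ew, h, mul_inv_cancel_right])
    refine cocode.pair_inj (Finset.card_pair fun e' => hab (σ.injective e')) (Finset.card_pair hab) ?_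
    rw [Finset.sum_pair fun e' => hab (σ.injective e'), Finset.sum_pair hab, ← h1, hwv, hvdef, duad_eq]
  · intro h
    have h2 : cV (σ a) + cV (σ b) = vb v := by
      have := congrArg (fun s : Finset GolayPt => ∑ i ∈ s, cV i) h
      simp only [Finset.sum_pair fun e' => hab (σ.injective e'), Finset.sum_pair hab] at this
      rw [this, ← duad_eq]
    rw [vb_inj hw hv (h1.trans h2)] at ew
    exact mul_inv_eq_iff_eq_mul.1 ew.symm

/-- Good elements are not fused out of the group in the centraliser of the chosen element. -/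
theorem good_closed (D : Fr.Duadic) (hfus : Fr.Classes) {g : G} (hgt : g * Fr.Av vt0 = Fr.Av vt0 * g) {v : ℕ}
    (hv : v < 2048) (hgood : isGood v = true)
    (h : g * Fr.Av v * g⁻¹ ∈ Subgroup.normalizer (Fr.A : Set G)) : g ∈ Subgroup.normalizer (Fr.A : Set G) := by
  classical
  by_cases hA : g * Fr.Av v * g⁻¹ ∈ Fr.A
  · exact Fr.good_in_A D hfus hgt hv hgood hA
  obtain ⟨f, hker, -, hf⟩ := Fr.exists_toM24 D
  set t := Fr.Av vt0 with ht
  have hgt' : Commute g t := hgt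
  have hct : ∀ {k : G}, Commute k t → ∀ {u}, u < 2048 → Commute (k * Fr.Av u * k⁻¹) t := fun {k} hk {u} hu =>
    (hk.mul_left (show Commute (Fr.Av u) t from Fr.A_comm _ (Fr.Av_mem hu) _ (Fr.Av_mem vt0_lt))).mul_left
      hk.inv_left
  have hpt : cN (idx (pt 1)) ^^^ cN (idx (pt 2)) = vt0 := by
    rw [idx_pt (by norm_num), idx_pt (by norm_num)]; exact second_check.1.1
  have h12 : pt 1 ≠ pt 2 := by decide +kernel
  -- an involution of the normaliser outside the group fixing the duad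
  have hinv : ∀ (y : ↥(Subgroup.normalizer (Fr.A : Set G))), (y : G) * y = 1 → (y : G) ∉ Fr.A →
      (y : G) * t = t * y → ∃ T : Finset (Finset GolayPt), 2 ≤ T.card ∧
        (∀ s ∈ T, ∃ c d, c ≠ d ∧ s = {c, d} ∧ isDel (cN (idx c) ^^^ cN (idx d)) = true ∧
          (y : G) * Fr.Av (cN (idx c) ^^^ cN (idx d)) = Fr.Av (cN (idx c) ^^^ cN (idx d)) * y) ∧
        ∀ n : ↥(Subgroup.normalizer (Fr.A : Set G)), (n : G) * t = t * n →
          (∀ c d, c ≠ d → ({c, d} : Finset GolayPt) ∈ T →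
            (n : G) * Fr.Av (cN (idx c) ^^^ cN (idx d)) = Fr.Av (cN (idx c) ^^^ cN (idx d)) * n) →
          (n : G) ∈ Fr.A ∨ (n : G) * y ∈ Fr.A := by
    intro y hy2 hyA hyt
    have hσ2 : (f y : Equiv.Perm GolayPt) * f y = 1 := by
      rw [← Subgroup.coe_mul, ← map_mul, show y * y = 1 from Subtype.ext hy2, map_one]; rfl
    have hσ1 : (f y : Equiv.Perm GolayPt) ≠ 1 := fun e => hyA ((hker y).1 (Subtype.ext e))
    have hyfix := (Fr.fixes_iff hf y h12).1 (by rw [hpt]; exact hyt)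
    obtain ⟨T, hT, hTs, hK⟩ := pair_kernel (f y).2 hσ2 hσ1 h12 hyfix
    refine ⟨T, hT, fun s hs => ?_, fun n hnt hn => ?_⟩
    · obtain ⟨c, d, hcd, rfl, hc, hd, hfs⟩ := hTs s hs
      exact ⟨c, d, hcd, rfl, del_pair hcd hc hd, (Fr.fixes_iff hf y hcd).2 hfs⟩
    · have hnfix := (Fr.fixes_iff hf n h12).1 (by rw [hpt]; exact hnt)
      rcases hK _ (f n).2 hnfix (fun s hs => by
        obtain ⟨c, d, hcd, rfl, -⟩ := hTs s hs
        exact (Fr.fixes_iff hf n hcd).1 (hn c d hcd hs)) with e | e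
      · exact Or.inl ((hker n).1 (Subtype.ext e))
      · refine Or.inr ((hker (n * y)).1 (Subtype.ext ?_))
        rw [map_mul, Subgroup.coe_mul, e, hσ2]; rfl
  set y1 : ↥(Subgroup.normalizer (Fr.A : Set G)) := ⟨_, h⟩ with hy1
  obtain ⟨T1, hT1, hT1s, -⟩ := hinv y1
    (by show g * Fr.Av v * g⁻¹ * (g * Fr.Av v * g⁻¹) = 1
        rw [show g * Fr.Av v * g⁻¹ * (g * Fr.Av v * g⁻¹) = g * (Fr.Av v * Fr.Av v) * g⁻¹ by group,
          Fr.A_sq _ (Fr.Av_mem hv), mul_one, mul_inv_cancel])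
    hA (hct hgt' hv).eq
  obtain ⟨s0, hs0, s1, hs1, hne⟩ := Finset.one_lt_card.1 (show 1 < T1.card from hT1)
  obtain ⟨c, d, hcd, rfl, hw, hwy⟩ := hT1s s0 hs0
  obtain ⟨c', d', hcd', rfl, hw', hwy'⟩ := hT1s s1 hs1
  set w := cN (idx c) ^^^ cN (idx d) with hwdef
  set w' := cN (idx c') ^^^ cN (idx d') with hwdef'
  have hwlt : w < 2048 := duad_lt c d
  have hw'lt : w' < 2048 := duad_lt c' d'
  have hww : w ≠ w' := fun e => hne (by
    refine cocode.pair_inj (Finset.card_pair hcd) (Finset.card_pair hcd') ?_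
    rw [Finset.sum_pair hcd, Finset.sum_pair hcd', ← duad_eq, ← duad_eq, ← hwdef, ← hwdef', e])
  -- transport back
  have hback : ∀ u < 2048, (y1 : G) * Fr.Av u = Fr.Av u * y1 →
      g⁻¹ * Fr.Av u * g ∈ Subgroup.normalizer (Fr.A : Set G) ∧ (g⁻¹ * Fr.Av u * g) * t = t * (g⁻¹ * Fr.Av u * g) := by
    intro u hu hc
    have hct' : Commute (g⁻¹ * Fr.Av u * g) t := by simpa using hct hgt'.inv_left hu
    refine ⟨Fr.good_centralizer D hfus hv hgood hct'.eq ?_, hct'.eq⟩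
    calc g⁻¹ * Fr.Av u * g * Fr.Av v = g⁻¹ * (Fr.Av u * (g * Fr.Av v * g⁻¹)) * g := by group
      _ = g⁻¹ * ((g * Fr.Av v * g⁻¹) * Fr.Av u) * g := by rw [show (g * Fr.Av v * g⁻¹) * Fr.Av u = _ from hc]
      _ = _ := by group
  have hgood' : ∀ {u}, u < 2048 → isDel u = true → g⁻¹ * Fr.Av u * g ∈ Fr.A →
      g ∈ Subgroup.normalizer (Fr.A : Set G) := fun {u} hu hd hm =>
    inv_mem_iff.1 (Fr.good_in_A D hfus hgt'.inv_left.eq hu (del_good hu hd) (by rwa [inv_inv]))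
  obtain ⟨hx0N, hx0t⟩ := hback w hwlt hwy
  by_cases hx0A : g⁻¹ * Fr.Av w * g ∈ Fr.A
  · exact hgood' hwlt hw hx0A
  obtain ⟨hx1N, hx1t⟩ := hback w' hw'lt hwy'
  have hsq : g⁻¹ * Fr.Av w * g * (g⁻¹ * Fr.Av w * g) = 1 := by
    rw [show g⁻¹ * Fr.Av w * g * (g⁻¹ * Fr.Av w * g) = g⁻¹ * (Fr.Av w * Fr.Av w) * g by group,
      Fr.A_sq _ (Fr.Av_mem hwlt), mul_one, inv_mul_cancel]
  obtain ⟨T0, -, hT0s, hK0⟩ := hinv ⟨_, hx0N⟩ hsq hx0A hx0t
  by_cases hgN : g ∈ Subgroup.normalizer (Fr.A : Set G)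
  · exact hgN
  have hkey : ∀ e f', e ≠ f' → ({e, f'} : Finset GolayPt) ∈ T0 → g⁻¹ * Fr.Av w' * g * Fr.Av (cN (idx e) ^^^ cN (idx f'))
      = Fr.Av (cN (idx e) ^^^ cN (idx f')) * (g⁻¹ * Fr.Av w' * g) := by
    intro e f' hef hmem
    obtain ⟨e1, f1, hef1, heq, hdel, hcomm⟩ := hT0s _ hmem
    have hv1 : cN (idx e) ^^^ cN (idx f') = cN (idx e1) ^^^ cN (idx f1) := by
      refine vb_inj (duad_lt e f') (duad_lt e1 f1) ?_
      rw [duad_eq, duad_eq, ← Finset.sum_pair (f := cV) hef, ← Finset.sum_pair (f := cV) hef1, heq]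
    rw [hv1]
    set u := cN (idx e1) ^^^ cN (idx f1) with hu
    have hult : u < 2048 := duad_lt e1 f1
    obtain ⟨u', hu', eu', -, -, -, hdel'⟩ := Fr.kind_move D hx1N hx1t hult
    by_contra hne'
    have hne2 : u ≠ u' := fun e => hne' (by rw [← e] at eu'; exact mul_inv_eq_iff_eq_mul.1 eu')
    rw [hdel] at hdel'
    have hgd := del_xor hult hu' hdel hdel' hne2
    -- the commutator lies in both groups
    have hgu : g * Fr.Av u * g⁻¹ ∈ Subgroup.normalizer (Fr.A : Set G) := by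
      refine Fr.good_centralizer D hfus hwlt (del_good hwlt hw) (hct hgt' hult).eq ?_
      calc g * Fr.Av u * g⁻¹ * Fr.Av w = g * (Fr.Av u * (g⁻¹ * Fr.Av w * g)) * g⁻¹ := by group
        _ = g * ((g⁻¹ * Fr.Av w * g) * Fr.Av u) * g⁻¹ := by
            rw [show Fr.Av u * (g⁻¹ * Fr.Av w * g) = g⁻¹ * Fr.Av w * g * Fr.Av u from hcomm.symm]
        _ = _ := by group
    refine hgN (Fr.good_in_A D hfus hgt (Nat.xor_lt_two_pow (n := 11) hult hu') hgd ?_)
    rw [← Fr.Av_mul hult hu', ← eu']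
    have h1 := (Subgroup.mem_normalizer_iff.1 hgu _).1 (Fr.Av_mem hw'lt)
    have h2 := mul_mem h1 (inv_mem (Fr.Av_mem hw'lt))
    rw [show (g * Fr.Av u * g⁻¹)⁻¹ = g * Fr.Av u * g⁻¹ by
      rw [mul_inv_rev, mul_inv_rev, inv_inv, inv_eq_of_mul_eq_one_right (Fr.A_sq _ (Fr.Av_mem hult)), mul_assoc]] at h2
    convert h2 using 1
    group
  rcases hK0 ⟨_, hx1N⟩ hx1t hkey with hm | hm
  · exact hgood' hw'lt hw' hm
  · refine inv_mem_iff.1 (Fr.good_in_A D hfus hgt'.inv_left.eq (Nat.xor_lt_two_pow (n := 11) hw'lt hwlt)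
      (del_xor hw'lt hwlt hw' hw (Ne.symm hww)) ?_)
    rw [inv_inv, ← Fr.Av_mul hw'lt hwlt]
    convert hm using 1
    show g⁻¹ * (Fr.Av w' * Fr.Av w) * g = g⁻¹ * Fr.Av w' * g * (g⁻¹ * Fr.Av w * g)
    group

/-- The common element of two of the groups met by a pair. -/
theorem pair_common (D : Fr.Duadic) (hfus : Fr.Classes) {g : G} (hgt : g * Fr.Av vt0 = Fr.Av vt0 * g)
    (hgN : g ∉ Subgroup.normalizer (Fr.A : Set G)) {v : ℕ} (hv : v < 2048) (hdel : isDel v = true) :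
    ∃ d < 2048, isBad d = true ∧ g⁻¹ * Fr.Av d * g ∈ Fr.A ∧ isGood (v ^^^ d) = true := by
  obtain ⟨⟨-, hT6, h10g, h10, h10'⟩, -⟩ := second_check
  set t := Fr.Av vt0 with ht
  set u := Fr.Av v with hu
  set y := g * Fr.Av 10 * g⁻¹ with hy
  have hgt' : Commute g t := hgt
  have hut : Commute u t := Fr.A_comm _ (Fr.Av_mem hv) _ (Fr.Av_mem vt0_lt)
  have h10t : Commute (Fr.Av 10) t := Fr.A_comm _ (Fr.Av_mem (by norm_num)) _ (Fr.Av_mem vt0_lt)
  have hyt : Commute y t := (hgt'.mul_left h10t).mul_left hgt'.inv_left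
  have hu2 : u * u = 1 := Fr.A_sq _ (Fr.Av_mem hv)
  have hy2 : y * y = 1 := by
    rw [hy, show g * Fr.Av 10 * g⁻¹ * (g * Fr.Av 10 * g⁻¹) = g * (Fr.Av 10 * Fr.Av 10) * g⁻¹ by group,
      Fr.A_sq _ (Fr.Av_mem (by norm_num)), mul_one, mul_inv_cancel]
  have hdT : tMask.testBit v = true ∧ tMask.testBit (v ^^^ vt0) = false := by
    simp only [isDel, Bool.and_eq_true, Bool.not_eq_true'] at hdel
    exact ⟨hdel.1.2, hdel.2⟩
  have hv0 : v ≠ 0 := fun e => by rw [e, mask_check.2.2.2] at hdT; exact Bool.noConfusion hdT.1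
  have hv6 : v ^^^ vt0 ≠ 0 := fun e => by
    have := Nat.xor_eq_zero_iff.1 e
    simp [isDel, this] at hdel
  -- the classes of the two involutions
  have hu_not : ¬ ∃ k : G, k * z * k⁻¹ = u := fun hk => by
    rw [((hfus v hv).1 hk).2] at hdT; exact Bool.noConfusion hdT.1
  obtain ⟨k1, hk1⟩ := (hfus 10 (by norm_num)).2 ⟨by norm_num, h10⟩
  obtain ⟨k2, hk2⟩ := (hfus (10 ^^^ vt0) (by decide)).2 ⟨by decide, h10'⟩
  obtain ⟨k3, hk3⟩ := (hfus (v ^^^ vt0) (Nat.xor_lt_two_pow (n := 11) hv vt0_lt)).2 ⟨hv6, hdT.2⟩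
  rw [← Fr.Av_mul hv vt0_lt] at hk3
  rw [← Fr.Av_mul (by norm_num) vt0_lt] at hk2
  have hzy : ∃ k : G, k * z * k⁻¹ = y := ⟨g * k1, by rw [hy, ← hk1]; group⟩
  have hzyt : ∃ k : G, k * z * k⁻¹ = y * t := ⟨g * k2, by
    rw [show g * k2 * z * (g * k2)⁻¹ = g * (k2 * z * k2⁻¹) * g⁻¹ by group, hk2, ← ht,
      show g * (Fr.Av 10 * t) * g⁻¹ = g * Fr.Av 10 * g⁻¹ * (g * t * g⁻¹) by group, hgt, mul_inv_cancel_right]⟩
  have notz : ∀ {x k : G}, (∃ l : G, l * z * l⁻¹ = x) → k * u * k⁻¹ = x → False := by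
    rintro x k ⟨l, hl⟩ e
    exact hu_not ⟨k⁻¹ * l, by
      rw [show k⁻¹ * l * z * (k⁻¹ * l)⁻¹ = k⁻¹ * (l * z * l⁻¹) * k by group, hl, ← e]; group⟩
  set q := u * y with hq
  have hui : u⁻¹ = u := inv_eq_of_mul_eq_one_right hu2
  have huq : u * q * u⁻¹ = q⁻¹ := by
    rw [hq, mul_inv_rev, hui, inv_eq_of_mul_eq_one_right hy2, ← mul_assoc u u, hu2, one_mul]
  have hpow : ∀ j, q ^ j * u * (q ^ j)⁻¹ = q ^ (j + j) * u := fun j => by
    have h := conj_pow (i := j) (a := u) (b := q)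
    rw [huq, inv_pow] at h
    calc q ^ j * u * (q ^ j)⁻¹ = q ^ j * u * (u * q ^ j * u⁻¹) := by rw [h]
      _ = q ^ j * (u * u) * q ^ j * u⁻¹ := by group
      _ = _ := by rw [hu2, mul_one, hui, pow_add]
  have hqu : q * u = u * y * u⁻¹ := by rw [hq, hui]
  rcases Nat.even_or_odd (orderOf q) with ⟨m, hm⟩ | ⟨m, hm⟩
  swap
  · exfalso
    refine notz (x := u * y * u⁻¹) (k := q ^ (m + 1)) ?_ ?_
    · obtain ⟨l, hl⟩ := hzy
      exact ⟨u * l, by rw [← hl]; group⟩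
    · rw [hpow, show m + 1 + (m + 1) = orderOf q + 1 by omega, pow_add, pow_orderOf_eq_one, one_mul, pow_one, hqu]
  have hm0 : 0 < m := by have := orderOf_pos q; omega
  set c := q ^ m with hc
  have hc2 : c * c = 1 := by rw [hc, ← pow_add, ← hm, pow_orderOf_eq_one]
  have hci : c⁻¹ = c := inv_eq_of_mul_eq_one_right hc2
  have hc1 : c ≠ 1 := fun e => by
    have := Nat.le_of_dvd hm0 (orderOf_dvd_of_pow_eq_one e)
    omega
  have hcu : c * u = u * c := by
    have h := conj_pow (i := m) (a := u) (b := q)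
    rw [huq, inv_pow, ← hc, hci] at h
    calc c * u = u * c * u⁻¹ * u := by rw [← h]
      _ = u * c := by group
  have hcq : c * q = q * c := by rw [hc, ← pow_succ, ← pow_succ']
  have hcy : c * y = y * c := by
    have e : y = u * q := by rw [hq, ← mul_assoc, hu2, one_mul]
    rw [e, ← mul_assoc c u q, hcu, mul_assoc u c q, hcq, mul_assoc u q c]
  have hct : Commute c t := (hut.mul_left hyt).pow_left m
  have hct1 : c ≠ t := by
    intro e
    rcases Nat.even_or_odd m with ⟨j, hj⟩ | ⟨j, hj⟩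
    · refine notz (x := u * t) (k := q ^ j) ⟨k3, by rw [hk3]⟩ ?_
      rw [hpow, ← hj, ← hc, e, hut.eq]
    · refine notz (x := u * (y * t) * u⁻¹) (k := q ^ (j + 1)) ?_ ?_
      · obtain ⟨l, hl⟩ := hzyt
        exact ⟨u * l, by rw [← hl]; group⟩
      · rw [hpow, show j + 1 + (j + 1) = m + 1 by omega, pow_succ, ← hc, e, mul_assoc, hqu]
        calc t * (u * y * u⁻¹) = u * t * y * u⁻¹ := by rw [hut.eq]; group
          _ = _ := by rw [mul_assoc u t y, ← hyt.eq]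
  have hcN : c ∈ Subgroup.normalizer (Fr.A : Set G) := Fr.good_centralizer D hfus hv (del_good hv hdel) hct.eq hcu
  have hgct : Commute (g⁻¹ * c * g) t := (hgt'.inv_left.mul_left hct).mul_left hgt'
  have hgcN : g⁻¹ * c * g ∈ Subgroup.normalizer (Fr.A : Set G) := by
    refine Fr.good_centralizer D hfus (by norm_num) h10g hgct.eq ?_
    calc g⁻¹ * c * g * Fr.Av 10 = g⁻¹ * (c * y) * g := by rw [hy]; group
      _ = g⁻¹ * (y * c) * g := by rw [hcy]
      _ = _ := by rw [hy]; group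
  -- conjugates of good elements in the normaliser lie in the group
  have hclosed : ∀ {x k : G} {w : ℕ}, w < 2048 → isGood w = true → Commute k t → k * Fr.Av w * k⁻¹ = x →
      x ∈ Subgroup.normalizer (Fr.A : Set G) → ∃ w' < 2048, isGood w' = true ∧ x = Fr.Av w' := by
    intro x k w hw hgw hk e hx
    have hkN := Fr.good_closed D hfus hk.eq hw hgw (by rw [e]; exact hx)
    obtain ⟨w', hw', ew', -, -, hg', -⟩ := Fr.kind_move D hkN hk.eq hw
    exact ⟨w', hw', hg'.trans hgw, by rw [← e, ew']⟩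
  have huN : u ∈ Subgroup.normalizer (Fr.A : Set G) := Subgroup.le_normalizer (Fr.Av_mem hv)
  obtain ⟨h, hht, hcase⟩ := dihedral_conj hu2 hy2 m
  have hh : Commute h t := (hht t hut.symm.eq hyt.symm.eq).symm
  rw [← hq, ← hc] at hcase
  obtain ⟨w1, hw1, hg1, e1⟩ : ∃ w' < 2048, isGood w' = true ∧ c * u = Fr.Av w' := by
    rcases hcase with e | e
    · exact hclosed hv (del_good hv hdel) hh e (mul_mem hcN huN)
    · refine hclosed (k := h * g) (by norm_num : (10 : ℕ) < 2048) h10g (hh.mul_left hgt') ?_ (mul_mem hcN huN)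
      rw [← e, hy]; group
  obtain ⟨h', hht', hcase'⟩ := dihedral_conj hy2 hu2 m
  have hh' : Commute h' t := (hht' t hyt.symm.eq hut.symm.eq).symm
  have hyu : (y * u) ^ m = c := by
    rw [show y * u = q⁻¹ by rw [hq, mul_inv_rev, hui, inv_eq_of_mul_eq_one_right hy2], inv_pow, ← hc, hci]
  rw [hyu] at hcase'
  have hycN : g⁻¹ * (c * y) * g ∈ Subgroup.normalizer (Fr.A : Set G) := by
    rw [show g⁻¹ * (c * y) * g = g⁻¹ * c * g * Fr.Av 10 by rw [hy]; group]
    exact mul_mem hgcN (Subgroup.le_normalizer (Fr.Av_mem (by norm_num)))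
  obtain ⟨w2, hw2, -, e2⟩ : ∃ w' < 2048, isGood w' = true ∧ g⁻¹ * (c * y) * g = Fr.Av w' := by
    rcases hcase' with e | e
    · refine hclosed (k := g⁻¹ * h' * g) (by norm_num : (10 : ℕ) < 2048) h10g
        ((hgt'.inv_left.mul_left hh').mul_left hgt') ?_ hycN
      rw [← e, hy]; group
    · refine hclosed (k := g⁻¹ * h') hv (del_good hv hdel) (hgt'.inv_left.mul_left hh') ?_ hycN
      rw [← e, hu]; group
  have hcw : c = Fr.Av (w1 ^^^ v) := by
    rw [← Fr.Av_mul hw1 hv, ← e1, ← hu, mul_assoc, hu2, mul_one]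
  have hd := Nat.xor_lt_two_pow (n := 11) hw1 hv
  set d := w1 ^^^ v with hddef
  have hgd : g⁻¹ * Fr.Av d * g ∈ Fr.A := by
    rw [← hcw, show g⁻¹ * c * g = g⁻¹ * (c * y) * g * Fr.Av 10 by
      rw [show Fr.Av 10 = g⁻¹ * y * g by rw [hy]; group,
        show g⁻¹ * (c * y) * g * (g⁻¹ * y * g) = g⁻¹ * (c * (y * y)) * g by group, hy2, mul_one], e2]
    exact mul_mem (Fr.Av_mem hw2) (Fr.Av_mem (by norm_num))
  refine ⟨d, hd, ?_, hgd, ?_⟩
  · have hnd : isGood d = false := by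
      by_contra hgdg
      rw [Bool.not_eq_false] at hgdg
      exact hgN (inv_mem_iff.1 (Fr.good_in_A D hfus hgt'.inv_left.eq hd hgdg (by rwa [inv_inv])))
    have hd0 : d ≠ 0 := fun e => hc1 (by rw [hcw, e, Fr.Av_zero])
    have hd6 : d ≠ vt0 := fun e => hct1 (by rw [hcw, e])
    simpa [isGood, isBad, hd0, hd6] using hnd
  · rw [hddef, Nat.xor_comm w1, ← Nat.xor_assoc, Nat.xor_self, Nat.zero_xor]
    exact hg1

/-- The centraliser of the chosen element. -/
theorem centralizer_vt0 (D : Fr.Duadic) (hfus : Fr.Classes) {g : G} (hgt : g * Fr.Av vt0 = Fr.Av vt0 * g) :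
    g ∈ Subgroup.normalizer (Fr.A : Set G) := by
  by_contra hgN
  have hdel : isDel (cN 3 ^^^ cN 4) = true ∧ cN 3 ^^^ cN 4 < 2048 := by decide +kernel
  obtain ⟨d, hd, hbad, hgd, -⟩ := Fr.pair_common D hfus hgt hgN hdel.2 hdel.1
  obtain ⟨u, hu, hudel, hnot⟩ := bad_move hd hbad
  obtain ⟨d', hd', hbad', hgd', hgood'⟩ := Fr.pair_common D hfus hgt hgN hu hudel
  rcases bad_xor hd hd' hbad hbad' with h | h | h
  · refine hgN (inv_mem_iff.1 (Fr.good_in_A D hfus (show Commute g _ from hgt).inv_left.eq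
      (Nat.xor_lt_two_pow (n := 11) hd hd') h ?_))
    rw [inv_inv, ← Fr.Av_mul hd hd']
    have := mul_mem hgd hgd'
    convert this using 1
    group
  · rw [← Nat.xor_eq_zero_iff.1 h, hnot] at hgood'
    exact Bool.noConfusion hgood'
  · have e : d' = d ^^^ vt0 := by rw [← h, ← Nat.xor_assoc, Nat.xor_self, Nat.zero_xor]
    rw [e, ← Nat.xor_assoc, good_flip (Nat.xor_lt_two_pow (n := 11) hu hd), hnot] at hgood'
    exact Bool.noConfusion hgood'

/-- The centraliser of an element of the second class lies in the normaliser. -/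
theorem centralizer_le_normalizer (D : Fr.Duadic) (hfus : Fr.Classes) {v : ℕ} (hv : v < 2048)
    (hT : tMask.testBit v = true) :
    Subgroup.centralizer ({Fr.Av v} : Set G) ≤ Subgroup.normalizer (Fr.A : Set G) := by
  intro x hx
  rw [Subgroup.mem_centralizer_singleton_iff] at hx
  obtain ⟨a, b, hab, hval⟩ := mask_duad hv hT
  obtain ⟨f, -, hsurj, hf⟩ := Fr.exists_toM24 D
  have h12 : pt 1 ≠ pt 2 := by decide +kernel
  haveI := M24_pretransitive (n := 2) (by norm_num)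
  obtain ⟨k, hk1, hk2⟩ := MulAction.is_two_pretransitive_iff.mp ‹_› h12 hab
  obtain ⟨n, hn⟩ := hsurj k
  obtain ⟨w, hw, ew⟩ := (Subgroup.mem_normalizer_iff.1 n.2 _).1 (Fr.Av_mem vt0_lt)
  have hwv : w = v := by
    refine vb_inj hw hv ?_
    have h1 := hf n (pt 1) (pt 2) h12
    rw [← duad_eq, idx_pt (by norm_num), idx_pt (by norm_num), second_check.1.1,
      Fr.actV_vb n vt0_lt hw ew.symm, hn] at h1
    rw [h1, ← hval, duad_eq, show (k : Equiv.Perm GolayPt) (pt 1) = a from hk1,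
      show (k : Equiv.Perm GolayPt) (pt 2) = b from hk2]
  rw [hwv] at ew
  have hy := Fr.centralizer_vt0 D hfus (g := (n : G)⁻¹ * x * n) (by
    calc (n : G)⁻¹ * x * n * Fr.Av vt0 = (n : G)⁻¹ * (x * Fr.Av v) * n := by rw [ew]; group
      _ = (n : G)⁻¹ * (Fr.Av v * x) * n := by rw [hx]
      _ = _ := by rw [ew]; group)
  have := mul_mem (mul_mem n.2 hy) (inv_mem n.2)
  rwa [show (n : G) * ((n : G)⁻¹ * x * n) * (n : G)⁻¹ = x by group] at this

end Frame

end Cfsg.Agent.Spor.JFour
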