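import Cfsg.Agent.Lib.Spor.JFourType.Mathieu.Hom

/-! Every involution of the normaliser of the elementary abelian group of order 2048 is conjugate into that group. -/

set_option autoImplicit false
set_option maxRecDepth 100000
set_option Elab.async false

open Cfsg Cfsg.Agent.Spor.Golay
open Cfsg.Agent.Spor.Cos.J4Sub (app mm app_mm app_xor app_zero)

namespace Cfsg.Agent.Spor.JFour.Mathieu

/-- The permutation centralising the first translation. -/
def tauP : ℕ := 0x8ae97416ac8364414c67525cf006c6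

/-- Its matrix. -/
def tauM : List ℕ := [88, 90, 1769, 216, 193, 240, 24, 33, 294, 682, 724]

/-- The four classes outside the core. -/
def badR : List (ℕ × ℕ) := [(128, 0), (136, 2), (144, 3), (152, 5)]

/-- Moved into the core by a translation of the group itself. -/
def toLow (M : List ℕ) (v : ℕ) : Bool := (List.range 2048).any fun w => decide (v ^^^ (w ^^^ app M w) < 128)

/-- Moved to one of the four. -/
def toBad (v : ℕ) : Bool :=
  badR.any fun r => (List.range 2048).any fun w => v ^^^ (w ^^^ app u1M w) == r.1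

theorem fuse_two : ((List.range 2048).all fun v => !(app u2M v == v) || toLow u2M v) = true := by decide +kernel

theorem fuse_one : ((List.range 2048).all fun v => !(app u1M v == v) || toLow u1M v || toBad v) = true ∧
    ((List.range 2048).all fun d => !(app u1M d == d) || toLow u1M (app tauM 128 ^^^ d) || toBad d) = true := by
  decide +kernel

theorem tau_check : permOK tauM tauP = true ∧ comp tauP u1P = comp u1P tauP ∧
    (tauM.all fun c => decide (c < 2048)) = true ∧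
    (badR.all fun r => decide (r.1 < 2048) && ((r.1 == 128) || (decide (r.2 < 6) && [0, 1].all fun δ =>
      (List.range 2048).any fun w => (app (m11T r.2) 128 ^^^ δ) ^^^ (w ^^^ app u1M w) == r.1))) = true := by
  decide +kernel

/-- The matrices used to reach the lower half. -/
def moveM : List (List ℕ) := [mX, mY, mS, mW, mQ, mO, mA 0, mA 1, mA 2, mA 3]

/-- The vectors reaching the lower half in one more step. -/
def stepMask (m : ℕ) : ℕ :=
  (List.range 4096).foldl (fun acc v => if m.testBit v || moveM.any (fun M => m.testBit (app M v)) then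
    acc ||| 2 ^ v else acc) 0

/-- The levels. -/
def levMask : ℕ → ℕ
  | 0 => 2 ^ 64 - 1
  | n + 1 => stepMask (levMask n)

theorem lev_check : ((List.range 4096).all fun v => qv v || (levMask 6).testBit v) = true := by decide +kernel

theorem testBit_foldl (p : ℕ → Bool) : ∀ (L : List ℕ) (acc v : ℕ),
    (L.foldl (fun a u => if p u then a ||| 2 ^ u else a) acc).testBit v = true →
      acc.testBit v = true ∨ (v ∈ L ∧ p v = true)
  | [], _, _, h => Or.inl h
  | u :: L, acc, v, h => by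
    rw [List.foldl_cons] at h
    rcases testBit_foldl p L _ v h with h' | ⟨h1, h2⟩
    · by_cases hp : p u = true
      · rw [if_pos hp, Nat.testBit_or, Bool.or_eq_true, Nat.testBit_two_pow, decide_eq_true_eq] at h'
        rcases h' with h' | rfl
        · exact Or.inl h'
        · exact Or.inr ⟨List.mem_cons_self .., hp⟩
      · rw [if_neg hp] at h'
        exact Or.inl h'
    · exact Or.inr ⟨List.mem_cons_of_mem _ h1, h2⟩

end Cfsg.Agent.Spor.JFour.Mathieu

namespace Cfsg.Agent.Spor.JFour.Frame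

open Mathieu

variable {G : Type*} [Group G] {z : G} {P : Subgroup G} {S : Setting z P} (Fr : Frame S)

/-- Conjugate into the elementary abelian group. -/
def Into [Finite G] (x : G) : Prop := ∃ g : G, g * x * g⁻¹ ∈ Fr.A

variable [Finite G]

theorem into_conj {x : G} (g : G) (h : Fr.Into (g * x * g⁻¹)) : Fr.Into x := by
  obtain ⟨k, hk⟩ := h
  exact ⟨k * g, by rwa [show k * g * x * (k * g)⁻¹ = k * (g * x * g⁻¹) * k⁻¹ by group]⟩

theorem into_conj' {x : G} (g : G) (h : Fr.Into x) : Fr.Into (g * x * g⁻¹) :=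
  Fr.into_conj g⁻¹ (by rwa [show g⁻¹ * (g * x * g⁻¹) * g⁻¹⁻¹ = x by group])

theorem mover {M : List ℕ} (hM : M ∈ moveM) : ∃ g, Fr.F.Rep g M := by
  simp only [moveM, List.mem_cons, List.not_mem_nil, or_false] at hM
  rcases hM with rfl | rfl | rfl | rfl | rfl | rfl | rfl | rfl | rfl | rfl
  · exact ⟨_, (Fr.F.toCoord.lift_spec (k := 4) (by norm_num)).2.2⟩
  · exact ⟨_, (Fr.F.toCoord.lift_spec (k := 5) (by norm_num)).2.2⟩
  · exact ⟨_, Fr.F.rs⟩
  · exact ⟨_, Fr.F.rw'⟩
  · exact ⟨_, Fr.F.rq⟩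
  · exact ⟨_, Fr.F.ro⟩
  · exact ⟨_, Fr.F.toCoord.rep_a (i := 0) (by norm_num)⟩
  · exact ⟨_, Fr.F.toCoord.rep_a (i := 1) (by norm_num)⟩
  · exact ⟨_, Fr.F.toCoord.rep_a (i := 2) (by norm_num)⟩
  · exact ⟨_, Fr.F.toCoord.rep_a (i := 3) (by norm_num)⟩

/-- An involution of the core is conjugate into the group. -/
theorem into_core {x : G} (hx : x ∈ twoCoreOfCentralizer z) (h2 : x * x = 1) : Fr.Into x := by
  obtain ⟨n, hn, e⟩ := Fr.F.toCoord.surj (S.rep x)
  have hq : qv n = false := by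
    have h := S.q_sq x hx
    rw [h2, ← e, Fr.F.toCoord.form n hn] at h
    cases hb : qv n
    · rfl
    · rw [hb] at h
      exact absurd (h.trans (ExtraOut.pw_one z)).symm S.ext.ne
  have hbit : (levMask 6).testBit n = true := by
    simpa [hq] using List.all_eq_true.1 lev_check n (List.mem_range.2 hn)
  have key : ∀ k, ∀ n, n < 4096 → (levMask k).testBit n = true → ∀ x ∈ twoCoreOfCentralizer z,
      S.rep x = Fr.F.Φ n → Fr.Into x := by
    intro k
    induction k with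
    | zero =>
      intro n _ hb x hx e
      have h64 : n < 64 := by
        by_contra hge
        rw [levMask, Nat.testBit_lt_two_pow (lt_of_lt_of_le (Nat.sub_lt (Nat.two_pow_pos 64) Nat.one_pos)
          (Nat.pow_le_pow_right two_pos (not_lt.1 hge)))] at hb
        exact Bool.false_ne_true hb
      refine ⟨1, ?_⟩
      rw [one_mul, inv_one, mul_one]
      rcases Fr.F.toCoord.lh_cases hx e with h | h <;> rw [h, ← Fr.Av_low h64]
      · exact Fr.Av_mem (by omega)
      · exact mul_mem (Fr.Av_mem (by omega)) Fr.z_mem_A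
    | succ k ih =>
      intro n hn hb x hx e
      rw [levMask, stepMask] at hb
      rcases testBit_foldl _ _ _ _ hb with h | ⟨-, h⟩
      · simp at h
      rw [Bool.or_eq_true, List.any_eq_true] at h
      rcases h with h | ⟨M, hM, h⟩
      · exact ih n hn h x hx e
      · obtain ⟨g, hg⟩ := Fr.mover hM
        refine Fr.into_conj g (ih _ (app_lt_of_ok hg.ok n) h _ (S.ext.norm g hg.hz x hx) ?_)
        rw [← S.act_rep g hg.hz x hx, e, hg.eq n hn]
  exact key 6 n hn hbit x hx e.symm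

theorem Av_core {v : ℕ} (hv : v < 128) : Fr.Av v ∈ twoCoreOfCentralizer z := by
  rw [Av, show v / 128 = 0 by omega, Fr.X.b_zero, mul_one]
  exact mul_mem (S.zp_mem_E _) (Fr.F.toCoord.lh_spec _).1

theorem Av_inv {v : ℕ} (hv : v < 2048) : (Fr.Av v)⁻¹ = Fr.Av v :=
  inv_eq_of_mul_eq_one_right (by rw [Fr.Av_mul hv hv, Nat.xor_self, Fr.Av_zero])

/-- Conjugation of a coset element by the group. -/
theorem coset_move {u : G} {M : List ℕ} (hM : Fr.Act u M) {v w : ℕ} (hv : v < 2048) (hw : w < 2048) :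
    Fr.Av w * (Fr.Av v * u) * (Fr.Av w)⁻¹ = Fr.Av (v ^^^ (w ^^^ app M w)) * u := by
  rw [Fr.Av_inv hw, show Fr.Av w * (Fr.Av v * u) * Fr.Av w = Fr.Av w * Fr.Av v * (u * Fr.Av w * u⁻¹) * u by group,
    hM.eq w hw, Fr.Av_mul hw hv, Fr.Av_mul (Nat.xor_lt_two_pow (n := 11) hw hv) (hM.lt w), Nat.xor_comm w v,
    Nat.xor_assoc]

theorem into_low {u : G} {M : List ℕ} (hM : Fr.Act u M) (hu : u ∈ twoCoreOfCentralizer z) {v : ℕ} (hv : v < 2048)
    (h2 : Fr.Av v * u * (Fr.Av v * u) = 1) (h : toLow M v = true) : Fr.Into (Fr.Av v * u) := by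
  simp only [toLow, List.any_eq_true, List.mem_range, decide_eq_true_eq] at h
  obtain ⟨w, hw, hlt⟩ := h
  refine Fr.into_conj (Fr.Av w) (Fr.into_core ?_ ?_)
  · rw [Fr.coset_move hM hv hw]
    exact mul_mem (Fr.Av_core hlt) hu
  · rw [show ∀ a b : G, a * b * a⁻¹ * (a * b * a⁻¹) = a * (b * b) * a⁻¹ from fun a b => by group, h2]
    group

/-- The action of an element with given image. -/
theorem act_of_toM24 {f : ↥(Subgroup.normalizer (Fr.A : Set G)) →* ↥Cfsg.M24}
    (hf : ∀ n a b, a ≠ b → Fr.actV n (cV a + cV b) =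
      cV ((f n : Equiv.Perm GolayPt) a) + cV ((f n : Equiv.Perm GolayPt) b))
    (n : ↥(Subgroup.normalizer (Fr.A : Set G))) {M : List ℕ} {Q : ℕ} (hlt : ∀ c ∈ M, c < 2048)
    (hQ : permOK M Q = true) (hn : (f n : Equiv.Perm GolayPt) = permOf Q) : Fr.Act (n : G) M := by
  simp only [permOK, Bool.and_eq_true, List.all_eq_true, List.mem_range, beq_iff_eq] at hQ
  obtain ⟨hQm, hQd⟩ := hQ
  have hv : valid Q = true := by simp only [inM24, Bool.and_eq_true] at hQm; exact hQm.1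
  have hl := Cos.J4Sub.app_lt (n := 11) hlt
  refine ⟨hl, fun v hv' => ?_⟩
  obtain ⟨w, hw, ew⟩ := (Subgroup.mem_normalizer_iff.1 n.2 _).1 (Fr.Av_mem hv')
  suffices h : Fr.actV n (vb v) = vb (app M v) by
    rw [Fr.actV_vb n hv' hw ew.symm] at h
    rw [← ew, vb_inj hw (hl v) h]
  have hgen : ∀ a, a < 24 → a ≠ 0 → Fr.actV n (vb (cN 0 ^^^ cN a)) = vb (app M (cN 0 ^^^ cN a)) := by
    intro a ha hne
    have hne' : pt 0 ≠ pt a := fun e => by
      have e' := congrArg idx e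
      rw [idx_pt (by norm_num), idx_pt ha] at e'
      exact hne e'.symm
    have h1 := hf n (pt 0) (pt a) hne'
    rw [hn, ← duad_eq, ← duad_eq, idx_permOf hv, idx_permOf hv, idx_pt (by norm_num), idx_pt ha] at h1
    rw [h1, Nat.xor_comm (cN 0), hQd a ha 0 (Nat.pos_of_ne_zero hne), Nat.xor_comm]
  have hz : Fr.actV n (vb 0) = vb (app M 0) := by
    rw [app_zero]
    exact Fr.actV_vb n (by norm_num) (by norm_num) (by rw [Fr.Av_zero, mul_one, mul_inv_cancel])
  have hfold : ∀ L : List ℕ, (∀ a ∈ L, a ≠ 0 ∧ a < 24) →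
      Fr.actV n (vb (L.foldr (fun a s => cN 0 ^^^ cN a ^^^ s) 0)) =
        vb (app M (L.foldr (fun a s => cN 0 ^^^ cN a ^^^ s) 0)) := by
    intro L
    induction L with
    | nil => intro _; exact hz
    | cons a L ih =>
      intro h
      obtain ⟨ha0, ha⟩ := h a (List.mem_cons_self ..)
      rw [List.foldr_cons, app_xor, vb_xor, Fr.actV_add, hgen a ha ha0,
        ih (fun b hb => h b (List.mem_cons_of_mem _ hb)), ← vb_xor]
  refine xor_induction (p := fun v => Fr.actV n (vb v) = vb (app M v)) hz 11 (fun i hi m _ ih => ?_) v hv'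
  have h := List.all_eq_true.1 unit_check i (List.mem_range.2 hi)
  simp only [Bool.and_eq_true, List.all_eq_true, beq_iff_eq, bne_iff_ne, ne_eq, decide_eq_true_eq] at h
  have h1 := hfold _ fun a ha => h.1 a ha
  rw [h.2] at h1
  rw [vb_xor, Fr.actV_add, h1, ih, ← vb_xor, ← app_xor]

/-- The exceptional class. -/
theorem into_x0 (D : Fr.Duadic) : Fr.Into (Fr.Av 128 * Fr.u1) := by
  obtain ⟨f, hker, hsurj, hf⟩ := Fr.exists_toM24 D
  obtain ⟨⟨a2, aA, aE⟩, -, -, -⟩ := Fr.u_spec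
  obtain ⟨htau, hcomm, htlt, hbad⟩ := tau_check
  simp only [List.all_eq_true, decide_eq_true_eq] at htlt
  have hinM : inM24 tauP = true := by
    have h := htau
    simp only [permOK, Bool.and_eq_true] at h
    exact h.1
  have hvt : valid tauP = true := by
    have h := hinM
    simp only [inM24, Bool.and_eq_true] at h
    exact h.1
  have hvu : valid u1P = true := by
    have h := class_checks.1
    simp only [permOK, inM24, Bool.and_eq_true] at h
    exact h.1.1
  obtain ⟨n, hn⟩ := hsurj ⟨permOf tauP, permOf_mem_M24 hinM⟩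
  have hnp : (f n : Equiv.Perm GolayPt) = permOf tauP := congrArg Subtype.val hn
  have hact := Fr.act_of_toM24 hf n htlt htau hnp
  let v1 : ↥(Subgroup.normalizer (Fr.A : Set G)) := ⟨Fr.u1, Fr.mem_normalizer_of_act aA⟩
  have hv1 : (f v1 : Equiv.Perm GolayPt) = permOf u1P := Fr.toM24_eq hf aA v1.2 class_checks.1
  have hd : f (n * v1 * n⁻¹ * v1⁻¹) = 1 := by
    refine Subtype.ext ?_
    rw [map_mul, map_mul, map_mul, map_inv, map_inv]
    show (f n : Equiv.Perm GolayPt) * f v1 * (f n : Equiv.Perm GolayPt)⁻¹ * (f v1 : Equiv.Perm GolayPt)⁻¹ = 1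
    rw [hnp, hv1, ← permOf_comp hvt hvu, hcomm, permOf_comp hvu hvt, mul_inv_cancel_right, mul_inv_cancel]
  obtain ⟨d, hdlt, hde⟩ := (hker _).1 hd
  have hn1 : (n : G) * Fr.u1 * (n : G)⁻¹ = Fr.Av d * Fr.u1 := by
    have : Fr.Av d = (n : G) * Fr.u1 * (n : G)⁻¹ * Fr.u1⁻¹ := hde
    rw [this, inv_mul_cancel_right]
  have hdd : Fr.Av d * Fr.u1 * (Fr.Av d * Fr.u1) = 1 := by
    rw [← hn1, show ∀ a b : G, a * b * a⁻¹ * (a * b * a⁻¹) = a * (b * b) * a⁻¹ from fun a b => by group, a2]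
    group
  have hfix : app u1M d = d := by
    have h : Fr.Av d * (Fr.u1 * Fr.Av d * Fr.u1⁻¹) = 1 := by
      rw [inv_eq_of_mul_eq_one_right a2, ← hdd]; group
    rw [aA.eq d hdlt, Fr.Av_mul hdlt (aA.lt d), ← Fr.Av_zero] at h
    exact (Nat.xor_eq_zero_iff.1 (Fr.Av_inj (Nat.xor_lt_two_pow (n := 11) hdlt (aA.lt d)) (by norm_num) h)).symm
  have hc := List.all_eq_true.1 fuse_one.2 d (List.mem_range.2 hdlt)
  simp only [hfix, beq_self_eq_true, Bool.not_true, Bool.false_or, Bool.or_eq_true] at hc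
  rcases hc with hc | hc
  · refine Fr.into_conj (n : G) ?_
    rw [show (n : G) * (Fr.Av 128 * Fr.u1) * (n : G)⁻¹ = (n : G) * Fr.Av 128 * (n : G)⁻¹ * ((n : G) * Fr.u1 * (n : G)⁻¹)
      by group, hact.eq 128 (by norm_num), hn1, ← mul_assoc, Fr.Av_mul (hact.lt 128) hdlt]
    refine Fr.into_low aA aE (Nat.xor_lt_two_pow (n := 11) (hact.lt 128) hdlt) ?_ hc
    rw [← Fr.Av_mul (hact.lt 128) hdlt]
    have hx : Fr.Av 128 * Fr.u1 * (Fr.Av 128 * Fr.u1) = 1 := by
      have h128 : app u1M 128 = 128 := by decide +kernel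
      calc Fr.Av 128 * Fr.u1 * (Fr.Av 128 * Fr.u1)
          = Fr.Av 128 * (Fr.u1 * Fr.Av 128 * Fr.u1⁻¹) * (Fr.u1 * Fr.u1) := by group
        _ = 1 := by rw [aA.eq 128 (by norm_num), h128, Fr.Av_mul (by norm_num) (by norm_num), Nat.xor_self,
            Fr.Av_zero, a2, one_mul]
    calc Fr.Av (app tauM 128) * Fr.Av d * Fr.u1 * (Fr.Av (app tauM 128) * Fr.Av d * Fr.u1)
        = (n : G) * (Fr.Av 128 * Fr.u1 * (Fr.Av 128 * Fr.u1)) * (n : G)⁻¹ := by
          rw [mul_assoc (Fr.Av (app tauM 128)), ← hn1, ← hact.eq 128 (by norm_num)]; group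
      _ = 1 := by rw [hx]; group
  · -- the class of a conjugate of the translation
    have hu1 : Fr.Into (Fr.Av d * Fr.u1) := hn1 ▸ Fr.into_conj' (n : G) (Fr.into_core aE a2)
    simp only [toBad, List.any_eq_true, List.mem_range, beq_iff_eq] at hc
    obtain ⟨r, hr, w, hw, ew⟩ := hc
    have hr' := List.all_eq_true.1 hbad r hr
    simp only [Bool.and_eq_true, decide_eq_true_eq, Bool.or_eq_true, beq_iff_eq, List.all_eq_true, List.any_eq_true,
      List.mem_range] at hr'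
    obtain ⟨hrlt, hrr⟩ := hr'
    have h1 : Fr.Into (Fr.Av r.1 * Fr.u1) := by
      rw [← ew, ← Fr.coset_move aA hdlt hw]
      exact Fr.into_conj' _ hu1
    rcases hrr with e | ⟨hi, hδ⟩
    · rwa [e] at h1
    · have hm : (2 : ℕ) ^ (6 + r.2) < 4096 := Nat.pow_lt_pow_right (by norm_num) (show 6 + r.2 < 12 by omega)
      obtain ⟨hmE, hmr, -⟩ := Fr.F.toCoord.lh_spec (2 ^ (6 + r.2))
      have hact2 := Fr.act_tr hi
      obtain ⟨δ, hδ2, hconj⟩ : ∃ δ, (δ = 0 ∨ δ = 1) ∧
          Fr.F.lh (2 ^ (6 + r.2)) * Fr.u1 * (Fr.F.lh (2 ^ (6 + r.2)))⁻¹ = Fr.Av δ * Fr.u1 := by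
        have h := S.q_conj _ hmE Fr.u1 aE
        generalize QuadraticMap.polar S.q (S.rep (Fr.F.lh (2 ^ (6 + r.2)))) (S.rep Fr.u1) = t at h
        rcases ExtraOut.two_cases t with rfl | rfl
        · exact ⟨0, Or.inl rfl, by rw [h, ExtraOut.pw_zero, mul_one, Fr.Av_zero, one_mul]⟩
        · exact ⟨1, Or.inr rfl, by rw [h, ExtraOut.pw_one, S.ext.central _ aE]; exact congrArg (· * Fr.u1) Fr.Av_one.symm⟩
      obtain ⟨w', hw', ew'⟩ := hδ δ (by rcases hδ2 with rfl | rfl <;> simp)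
      have hlt' : app (m11T r.2) 128 ^^^ δ < 2048 :=
        Nat.xor_lt_two_pow (n := 11) (hact2.lt 128) (by rcases hδ2 with rfl | rfl <;> norm_num)
      refine Fr.into_conj (Fr.F.lh (2 ^ (6 + r.2))) (Fr.into_conj (Fr.Av w') ?_)
      rw [show Fr.F.lh (2 ^ (6 + r.2)) * (Fr.Av 128 * Fr.u1) * (Fr.F.lh (2 ^ (6 + r.2)))⁻¹ =
          Fr.F.lh (2 ^ (6 + r.2)) * Fr.Av 128 * (Fr.F.lh (2 ^ (6 + r.2)))⁻¹ *
            (Fr.F.lh (2 ^ (6 + r.2)) * Fr.u1 * (Fr.F.lh (2 ^ (6 + r.2)))⁻¹) by group,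
        hact2.eq 128 (by norm_num), hconj, ← mul_assoc (Fr.Av (app (m11T r.2) 128)),
        Fr.Av_mul (hact2.lt 128) (by rcases hδ2 with rfl | rfl <;> norm_num), Fr.coset_move aA hlt' hw', ew']
      exact h1

/-- Every involution of the normaliser is conjugate into the group. -/
theorem invol_into (D : Fr.Duadic) {x : G} (hx : x ∈ Subgroup.normalizer (Fr.A : Set G)) (h2 : x * x = 1) :
    Fr.Into x := by
  obtain ⟨f, hker, hsurj, hf⟩ := Fr.exists_toM24 D
  by_cases h1 : f ⟨x, hx⟩ = 1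
  · exact ⟨1, by simpa using (hker _).1 h1⟩
  obtain ⟨⟨a2, aA, aE⟩, b2, bA, bE⟩ := Fr.u_spec
  have hσ2 : f ⟨x, hx⟩ * f ⟨x, hx⟩ = 1 := by
    rw [← map_mul, show (⟨x, hx⟩ : ↥(Subgroup.normalizer (Fr.A : Set G))) * ⟨x, hx⟩ = 1 from Subtype.ext h2, map_one]
  obtain ⟨k, hk, hcase⟩ := invol_conj (f ⟨x, hx⟩).2 (congrArg Subtype.val hσ2) fun e => h1 (Subtype.ext e)
  obtain ⟨m, hm⟩ := hsurj ⟨k, hk⟩
  -- reduce to the coset of a translation
  have red : ∀ {u : G} {M : List ℕ} {Q : ℕ}, u * u = 1 → Fr.Act u M → permOK M Q = true →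
      k * (f ⟨x, hx⟩ : Equiv.Perm GolayPt) * k⁻¹ = permOf Q →
      ∃ v < 2048, app M v = v ∧ (m : G) * x * (m : G)⁻¹ = Fr.Av v * u ∧ Fr.Av v * u * (Fr.Av v * u) = 1 := by
    intro u M Q hu hM hQ e
    let u' : ↥(Subgroup.normalizer (Fr.A : Set G)) := ⟨u, Fr.mem_normalizer_of_act hM⟩
    have h : f (m * ⟨x, hx⟩ * m⁻¹ * u'⁻¹) = 1 := by
      refine Subtype.ext ?_
      rw [map_mul, map_mul, map_mul, map_inv, map_inv, hm]
      show k * (f ⟨x, hx⟩ : Equiv.Perm GolayPt) * k⁻¹ * (f u' : Equiv.Perm GolayPt)⁻¹ = 1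
      rw [e, Fr.toM24_eq hf hM u'.2 hQ, mul_inv_cancel]
    obtain ⟨v, hv, hve⟩ := (hker _).1 h
    have e1 : (m : G) * x * (m : G)⁻¹ = Fr.Av v * u := by
      have : Fr.Av v = (m : G) * x * (m : G)⁻¹ * u⁻¹ := hve
      rw [this, inv_mul_cancel_right]
    have e2 : Fr.Av v * u * (Fr.Av v * u) = 1 := by
      rw [← e1, show (m : G) * x * (m : G)⁻¹ * ((m : G) * x * (m : G)⁻¹) = (m : G) * (x * x) * (m : G)⁻¹ by group, h2]
      group
    refine ⟨v, hv, ?_, e1, e2⟩
    have h3 : Fr.Av v * (u * Fr.Av v * u⁻¹) = 1 := by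
      rw [inv_eq_of_mul_eq_one_right hu, ← e2]; group
    rw [hM.eq v hv, Fr.Av_mul hv (hM.lt v), ← Fr.Av_zero] at h3
    exact (Nat.xor_eq_zero_iff.1 (Fr.Av_inj (Nat.xor_lt_two_pow (n := 11) hv (hM.lt v)) (by norm_num) h3)).symm
  rcases hcase with e | e
  · obtain ⟨v, hv, hfix, e1, e2⟩ := red a2 aA class_checks.1 e
    refine Fr.into_conj (m : G) (e1 ▸ ?_)
    have hc := List.all_eq_true.1 fuse_one.1 v (List.mem_range.2 hv)
    simp only [hfix, beq_self_eq_true, Bool.not_true, Bool.false_or, Bool.or_eq_true] at hc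
    rcases hc with hc | hc
    · exact Fr.into_low aA aE hv e2 hc
    · simp only [toBad, List.any_eq_true, List.mem_range, beq_iff_eq] at hc
      obtain ⟨r, hr, w, hw, ew⟩ := hc
      refine Fr.into_conj (Fr.Av w) ?_
      rw [Fr.coset_move aA hv hw, ew]
      have hr' := List.all_eq_true.1 tau_check.2.2.2 r hr
      simp only [Bool.and_eq_true, decide_eq_true_eq, Bool.or_eq_true, beq_iff_eq, List.all_eq_true, List.any_eq_true,
        List.mem_range] at hr'
      rcases hr'.2 with er | ⟨hi, hδ⟩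
      · rw [er]; exact Fr.into_x0 D
      · obtain ⟨hmE, hmr, -⟩ := Fr.F.toCoord.lh_spec (2 ^ (6 + r.2))
        have hact2 := Fr.act_tr hi
        obtain ⟨δ, hδ2, hconj⟩ : ∃ δ, (δ = 0 ∨ δ = 1) ∧
            Fr.F.lh (2 ^ (6 + r.2)) * Fr.u1 * (Fr.F.lh (2 ^ (6 + r.2)))⁻¹ = Fr.Av δ * Fr.u1 := by
          have h := S.q_conj _ hmE Fr.u1 aE
          generalize QuadraticMap.polar S.q (S.rep (Fr.F.lh (2 ^ (6 + r.2)))) (S.rep Fr.u1) = t at h
          rcases ExtraOut.two_cases t with rfl | rfl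
          · exact ⟨0, Or.inl rfl, by rw [h, ExtraOut.pw_zero, mul_one, Fr.Av_zero, one_mul]⟩
          · exact ⟨1, Or.inr rfl, by rw [h, ExtraOut.pw_one, S.ext.central _ aE]; exact congrArg (· * Fr.u1) Fr.Av_one.symm⟩
        obtain ⟨w', hw', ew'⟩ := hδ δ (by rcases hδ2 with rfl | rfl <;> simp)
        have hlt' : app (m11T r.2) 128 ^^^ δ < 2048 :=
          Nat.xor_lt_two_pow (n := 11) (hact2.lt 128) (by rcases hδ2 with rfl | rfl <;> norm_num)
        rw [← ew', ← Fr.coset_move aA hlt' hw']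
        refine Fr.into_conj' _ ?_
        rw [← Fr.Av_mul (hact2.lt 128) (by rcases hδ2 with rfl | rfl <;> norm_num), mul_assoc, ← hconj,
          ← hact2.eq 128 (by norm_num),
          show ∀ e a b : G, e * a * e⁻¹ * (e * b * e⁻¹) = e * (a * b) * e⁻¹ from fun e a b => by group]
        exact Fr.into_conj' _ (Fr.into_x0 D)
  · obtain ⟨v, hv, hfix, e1, e2⟩ := red b2 bA class_checks.2.1 e
    refine Fr.into_conj (m : G) (e1 ▸ Fr.into_low bA bE hv e2 ?_)
    simpa [hfix] using List.all_eq_true.1 fuse_two v (List.mem_range.2 hv)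

end Cfsg.Agent.Spor.JFour.Frame
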