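import Cfsg.Agent.Lib.Spor.Golay.M24
import Cfsg.Agent.Lib.Spor.Golay.Basic

/-!
A group acting linearly on the even cocode of the Golay code and preserving the classes of the 276 duads acts through
the Mathieu group of degree 24.
-/

set_option autoImplicit false
set_option maxRecDepth 100000

open scoped Pointwise

namespace Cfsg.Agent.Spor.JFour.Duads

open Cfsg Cfsg.Agent.Spor.Golay

section Meet

variable {α : Type*} [Fintype α] [DecidableEq α]

/-- A map of duads which preserves meeting comes from a permutation of the points. -/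
theorem exists_perm (h5 : 5 ≤ Fintype.card α) (f : Finset α → Finset α)
    (hf : ∀ s, s.card = 2 → (f s).card = 2) (hinj : ∀ s t, s.card = 2 → t.card = 2 → f s = f t → s = t)
    (hmeet : ∀ a b d : α, a ≠ b → a ≠ d → b ≠ d → ∃ p, p ∈ f {a, b} ∧ p ∈ f {a, d}) :
    ∃ σ : Equiv.Perm α, ∀ a b, a ≠ b → f {a, b} = {σ a, σ b} := by
  classical
  have hcard : ∀ {a b : α}, a ≠ b → ({a, b} : Finset α).card = 2 := fun h => Finset.card_pair h
  have hpair : ∀ {a b d : α}, a ≠ b → a ≠ d → f {a, b} = f {a, d} → b = d := fun {a b d} hab had e => by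
    have := hinj _ _ (hcard hab) (hcard had) e
    have hb : b ∈ ({a, d} : Finset α) := this ▸ by simp
    simpa [Ne.symm hab] using hb
  -- the common point of a star
  have hstar : ∀ a : α, ∃ p, ∀ b, b ≠ a → p ∈ f {a, b} := by
    intro a
    have hle : 4 ≤ (Finset.univ.erase a).card := by
      rw [Finset.card_erase_of_mem (Finset.mem_univ a), Finset.card_univ]; omega
    obtain ⟨b₁, hb₁⟩ := Finset.card_pos.1 (by omega : 0 < (Finset.univ.erase a).card)
    obtain ⟨b₂, hb₂⟩ := Finset.card_pos.1 (by
      rw [Finset.card_erase_of_mem hb₁]; omega : 0 < ((Finset.univ.erase a).erase b₁).card)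
    simp only [Finset.mem_erase, Finset.mem_univ, and_true] at hb₁ hb₂
    obtain ⟨p, hp₁, hp₂⟩ := hmeet a b₁ b₂ (Ne.symm hb₁) (Ne.symm hb₂.2) (Ne.symm hb₂.1)
    obtain ⟨q, hpq, hq⟩ : ∃ q, q ≠ p ∧ f {a, b₁} = {p, q} := by
      obtain ⟨x, y, hxy, e⟩ := Finset.card_eq_two.1 (hf _ (hcard (Ne.symm hb₁)))
      rw [e] at hp₁ ⊢
      rcases Finset.mem_insert.1 hp₁ with rfl | h
      · exact ⟨y, Ne.symm hxy, rfl⟩
      · rw [Finset.mem_singleton] at h; subst h
        exact ⟨x, hxy, Finset.pair_comm _ _⟩
    obtain ⟨r, hpr, hr⟩ : ∃ r, r ≠ p ∧ f {a, b₂} = {p, r} := by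
      obtain ⟨x, y, hxy, e⟩ := Finset.card_eq_two.1 (hf _ (hcard (Ne.symm hb₂.2)))
      rw [e] at hp₂ ⊢
      rcases Finset.mem_insert.1 hp₂ with rfl | h
      · exact ⟨y, Ne.symm hxy, rfl⟩
      · rw [Finset.mem_singleton] at h; subst h
        exact ⟨x, hxy, Finset.pair_comm _ _⟩
    have hqr : q ≠ r := fun e => hb₂.1 (hpair (Ne.symm hb₂.2) (Ne.symm hb₁) (by rw [hr, hq, e]))
    -- a member avoiding the point is the opposite side
    have hopp : ∀ b, b ≠ a → p ∉ f {a, b} → f {a, b} = {q, r} := by
      intro b hb hp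
      have h1 : q ∈ f {a, b} := by
        have hne : b₁ ≠ b := fun e => hp (e ▸ hp₁)
        obtain ⟨x, hx, hx'⟩ := hmeet a b₁ b (Ne.symm hb₁) (Ne.symm hb) hne
        rw [hq, Finset.mem_insert, Finset.mem_singleton] at hx
        rcases hx with rfl | rfl
        · exact absurd hx' hp
        · exact hx'
      have h2 : r ∈ f {a, b} := by
        have hne : b₂ ≠ b := fun e => hp (e ▸ hp₂)
        obtain ⟨x, hx, hx'⟩ := hmeet a b₂ b (Ne.symm hb₂.2) (Ne.symm hb) hne
        rw [hr, Finset.mem_insert, Finset.mem_singleton] at hx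
        rcases hx with rfl | rfl
        · exact absurd hx' hp
        · exact hx'
      refine (Finset.eq_of_subset_of_card_le ?_ ?_).symm
      · intro x hx
        rw [Finset.mem_insert, Finset.mem_singleton] at hx
        rcases hx with rfl | rfl
        · exact h1
        · exact h2
      · rw [hf _ (hcard (Ne.symm hb)), Finset.card_pair hqr]
    refine ⟨p, fun b hb => ?_⟩
    by_contra hp
    obtain ⟨b₃, hb₃⟩ := Finset.card_pos.1 (show 0 < ((((Finset.univ.erase a).erase b₁).erase b₂).erase b).card by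
      have e1 := Finset.pred_card_le_card_erase (a := b) (s := ((Finset.univ.erase a).erase b₁).erase b₂)
      have e2 := Finset.pred_card_le_card_erase (a := b₂) (s := (Finset.univ.erase a).erase b₁)
      have e3 := Finset.pred_card_le_card_erase (a := b₁) (s := Finset.univ.erase a)
      omega)
    simp only [Finset.mem_erase, Finset.mem_univ, and_true] at hb₃
    obtain ⟨h3b, h32, h31, h3a⟩ := hb₃
    have hp₃ : p ∈ f {a, b₃} := by
      by_contra h
      exact h3b (hpair (Ne.symm h3a) (Ne.symm hb) ((hopp _ h3a h).trans (hopp _ hb hp).symm))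
    obtain ⟨x, hx, hx'⟩ := hmeet a b b₃ (Ne.symm hb) (Ne.symm h3a) (Ne.symm h3b)
    rw [hopp b hb hp, Finset.mem_insert, Finset.mem_singleton] at hx
    have hxp : x ≠ p := by rcases hx with rfl | rfl <;> assumption
    have he : f {a, b₃} = {p, x} := (Finset.eq_of_subset_of_card_le (fun y hy => by
      rw [Finset.mem_insert, Finset.mem_singleton] at hy
      rcases hy with rfl | rfl
      · exact hp₃
      · exact hx') (by rw [hf _ (hcard (Ne.symm h3a)), Finset.card_pair hxp.symm])).symm
    rcases hx with rfl | rfl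
    · exact h31 (hpair (Ne.symm h3a) (Ne.symm hb₁) (he.trans hq.symm))
    · exact h32 (hpair (Ne.symm h3a) (Ne.symm hb₂.2) (he.trans hr.symm))
  choose σ hσ using hstar
  have hinjσ : Function.Injective σ := by
    intro a a' e
    by_contra hne
    obtain ⟨d, hd⟩ := Finset.card_pos.1 (show 0 < ((Finset.univ.erase a).erase a').card by
      have e1 := Finset.pred_card_le_card_erase (a := a') (s := Finset.univ.erase a)
      have e2 := Finset.card_erase_of_mem (Finset.mem_univ a)
      rw [Finset.card_univ] at e2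
      omega)
    -- all duads at either point would contain the image
    let S : Finset (Finset α) := (Finset.univ.erase a).image (fun b => ({a, b} : Finset α)) ∪
      (Finset.univ.erase a').image (fun b => ({a', b} : Finset α))
    have hS2 : ∀ s ∈ S, s.card = 2 ∧ σ a ∈ f s := by
      intro s hs
      simp only [S, Finset.mem_union, Finset.mem_image, Finset.mem_erase, Finset.mem_univ, and_true] at hs
      rcases hs with ⟨b, hb, rfl⟩ | ⟨b, hb, rfl⟩
      · exact ⟨hcard (Ne.symm hb), hσ a b hb⟩
      · exact ⟨hcard (Ne.symm hb), e ▸ hσ a' b hb⟩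
    have h1 : S.card ≤ Fintype.card α - 1 := by
      rw [← Finset.card_univ, ← Finset.card_erase_of_mem (Finset.mem_univ (σ a))]
      have hmem : ∀ s ∈ S, ∃ y, y ≠ σ a ∧ f s = {σ a, y} := fun s hs => by
        obtain ⟨h2, h3⟩ := hS2 s hs
        obtain ⟨x, y, hxy, e'⟩ := Finset.card_eq_two.1 (hf _ h2)
        rw [e'] at h3 ⊢
        rcases Finset.mem_insert.1 h3 with h | h
        · exact ⟨y, by rw [h]; exact Ne.symm hxy, by rw [h]⟩
        · rw [Finset.mem_singleton] at h
          exact ⟨x, by rw [h]; exact hxy, by rw [h, Finset.pair_comm]⟩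
      choose g hg1 hg2 using hmem
      exact Finset.card_le_card_of_injOn (fun s => if h : s ∈ S then g s h else σ a)
        (fun s hs => by simp [Finset.mem_coe.1 hs, hg1])
        (fun s hs t ht est => by
          simp only [Finset.mem_coe] at hs ht
          simp only [hs, ht, dif_pos] at est
          exact hinj _ _ (hS2 s hs).1 (hS2 t ht).1 (by rw [hg2 s hs, hg2 t ht, est]))
    have h2 : Fintype.card α ≤ S.card := by
      refine le_trans (le_of_eq ?_) (Finset.card_le_card (s := insert {a', d}
        ((Finset.univ.erase a).image (fun b => ({a, b} : Finset α)))) ?_)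
      · rw [Finset.card_insert_of_notMem, Finset.card_image_of_injOn, Finset.card_erase_of_mem (Finset.mem_univ a),
          Finset.card_univ]
        · omega
        · intro x hx y _ exy
          simp only [Finset.mem_coe, Finset.mem_erase, Finset.mem_univ, and_true] at hx
          have hb : x ∈ ({a, y} : Finset α) := (show ({a, x} : Finset α) = {a, y} from exy) ▸ by simp
          simpa [hx] using hb
        · simp only [Finset.mem_image, not_exists, not_and]
          intro b _ eb
          have ha : a ∈ ({a', d} : Finset α) := eb ▸ by simp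
          simp only [Finset.mem_erase, Finset.mem_univ, and_true] at hd
          simp [hne, Ne.symm hd.2] at ha
      · intro s hs
        simp only [Finset.mem_insert] at hs
        rcases hs with rfl | hs
        · simp only [Finset.mem_erase, Finset.mem_univ, and_true] at hd
          exact Finset.mem_union_right _ (Finset.mem_image.2 ⟨d, by simp [hd.1], rfl⟩)
        · exact Finset.mem_union_left _ hs
    omega
  refine ⟨Equiv.ofBijective σ (Finite.injective_iff_bijective.1 hinjσ), fun a b hab => ?_⟩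
  have h2 : σ b ∈ f {a, b} := by rw [Finset.pair_comm]; exact hσ b a hab
  refine (Finset.eq_of_subset_of_card_le (fun x hx => ?_) ?_).symm
  · simp only [Finset.mem_insert, Finset.mem_singleton, Equiv.ofBijective_apply] at hx
    rcases hx with rfl | rfl
    · exact hσ a b (Ne.symm hab)
    · exact h2
  · rw [hf _ (hcard hab)]
    simp [Finset.card_pair (fun e => hab (hinjσ e) : σ a ≠ σ b)]

end Meet

/-- The even cocode with the duads: the relations between the 24 vectors. -/
structure Cocode {V : Type*} [AddCommGroup V] (c : GolayPt → V) : Prop where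
  two : ∀ v : V, v + v = 0
  code : ∀ b ∈ basis, ∑ i ∈ pts b, c i = 0
  ker : ∀ r, r < 4096 → pop (r <<< 12) % 2 = 0 → ∑ i ∈ pts (r <<< 12), c i = 0 → r = 0
  span : AddSubgroup.closure {v : V | ∃ a b, a ≠ b ∧ v = c a + c b} = ⊤

namespace Cocode

variable {V : Type*} [AddCommGroup V] {c : GolayPt → V} (hc : Cocode c)

include hc

theorem sum_symmDiff (s t : Finset GolayPt) :
    ∑ i ∈ symmDiff s t, c i = (∑ i ∈ s, c i) + ∑ i ∈ t, c i := by
  have e1 : symmDiff s t = s \ t ∪ t \ s := rfl
  have e2 : Disjoint (s \ t) (t \ s) :=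
    Finset.disjoint_left.mpr fun x h1 h2 => (Finset.mem_sdiff.mp h2).2 (Finset.mem_sdiff.mp h1).1
  rw [e1, Finset.sum_union e2, ← Finset.sum_sdiff (Finset.inter_subset_left (s₁ := s) (s₂ := t)),
    ← Finset.sum_sdiff (Finset.inter_subset_left (s₁ := t) (s₂ := s)), Finset.sdiff_inter_self_left,
    Finset.sdiff_inter_self_left, Finset.inter_comm t s, add_add_add_comm, hc.two, add_zero]

theorem sum_enc_aux (k : ℕ) : ∀ (L : List ℕ), (∀ b ∈ L, ∑ i ∈ pts b, c i = 0) →
    ∀ i, ∑ j ∈ pts (encAux k i L), c j = 0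
  | [], _, _ => by simp [encAux, pts]
  | d :: L, h, i => by
    simp only [encAux]
    rw [← pts_symmDiff, sum_symmDiff hc, sum_enc_aux k L (fun b hb => h b (List.mem_cons_of_mem _ hb)), add_zero]
    split
    · exact h d (List.mem_cons_self ..)
    · simp [pts]

theorem sum_code {s : Finset GolayPt} (hs : s ∈ supports (golayCode : Set (GolayPt → ZMod 2))) :
    ∑ i ∈ s, c i = 0 := by
  obtain ⟨m, hm, rfl⟩ := mem_supports.1 hs
  have h := mem_codeList.1 hm
  simp only [isCode, beq_iff_eq] at h
  rw [← h]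
  exact hc.sum_enc_aux _ _ hc.code 0

/-- An even set with vanishing sum is a code word. -/
theorem mem_code {s : Finset GolayPt} (he : Even s.card) (hs : ∑ i ∈ s, c i = 0) :
    s ∈ supports (golayCode : Set (GolayPt → ZMod 2)) := by
  obtain ⟨m, hm, rfl⟩ := exists_mask s
  have hcode : isCode (enc (m % 4096)) = true := by
    have hmem : enc (m % 4096) ∈ codeList :=
      List.mem_map.2 ⟨_, List.mem_range.2 (Nat.mod_lt _ (by norm_num)), rfl⟩
    exact mem_codeList.1 hmem
  set w := enc (m % 4096) with hw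
  have hwm : w % 4096 = m % 4096 := by
    have := List.map_eq_map_iff.mp ((codeList_check.2.trans (List.map_id _).symm).symm.trans
      (by rw [codeList, List.map_map])).symm (m % 4096) (List.mem_range.mpr (Nat.mod_lt _ (by norm_num)))
    simpa [hw] using this
  set r := (m ^^^ w) >>> 12 with hrd
  have hr : r <<< 12 = m ^^^ w := by
    rw [hrd, Nat.shiftRight_eq_div_pow, Nat.shiftLeft_eq]
    refine Nat.div_mul_cancel (Nat.dvd_of_mod_eq_zero ?_)
    rw [show 2 ^ 12 = 4096 from rfl, mod_xor, hwm, Nat.xor_self]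
  have hr4 : r < 4096 := by
    have h1 : m ^^^ w < 2 ^ 24 := Nat.xor_lt_two_pow hm (codeList_lt (mem_codeList.2 hcode))
    rw [hrd, Nat.shiftRight_eq_div_pow]
    exact Nat.div_lt_iff_lt_mul (by norm_num) |>.2 (lt_of_lt_of_le h1 (by norm_num))
  have hwsupp : pts w ∈ supports (golayCode : Set (GolayPt → ZMod 2)) :=
    mem_supports.2 ⟨w, mem_codeList.2 hcode, rfl⟩
  have hsum : ∑ i ∈ pts (r <<< 12), c i = 0 := by
    rw [hr, ← pts_symmDiff, sum_symmDiff hc, hs, hc.sum_code hwsupp, add_zero]
  have hpar : pop (r <<< 12) % 2 = 0 := by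
    rw [hr]
    have h1 := pop_xor_add m w
    have h2 : pop w % 2 = 0 := by
      rcases pop_code (mem_codeList.2 hcode) with e | e | e | e | e <;> omega
    rw [card_pts, Nat.even_iff] at he
    omega
  have h0 := hc.ker r hr4 hpar hsum
  rw [h0, Nat.zero_shiftLeft, eq_comm, Nat.xor_eq_zero_iff] at hr
  rw [hr]
  exact hwsupp

theorem eq_empty {s : Finset GolayPt} (he : Even s.card) (h6 : s.card ≤ 6) (hs : ∑ i ∈ s, c i = 0) : s = ∅ := by
  obtain ⟨m, hm, rfl⟩ := mem_supports.1 (hc.mem_code he hs)
  rw [← Finset.card_eq_zero]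
  rw [card_pts] at h6 ⊢
  rcases pop_code hm with e | e | e | e | e <;> omega

theorem pair_inj {s t : Finset GolayPt} (hs : s.card = 2) (ht : t.card = 2) (e : ∑ i ∈ s, c i = ∑ i ∈ t, c i) :
    s = t := by
  have h := hc.sum_symmDiff s t
  rw [e, hc.two] at h
  have hcard : (symmDiff s t).card + 2 * (s ∩ t).card = 4 := by
    have e1 : symmDiff s t = s \ t ∪ t \ s := rfl
    have e2 : Disjoint (s \ t) (t \ s) :=
      Finset.disjoint_left.mpr fun x h1 h2 => (Finset.mem_sdiff.mp h2).2 (Finset.mem_sdiff.mp h1).1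
    have f1 := Finset.card_sdiff_add_card_inter s t
    have f2 := Finset.card_sdiff_add_card_inter t s
    rw [Finset.inter_comm t s] at f2
    rw [e1, Finset.card_union_of_disjoint e2]
    omega
  exact symmDiff_eq_bot.1 (hc.eq_empty (Nat.even_iff.2 (by omega)) (by omega) h)

/-- Two duads whose classes add up to a class of a duad meet. -/
theorem meet {s t u : Finset GolayPt} (hs : s.card = 2) (ht : t.card = 2) (hu : u.card = 2)
    (e : (∑ i ∈ s, c i) + ∑ i ∈ t, c i = ∑ i ∈ u, c i) : (s ∩ t).Nonempty := by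
  rw [Finset.nonempty_iff_ne_empty]
  intro hd
  have hd' : Disjoint s t := Finset.disjoint_iff_inter_eq_empty.2 hd
  have h := hc.sum_symmDiff (s ∪ t) u
  rw [Finset.sum_union hd', e, hc.two] at h
  have e1 : symmDiff (s ∪ t) u = (s ∪ t) \ u ∪ u \ (s ∪ t) := rfl
  have e2 : Disjoint ((s ∪ t) \ u) (u \ (s ∪ t)) :=
    Finset.disjoint_left.mpr fun x h1 h2 => (Finset.mem_sdiff.mp h2).2 (Finset.mem_sdiff.mp h1).1
  have f1 := Finset.card_sdiff_add_card_inter (s ∪ t) u
  have f2 := Finset.card_sdiff_add_card_inter u (s ∪ t)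
  rw [Finset.inter_comm u] at f2
  rw [Finset.card_union_of_disjoint hd', hs, ht] at f1
  rw [hu] at f2
  have hcard : (symmDiff (s ∪ t) u).card + 2 * ((s ∪ t) ∩ u).card = 6 := by
    rw [e1, Finset.card_union_of_disjoint e2]; omega
  have h0 := hc.eq_empty (Nat.even_iff.2 (by omega)) (by omega) h
  have h4 := congrArg Finset.card (symmDiff_eq_bot.1 h0)
  rw [Finset.card_union_of_disjoint hd'] at h4
  omega

/-- A group preserving the classes of the duads acts through the group of the code. -/
theorem exists_hom {N : Type*} [Group N] (ρ : N →* Equiv.Perm V)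
    (hadd : ∀ n x y, ρ n (x + y) = ρ n x + ρ n y)
    (hT : ∀ n a b, a ≠ b → ∃ x y, x ≠ y ∧ ρ n (c a + c b) = c x + c y) :
    ∃ f : N →* ↥Cfsg.M24, f.ker = ρ.ker ∧
      ∀ n a b, a ≠ b → ρ n (c a + c b) = c ((f n : Equiv.Perm GolayPt) a) + c ((f n : Equiv.Perm GolayPt) b) := by
  classical
  have hex : ∀ n, ∃ σ : Equiv.Perm GolayPt, ∀ a b, a ≠ b → ρ n (c a + c b) = c (σ a) + c (σ b) := by
    intro n
    have him : ∀ s : Finset GolayPt, s.card = 2 → ∃ u : Finset GolayPt, u.card = 2 ∧
        ρ n (∑ i ∈ s, c i) = ∑ i ∈ u, c i := fun s hs => by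
      obtain ⟨a, b, hab, rfl⟩ := Finset.card_eq_two.1 hs
      obtain ⟨x, y, hxy, e⟩ := hT n a b hab
      exact ⟨{x, y}, Finset.card_pair hxy, by rw [Finset.sum_pair hab, Finset.sum_pair hxy, e]⟩
    let f : Finset GolayPt → Finset GolayPt := fun s => if h : s.card = 2 then (him s h).choose else ∅
    have hf : ∀ s (h : s.card = 2), (f s).card = 2 ∧ ρ n (∑ i ∈ s, c i) = ∑ i ∈ f s, c i := fun s h => by
      simp only [f, dif_pos h]; exact (him s h).choose_spec
    obtain ⟨σ, hσ⟩ := exists_perm (by rw [card_golayPt]; norm_num) f (fun s h => (hf s h).1)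
      (fun s t hs ht e => hc.pair_inj hs ht ((ρ n).injective (by rw [(hf s hs).2, (hf t ht).2, e])))
      (fun a b d hab had hbd => by
        have h1 := hf _ (Finset.card_pair hab)
        have h2 := hf _ (Finset.card_pair had)
        have h3 := hf _ (Finset.card_pair hbd)
        have hsum : (∑ i ∈ ({a, b} : Finset GolayPt), c i) + ∑ i ∈ ({a, d} : Finset GolayPt), c i =
            ∑ i ∈ ({b, d} : Finset GolayPt), c i := by
          rw [Finset.sum_pair hab, Finset.sum_pair had, Finset.sum_pair hbd, add_add_add_comm, hc.two, zero_add]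
        obtain ⟨p, hp⟩ := hc.meet h1.1 h2.1 h3.1 (by rw [← h1.2, ← h2.2, ← h3.2, ← hadd, hsum])
        exact ⟨p, Finset.mem_inter.1 hp⟩)
    refine ⟨σ, fun a b hab => ?_⟩
    have h1 := (hf _ (Finset.card_pair hab)).2
    rwa [hσ a b hab, Finset.sum_pair hab, Finset.sum_pair (fun e => hab (σ.injective e))] at h1
  choose σ hσ using hex
  have huniq : ∀ {n : N} {τ : Equiv.Perm GolayPt}, (∀ a b, a ≠ b → ρ n (c a + c b) = c (τ a) + c (τ b)) → σ n = τ := by
    intro n τ hτ
    refine Equiv.ext fun a => ?_
    have hne : ∀ b, a ≠ b → ({σ n a, σ n b} : Finset GolayPt) = {τ a, τ b} := fun b hab =>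
      hc.pair_inj (Finset.card_pair fun e => hab ((σ n).injective e)) (Finset.card_pair fun e => hab (τ.injective e))
        (by rw [Finset.sum_pair (fun e => hab ((σ n).injective e)),
          Finset.sum_pair (fun e => hab (τ.injective e)), ← hσ n a b hab, ← hτ a b hab])
    obtain ⟨b, hb⟩ := Finset.card_pos.1 (show 0 < (Finset.univ.erase a).card by
      rw [Finset.card_erase_of_mem (Finset.mem_univ a), Finset.card_univ, card_golayPt]; norm_num)
    obtain ⟨d, hd⟩ := Finset.card_pos.1 (show 0 < ((Finset.univ.erase a).erase b).card by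
      rw [Finset.card_erase_of_mem hb, Finset.card_erase_of_mem (Finset.mem_univ a), Finset.card_univ, card_golayPt]
      norm_num)
    simp only [Finset.mem_erase, Finset.mem_univ, and_true] at hb hd
    have h1 : σ n a ∈ ({τ a, τ b} : Finset GolayPt) := hne b (Ne.symm hb) ▸ by simp
    have h2 : σ n a ∈ ({τ a, τ d} : Finset GolayPt) := hne d (Ne.symm hd.2) ▸ by simp
    simp only [Finset.mem_insert, Finset.mem_singleton] at h1 h2
    rcases h1 with h | h
    · exact h
    · rcases h2 with h' | h'
      · exact h'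
      · exact absurd (τ.injective (h.symm.trans h')) (Ne.symm hd.1)
  have hmul : ∀ n m, σ (n * m) = σ n * σ m := fun n m => huniq fun a b hab => by
    rw [map_mul, Equiv.Perm.mul_apply, hσ m a b hab, hσ n _ _ fun e => hab ((σ m).injective e)]
    rfl
  have hz : ∀ n, ρ n 0 = 0 := fun n => by
    have h := hadd n 0 0
    rw [add_zero, hc.two] at h
    exact h
  have hsum : ∀ n (k : ℕ) (s : Finset GolayPt), s.card = 2 * k →
      ρ n (∑ i ∈ s, c i) = ∑ i ∈ s.map (σ n).toEmbedding, c i := by
    intro n k
    induction k with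
    | zero => intro s hs; simp [Finset.card_eq_zero.1 hs, hz]
    | succ k ih =>
      intro s hs
      obtain ⟨a, ha⟩ := Finset.card_pos.1 (by omega : 0 < s.card)
      obtain ⟨b, hb⟩ := Finset.card_pos.1 (show 0 < (s.erase a).card by rw [Finset.card_erase_of_mem ha]; omega)
      have h2 : ((s.erase a).erase b).card = 2 * k := by
        rw [Finset.card_erase_of_mem hb, Finset.card_erase_of_mem ha]; omega
      have hab : a ≠ b := fun e => by simp [e] at hb
      rw [Finset.sum_map, ← Finset.add_sum_erase s _ ha, ← Finset.add_sum_erase (s.erase a) _ hb,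
        ← Finset.add_sum_erase s _ ha, ← Finset.add_sum_erase (s.erase a) _ hb, ← add_assoc, ← add_assoc,
        hadd, hσ n a b hab, ih _ h2, Finset.sum_map]
      rfl
  have hmem : ∀ n, σ n ∈ Cfsg.M24 := fun n => by
    rw [mem_M24_iff]
    intro b hb
    have hbs : pts b ∈ supports (golayCode : Set (GolayPt → ZMod 2)) :=
      mem_supports.mpr ⟨b, (mem_weightList.mp (basis_octad b hb)).1, rfl⟩
    have h8 : (pts b).card = 2 * 4 := by rw [card_pts, (mem_weightList.mp (basis_octad b hb)).2]
    have hmap : (σ n • pts b : Finset GolayPt) = (pts b).map (σ n).toEmbedding := by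
      rw [Finset.map_eq_image]; rfl
    rw [hmap]
    refine hc.mem_code ?_ ?_
    · rw [Finset.card_map, h8]; exact ⟨4, rfl⟩
    · rw [← hsum n 4 _ h8, hc.sum_code hbs, hz]
  refine ⟨{
    toFun := fun n => ⟨σ n, hmem n⟩
    map_one' := Subtype.ext (huniq fun a b _ => by rw [map_one, Equiv.Perm.one_apply]; rfl)
    map_mul' := fun n m => Subtype.ext (hmul n m) }, ?_, fun n a b hab => hσ n a b hab⟩
  ext n
  simp only [MonoidHom.mem_ker, MonoidHom.coe_mk, OneHom.coe_mk]
  constructor
  · intro h
    have h' : σ n = 1 := congrArg Subtype.val h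
    have hS : ∀ v ∈ AddSubgroup.closure {v : V | ∃ a b, a ≠ b ∧ v = c a + c b}, ρ n v = v := by
      intro v hv
      induction hv using AddSubgroup.closure_induction with
      | mem v hv =>
        obtain ⟨a, b, hab, rfl⟩ := hv
        rw [hσ n a b hab, h']; rfl
      | zero => exact hz n
      | add x y _ _ hx hy => rw [hadd, hx, hy]
      | neg x _ hx => rw [neg_eq_of_add_eq_zero_right (hc.two x), hx]
    refine Equiv.ext fun v => ?_
    rw [Equiv.Perm.one_apply]
    exact hS v (hc.span ▸ AddSubgroup.mem_top v)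
  · intro h
    exact Subtype.ext (huniq fun a b _ => by rw [h, Equiv.Perm.one_apply]; rfl)

end Cocode

end Cfsg.Agent.Spor.JFour.Duads
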